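import Groth.Agent.VecGrpLib.Split
import Groth.Agent.DiagRepLib.Scheme
import Groth.Prelude.Def_Red2

/-! The complement as a subgroup scheme. -/

set_option autoImplicit false
set_option backward.isDefEq.respectTransparency false
set_option backward.isDefEq.respectTransparency.types false
set_option linter.style.haveILetI false
set_option maxHeartbeats 1000000
set_option synthInstance.maxHeartbeats 400000

noncomputable section

universe u

open CategoryTheory CategoryTheory.Limits MonoidalCategory CartesianMonoidalCategory AlgebraicGeometry CoactBr WithConv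
open scoped MonObj TensorProduct

namespace Groth.Agent.VecGrp

attribute [-instance] CategoryTheory.Hom.commGroup
attribute [local instance] CoactBr.braidedAlgSpecOf

variable {k : Type u} [Field k] {A : Type u} [CommRing A] [HopfAlgebra k A]

theorem isClosedImmersion_pt {B C : Type u} [CommRing B] [Algebra k B] [CommRing C] [Algebra k C] (f : B →ₐ[k] C)
    (hf : Function.Surjective f) : IsClosedImmersion (pt (R := k) f).left := by
  rw [pt_left]
  exact IsClosedImmersion.spec_of_surjective _ hf

/-- The comparison of a product of spectra with the spectrum of the tensor product. -/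
theorem lift_pt_iso (B C : Type u) [CommRing B] [Algebra k B] [CommRing C] [Algebra k C] :
    IsIso (lift (pt (R := k) (Algebra.TensorProduct.includeLeft : B →ₐ[k] B ⊗[k] C))
      (pt (R := k) (Algebra.TensorProduct.includeRight : C →ₐ[k] B ⊗[k] C))) := by
  have h := lift_pt_pt (R := k) (Algebra.TensorProduct.includeLeft : B →ₐ[k] B ⊗[k] C)
    (Algebra.TensorProduct.includeRight : C →ₐ[k] B ⊗[k] C)
  have hid : Algebra.TensorProduct.lift (Algebra.TensorProduct.includeLeft : B →ₐ[k] B ⊗[k] C)
      (Algebra.TensorProduct.includeRight : C →ₐ[k] B ⊗[k] C) (fun _ _ => .all _ _) = AlgHom.id k (B ⊗[k] C) := by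
    ext <;> simp
  rw [hid, pt_id] at h
  exact IsIso.of_isIso_fac_right h

/-- The decomposition of a group by primitive elements with a retraction. -/
theorem exists_complement {G : Over (Spec (CommRingCat.of k))} [GrpObj G] (v : sp k A ≅ G) [IsMonHom v.hom]
    {r : ℕ} {y : Fin r → A} (hy : ∀ j, IsPrim k (y j))
    {s : A →ₐ[k] SymmetricAlgebra k (Fin r → k)} (hs : ∀ j, s (y j) = SymmetricAlgebra.ι k _ (Pi.single j 1))
    {n : ℕ} {x : Fin n → A} (hx : ∀ i, IsPrim k (x i)) (hgen : Algebra.adjoin k (Set.range x) = ⊤) :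
    ∃ (W : Over (Spec (CommRingCat.of k))) (instW : GrpObj W) (iW : W ⟶ G) (e : W ≅ sp k (A ⧸ zeroIdeal y)),
      IsMonHom iW ∧ iW = e.hom ≫ pt (Ideal.Quotient.mkₐ k (zeroIdeal y)) ≫ v.hom ∧ IsClosedImmersion iW.left ∧
        IsIso (((pt s ≫ v.hom) ⊗ₘ iW) ≫ μ[G]) := by
  haveI := isHopfIdeal_zeroIdeal hy
  let q : A →ₐ[k] A ⧸ zeroIdeal y := Ideal.Quotient.mkₐ k (zeroIdeal y)
  haveI : IsMonHom (pt (R := k) q) := by
    exact SekSuwa.isMonHom_specHom (Bialgebra.Quotient.mkBialgHom (R := k) (zeroIdeal y))
  haveI : IsIso v.hom.left := ((Over.forget _).mapIso v).isIso_hom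
  refine ⟨sp k (A ⧸ zeroIdeal y), inferInstance, pt q ≫ v.hom, Iso.refl _, inferInstance, by simp [q], ?_, ?_⟩
  · haveI := isClosedImmersion_pt (k := k) q Ideal.Quotient.mk_surjective
    show IsClosedImmersion ((pt (R := k) q).left ≫ v.hom.left)
    infer_instance
  · haveI hL := lift_pt_iso (k := k) (SymmetricAlgebra k (Fin r → k)) (A ⧸ zeroIdeal y)
    have hmul : lift (pt (R := k) (Algebra.TensorProduct.includeLeft :
          SymmetricAlgebra k (Fin r → k) →ₐ[k] SymmetricAlgebra k (Fin r → k) ⊗[k] (A ⧸ zeroIdeal y)))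
        (pt (R := k) (Algebra.TensorProduct.includeRight :
          A ⧸ zeroIdeal y →ₐ[k] SymmetricAlgebra k (Fin r → k) ⊗[k] (A ⧸ zeroIdeal y))) ≫
        ((pt s ⊗ₘ pt q) ≫ μ[sp k A]) = pt (splitMap y s) := by
      rw [lift_map_assoc, ← pt_comp, ← pt_comp, ← Hom.mul_def, pt_mul_pt]
      congr 1
      show _ = (Algebra.TensorProduct.map s q).comp _
      congr 1
      ext <;> simp
    haveI : IsIso ((pt (R := k) s ⊗ₘ pt q) ≫ μ[sp k A]) := by
      haveI : IsIso (pt (R := k) (splitMap y s)) := by
        haveI : IsIso ((Over.forget _).map (pt (R := k) (splitMap y s))) := by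
          show IsIso (pt (R := k) (splitMap y s)).left
          rw [pt_left]
          haveI : IsIso (CommRingCat.ofHom (splitMap y s).toRingHom) :=
            (RingEquiv.ofBijective (splitMap y s).toRingHom (bijective_splitMap hy hs hx hgen)).toCommRingCatIso.isIso_hom
          exact inferInstanceAs (IsIso (Spec.map (CommRingCat.ofHom (splitMap y s).toRingHom)))
        exact isIso_of_reflects_iso _ (Over.forget _)
      exact IsIso.of_isIso_fac_left hmul
    have hfac : ((pt s ≫ v.hom) ⊗ₘ (pt q ≫ v.hom)) ≫ μ[G] = ((pt (R := k) s ⊗ₘ pt q) ≫ μ[sp k A]) ≫ v.hom := by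
      rw [← tensorHom_comp_tensorHom, Category.assoc, Category.assoc, IsMonHom.mul_hom v.hom]
    rw [hfac]
    infer_instance

end Groth.Agent.VecGrp
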