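import Groth.Agent.BorelLib.RedUnip
import Groth.Agent.BorelLib.BaseChange
import Groth.Agent.DiagRepLib.Scheme
import Groth.Agent.UnipHopfLib.BaseChange
import Groth.Agent.UnipHopfLib.Socle
import Groth.Agent.S5423
import Groth.Agent.GeomRedFieldLib.Scheme
import Mathlib.RingTheory.Nilpotent.GeometricallyReduced

/-! Smooth connected affine groups without geometric subtori have unipotent Hopf algebras. -/

set_option autoImplicit false
set_option linter.style.haveILetI false
set_option linter.unusedSectionVars false
set_option backward.isDefEq.respectTransparency false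
set_option maxHeartbeats 1000000
set_option synthInstance.maxHeartbeats 400000

universe u

open CategoryTheory CategoryTheory.Limits MonoidalCategory CartesianMonoidalCategory AlgebraicGeometry WithConv
open scoped MonObj TensorProduct
open CoactBr (sp)

noncomputable section

attribute [-instance] CategoryTheory.Hom.commGroup

namespace Groth.Agent.VecGrp

attribute [local instance] BorelLib.pTop BorelLib.pTopTensor

theorem isUnipotent_of_noSubtorus {K : Type u} [Field K] [IsAlgClosed K] {A : Type u} [CommRing A] [HopfAlgebra K A]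
    [Algebra.FiniteType K A] [_root_.IsReduced A] {U : Over (Spec (CommRingCat.of K))} [GrpObj U] [IsAffine U.left]
    [Smooth U.hom] [ConnectedSpace U.left] (v : sp K A ≅ U) [IsMonHom v.hom] (hno : Red.HasNoSubtorus K U) :
    HopfRep.IsUnipotent K A := by
  refine (Groth.Agent.S5423.result K A).2 fun g V _ _ _ hV => ?_
  haveI := hV
  let r : BorelLib.RegRep (⊤ : Subgroup (BorelLib.Pt K A)) V :=
    { ρ := fun g => LieKolchinLib.rep V g
      map_one := map_one _
      map_mul := fun g _ h _ => map_mul _ g h
      reg := fun φ v => ⟨ComodLib.coeff (A := A) φ v, fun g => LieKolchinLib.apply_rep φ g v⟩ }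
  have hu : BorelLib.IsUni (toConv g : BorelLib.Pt K A) := BorelLib.uni_of_hasNoSubtorus v (𝟙 U) hno _ (by
    rw [BorelLib.mem_ptsSub]
    exact ⟨_, Category.comp_id _⟩)
  exact hu V r

/-- The Hopf algebra of a smooth connected affine group without geometric subtori. -/
theorem exists_unip {k : Type u} [Field k] (U : Over (Spec (CommRingCat.of k))) [GrpObj U] [IsAffine U.left]
    [Smooth U.hom] [ConnectedSpace U.left]
    (hunip : ∀ s : ↥(Spec (CommRingCat.of k)),
      Red.HasNoSubtorus (AlgebraicClosure ((Spec (CommRingCat.of k)).residueField s)) (Red.geomFibre s U)) :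
    ∃ (A : Type u) (_ : CommRing A) (_ : HopfAlgebra k A) (v : sp k A ≅ U), IsMonHom v.hom ∧
      Algebra.FiniteType k A ∧ Algebra.IsGeometricallyReduced k A ∧ ∀ a : A, ∃ n, a ∈ UnipHopf.K k A n := by
  obtain ⟨A, _, _, v, hv, hA, -⟩ := BorelLib.exists_setup U
  haveI := hv; haveI := hA
  haveI : IsIso v.hom.left := ((Over.forget _).mapIso v).isIso_hom
  have hs : Smooth (sp k A).hom := by rw [← Over.w v.hom]; infer_instance
  haveI hsA : Algebra.Smooth k A := RingHom.smooth_algebraMap.1
    ((HasRingHomProperty.Spec_iff (P := @Smooth) (φ := CommRingCat.ofHom (algebraMap k A))).1 hs)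
  haveI : Algebra.IsGeometricallyReduced k A := by
    rw [Algebra.isGeometricallyReduced_field_iff]
    haveI : Smooth (Spec.map (CommRingCat.ofHom (algebraMap (AlgebraicClosure k) (AlgebraicClosure k ⊗[k] A)))) :=
      (HasRingHomProperty.Spec_iff (P := @Smooth)).2 (RingHom.smooth_algebraMap.2 inferInstance)
    haveI := AlgSpLib.isReduced_of_smooth
      (Spec.map (CommRingCat.ofHom (algebraMap (AlgebraicClosure k) (AlgebraicClosure k ⊗[k] A))))
    exact affine_isReduced_iff _ |>.1 this
  refine ⟨A, inferInstance, inferInstance, v, hv, hA, inferInstance, ?_⟩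
  let s : (Spec (CommRingCat.of k) : Scheme.{u}) := IsLocalRing.closedPoint k
  let K : Type u := AlgebraicClosure ((Spec (CommRingCat.of k)).residueField s)
  letI : Algebra k K := (Spec.preimage (Red.geomPt s)).hom.toAlgebra
  have hh : DiagRep.baseHom k K = Red.geomPt s := Spec.map_preimage _
  obtain ⟨haff, hsm, hconn⟩ := BorelLib.geom_facts s U
  have hno := hunip s
  rw [show Red.geomFibre s U = Red.bc (Red.geomPt s) U from rfl] at haff hsm hconn
  have hno' : Red.HasNoSubtorus K (Red.bc (Red.geomPt s) U) := hno
  rw [← hh] at haff hsm hconn hno'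
  let f := DiagRep.baseHom k K
  haveI hm : IsMonHom ((Over.pullback f).mapIso v).hom :=
    @Functor.map.instIsMonHom _ _ _ _ _ _ (Over.pullback f) _ _ _ _ _ v.hom _
  haveI : IsMonHom (asIso (DiagRep.bcHom k K A)).hom := DiagRep.isMonHom_bcHom k K A
  haveI : IsMonHom (asIso (DiagRep.bcHom k K A)).symm.hom := by
    dsimp only [Iso.symm_hom]; infer_instance
  let e : sp K (K ⊗[k] A) ≅ Red.bc f U :=
    (asIso (DiagRep.bcHom k K A)).symm ≪≫ (Over.pullback f).mapIso v
  haveI : IsMonHom e.hom := by dsimp only [e, Iso.trans_hom]; infer_instance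
  haveI : IsAffine (Red.bc f U).left := haff
  haveI : Smooth (Red.bc f U).hom := hsm
  haveI : ConnectedSpace (Red.bc f U).left := hconn
  haveI : _root_.IsReduced (K ⊗[k] A) := by
    haveI := GeomRedFieldLib.isReduced_tensor_geomRed (k := k) A K
    exact isReduced_of_injective (Algebra.TensorProduct.comm k K A) (AlgEquiv.injective _)
  have hU := isUnipotent_of_noSubtorus e hno'
  intro a
  obtain ⟨n, hn⟩ := UnipHopf.exhaustive_of_isUnipotent hU ((1 : K) ⊗ₜ[k] a)
  exact ⟨n, UnipHopf.mem_K_of_one_tmul hn⟩

end Groth.Agent.VecGrp
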