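import Groth.Agent.VecGrpLib.Noether
import Mathlib.FieldTheory.Perfect
import Mathlib.RingTheory.PrincipalIdealDomain
import Mathlib.RingTheory.Spectrum.Prime.Topology

/-! Over a perfect field primitive generators can be made independent. -/

set_option autoImplicit false
set_option maxHeartbeats 1000000
set_option linter.style.haveILetI false

noncomputable section

universe u

open scoped TensorProduct

namespace Groth.Agent.VecGrp

variable {k : Type u} [Field k]

theorem idempotent_eq_zero_or_one {A : Type u} [CommRing A] [PreconnectedSpace (PrimeSpectrum A)]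
    {e : A} (he : IsIdempotentElem e) : e = 0 ∨ e = 1 := by
  have hc : IsClopen (PrimeSpectrum.basicOpen e : Set (PrimeSpectrum A)) :=
    PrimeSpectrum.isClopen_iff.2 ⟨e, he, rfl⟩
  rcases isClopen_iff.1 hc with h | h
  · left
    exact PrimeSpectrum.basicOpen_injOn_isIdempotentElem he IsIdempotentElem.zero (SetLike.ext' (by rw [h]; simp))
  · right
    exact PrimeSpectrum.basicOpen_injOn_isIdempotentElem he IsIdempotentElem.one (SetLike.ext' (by rw [h]; simp))

theorem twist_coeff_add (p : ℕ) (γ : k) (δ : ℕ) (q : Polynomial k) (j : ℕ) :
    (twist p γ δ q).coeff (j + δ) = γ ^ p ^ j * q.coeff j := by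
  induction q using Polynomial.induction_on' with
  | add a b ha hb => simp [ha, hb, mul_add]
  | monomial l c =>
    rw [twist_monomial, Polynomial.coeff_monomial, Polynomial.coeff_monomial]
    split_ifs with h1 h2 h2
    · subst h2; rfl
    · omega
    · omega
    · simp

theorem natDegree_twist_le (p : ℕ) (γ : k) (δ : ℕ) (q : Polynomial k) :
    (twist p γ δ q).natDegree ≤ q.natDegree + δ := by
  rw [q.as_sum_support, map_sum]
  refine Polynomial.natDegree_sum_le_of_forall_le _ _ fun j hj => ?_
  rw [twist_monomial, ← q.as_sum_support]
  refine (Polynomial.natDegree_monomial_le _).trans ?_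
  have := Polynomial.le_natDegree_of_mem_supp j hj
  omega

variable {A : Type u} [CommRing A] [HopfAlgebra k A]

/-- A primitive element killed by an additive polynomial vanishes. -/
theorem prim_eq_zero_of_pev (p : ℕ) [hp : Fact p.Prime] [CharP k p] [IsReduced A] [PreconnectedSpace (PrimeSpectrum A)]
    {x : A} (hx : IsPrim k x) {c : Polynomial k} (hc : c ≠ 0) (h : pev p x c = 0) : x = 0 := by
  let q : Polynomial k := pev p Polynomial.X c
  have hq0 : q ≠ 0 := fun h0 => hc (eq_zero_of_pev_X_eq_zero p h0)
  have hqx : Polynomial.aeval x q = 0 := by rw [pev_algHom, Polynomial.aeval_X]; exact h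
  obtain ⟨r, hr, hrX⟩ := Polynomial.exists_eq_pow_rootMultiplicity_mul_and_not_dvd q hq0 0
  rw [map_zero, sub_zero] at hr hrX
  set s := q.rootMultiplicity 0
  obtain ⟨u', v', huv⟩ := (Polynomial.irreducible_X.coprime_iff_not_dvd).2 hrX
  rw [hr, map_mul, map_pow, Polynomial.aeval_X] at hqx
  have hxr : x * Polynomial.aeval x r = 0 :=
    IsReduced.eq_zero _ ⟨s + 1, by
      rw [mul_pow, pow_succ x s, pow_succ' (Polynomial.aeval x r) s]
      linear_combination (x * Polynomial.aeval x r ^ s) * hqx⟩
  have h1 : Polynomial.aeval x u' * x + Polynomial.aeval x v' * Polynomial.aeval x r = 1 := by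
    have := congrArg (Polynomial.aeval x) huv
    simpa using this
  have he : IsIdempotentElem (Polynomial.aeval x u' * x) := by
    show _ * _ = _
    linear_combination (Polynomial.aeval x u' * x) * h1 - (Polynomial.aeval x u' * Polynomial.aeval x v') * hxr
  rcases idempotent_eq_zero_or_one he with h0 | h0
  · calc x = x * (Polynomial.aeval x u' * x + Polynomial.aeval x v' * Polynomial.aeval x r) := by rw [h1, mul_one]
      _ = 0 := by linear_combination x * h0 + Polynomial.aeval x v' * hxr
  · exfalso
    have := congrArg (Bialgebra.counitAlgHom k A) h0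
    rw [map_mul, map_one, show Bialgebra.counitAlgHom k A x = 0 from hx.counit_eq_zero, mul_zero] at this
    exact zero_ne_one this

/-- Over a perfect field the primitive generators can be chosen independent. -/
theorem exists_independent (p : ℕ) [hp : Fact p.Prime] [CharP k p] [PerfectField k] [IsReduced A]
    [PreconnectedSpace (PrimeSpectrum A)] : ∀ (n : ℕ) (x : Fin n → A), (∀ i, IsPrim k (x i)) →
      Algebra.adjoin k (Set.range x) = ⊤ →
      ∃ (m : ℕ) (y : Fin m → A), (∀ i, IsPrim k (y i)) ∧ Algebra.adjoin k (Set.range y) = ⊤ ∧ AlgebraicIndependent k y := by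
  classical
  haveI : Nontrivial A := (Bialgebra.counitAlgHom k A).toRingHom.domain_nontrivial
  haveI : PerfectRing k p := PerfectField.toPerfectRing p
  intro n
  induction n with
  | zero =>
    exact fun x hx hgen => ⟨0, x, hx, hgen, algebraicIndependent_empty_type_iff.2 (algebraMap k A).injective⟩
  | succ n ih =>
    suffices h : ∀ (μ : ℕ) (x : Fin (n + 1) → A) (c : Fin (n + 1) → Polynomial k), (∀ i, IsPrim k (x i)) →
        Algebra.adjoin k (Set.range x) = ⊤ → c ≠ 0 → ∑ i, pev p (x i) (c i) = 0 →
        ∑ i, (if c i = 0 then 0 else (c i).natDegree + 1) = μ →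
        ∃ (m : ℕ) (y : Fin m → A), (∀ i, IsPrim k (y i)) ∧ Algebra.adjoin k (Set.range y) = ⊤ ∧ AlgebraicIndependent k y by
      intro x hx hgen
      by_cases hind : AlgebraicIndependent k x
      · exact ⟨_, x, hx, hgen, hind⟩
      · obtain ⟨c, hc0, hc⟩ := exists_relation p x hx hind
        exact h _ x c hx hgen hc0 hc rfl
    intro μ
    induction μ using Nat.strongRecOn with
    | _ μ ihμ =>
      intro x c hx hgen hc0 hc hμ
      obtain ⟨i, hi, hmax⟩ := Finset.exists_max_image (Finset.univ.filter fun i => c i ≠ 0) (fun i => (c i).natDegree) (by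
        obtain ⟨i, hi⟩ := Function.ne_iff.1 hc0
        exact ⟨i, by simpa using hi⟩)
      rw [Finset.mem_filter] at hi
      by_cases hone : ∀ j, j ≠ i → c j = 0
      · have hxi : x i = 0 := prim_eq_zero_of_pev p (hx i) hi.2 (by
          rw [← hc, Finset.sum_eq_single i (fun j _ hj => by rw [hone j hj, map_zero]) (by simp)])
        refine ih (fun j => x (i.succAbove j)) (fun j => hx _) (eq_top_iff.2 (hgen ▸ Algebra.adjoin_le ?_))
        rintro _ ⟨l, rfl⟩
        rcases Fin.eq_self_or_eq_succAbove i l with h | ⟨j, h⟩
        · rw [h, hxi]; exact zero_mem _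
        · rw [h]; exact Algebra.subset_adjoin (Set.mem_range_self j)
      · push Not at hone
        obtain ⟨j, hji, hj⟩ := hone
        set mi := (c i).natDegree with hmi
        set mj := (c j).natDegree with hmj
        have hle : mj ≤ mi := hmax j (by simp [hj])
        obtain ⟨γ, hγ⟩ := (iterateFrobeniusEquiv k p mj).surjective (-((c i).coeff mi / (c j).coeff mj))
        rw [iterateFrobeniusEquiv_def] at hγ
        let δ := mi - mj
        let x' : Fin (n + 1) → A := Function.update x j (x j - γ • x i ^ p ^ δ)
        let c' : Fin (n + 1) → Polynomial k := Function.update c i (c i + twist p γ δ (c j))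
        have hx'i : x' i = x i := Function.update_of_ne hji.symm _ _
        have hx'j : x' j = x j - γ • x i ^ p ^ δ := Function.update_self _ _ _
        have hc'i : c' i = c i + twist p γ δ (c j) := Function.update_self _ _ _
        have hc'j : c' j = c j := Function.update_of_ne hji _ _
        have hx' : ∀ l, IsPrim k (x' l) := fun l => by
          by_cases hl : l = j
          · subst hl; rw [hx'j]; exact (hx _).sub (((hx i).pow p δ).smul γ)
          · rw [show x' l = x l from Function.update_of_ne hl _ _]; exact hx l
        have hgen' : Algebra.adjoin k (Set.range x') = ⊤ := by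
          refine eq_top_iff.2 (hgen ▸ Algebra.adjoin_le ?_)
          rintro _ ⟨l, rfl⟩
          by_cases hl : l = j
          · subst hl
            rw [show x l = x' l + γ • x' i ^ p ^ δ by rw [hx'j, hx'i, sub_add_cancel]]
            exact add_mem (Algebra.subset_adjoin (Set.mem_range_self l))
              (Subalgebra.smul_mem _ (pow_mem (Algebra.subset_adjoin (Set.mem_range_self i)) _) _)
          · rw [← show x' l = x l from Function.update_of_ne hl _ _]
            exact Algebra.subset_adjoin (Set.mem_range_self l)
        have hrel : ∑ l, pev p (x' l) (c' l) = 0 := by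
          have hfun : ∀ l, pev p (x' l) (c' l) = pev p (x l) (c l) +
              ((if l = i then pev p (x i) (twist p γ δ (c j)) else 0) -
                (if l = j then pev p (x i) (twist p γ δ (c j)) else 0)) := fun l => by
            by_cases hli : l = i
            · subst hli
              rw [hx'i, hc'i, map_add, if_pos rfl, if_neg hji.symm, sub_zero]
            · by_cases hlj : l = j
              · subst hlj
                rw [hx'j, hc'j, if_neg hli, if_pos rfl, sub_eq_add_neg, pev_add, pev_neg, pev_twist, zero_sub]
              · rw [show x' l = x l from Function.update_of_ne hlj _ _, show c' l = c l from Function.update_of_ne hli _ _,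
                  if_neg hli, if_neg hlj, sub_zero, add_zero]
          rw [Finset.sum_congr rfl fun l _ => hfun l, Finset.sum_add_distrib, hc, Finset.sum_sub_distrib]
          simp
        have hcoeff : (c' i).coeff mi = 0 := by
          rw [hc'i, Polynomial.coeff_add]
          conv_lhs => arg 2; rw [show mi = mj + δ by omega]
          rw [twist_coeff_add, hγ, neg_mul, div_mul_cancel₀ _ (show (c j).coeff mj ≠ 0 from Polynomial.leadingCoeff_ne_zero.2 hj), add_neg_cancel]
        have hdeg : (c' i).natDegree ≤ mi := by
          rw [hc'i]
          refine (Polynomial.natDegree_add_le _ _).trans (max_le le_rfl ((natDegree_twist_le p γ δ (c j)).trans ?_))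
          omega
        have hdec : (if c' i = 0 then 0 else (c' i).natDegree + 1) < mi + 1 := by
          split_ifs with h0
          · omega
          · have : (c' i).natDegree ≠ mi := fun heq => h0 (Polynomial.leadingCoeff_eq_zero.1 (by
              rw [Polynomial.leadingCoeff, heq, hcoeff]))
            omega
        refine ihμ _ ?_ x' c' hx' hgen' (fun h0 => hj (by rw [← hc'j, h0]; rfl)) hrel rfl
        rw [← hμ]
        refine Finset.sum_lt_sum (fun l _ => ?_) ⟨i, Finset.mem_univ i, by rw [if_neg hi.2]; exact hdec⟩
        by_cases hli : l = i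
        · subst hli; rw [if_neg hi.2]; exact hdec.le
        · rw [show c' l = c l from Function.update_of_ne hli _ _]

end Groth.Agent.VecGrp
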