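import Groth.Agent.VecGrpLib.Isogeny
import Groth.Agent.VecGrpLib.PerfectAlg

/-! A connected smooth group killed by `p` over a perfect field is a vector group. -/

set_option autoImplicit false
set_option backward.isDefEq.respectTransparency false
set_option backward.isDefEq.respectTransparency.types false
set_option linter.style.haveILetI false
set_option maxHeartbeats 1000000
set_option synthInstance.maxHeartbeats 400000

noncomputable section

universe u

open CategoryTheory CategoryTheory.Limits MonoidalCategory CartesianMonoidalCategory AlgebraicGeometry CoactBr WithConv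
open scoped MonObj TensorProduct

namespace Groth.Agent.VecGrp

attribute [-instance] CategoryTheory.Hom.commGroup

variable {k : Type u} [Field k]

theorem exists_iso_vectorGroup (p : ℕ) [Fact p.Prime] [CharP k p] [PerfectField k]
    (G : Over (Spec (CommRingCat.of k))) [GrpObj G] [IsAffine G.left] [Smooth G.hom] [ConnectedSpace ↥G.left]
    (hcomm : ∀ (X : Over (Spec (CommRingCat.of k))) (g h : X ⟶ G), g * h = h * g)
    (htors : ∀ (X : Over (Spec (CommRingCat.of k))) (g : X ⟶ G), g ^ p = 1) :
    ∃ n : ℕ, Nonempty (Grp.mk G ≅ Grp.mk ((Spec (CommRingCat.of (SymmetricAlgebra k (Fin n → k)))).asOver (Spec (CommRingCat.of k)))) := by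
  obtain ⟨A, _, _, v, n, x, hv, hv', hsm, -, hx, hgen⟩ := exists_prim_generators p G hcomm htors
  haveI := hv'
  haveI := hsm
  haveI : IsReduced A := by
    haveI : Smooth (Spec.map (CommRingCat.ofHom (algebraMap k A))) :=
      (HasRingHomProperty.Spec_iff (P := @Smooth)).2 (RingHom.smooth_algebraMap.2 inferInstance)
    haveI := AlgSpLib.isReduced_of_smooth (Spec.map (CommRingCat.ofHom (algebraMap k A)))
    exact affine_isReduced_iff _ |>.1 this
  haveI : IsIso v.inv.left := ((Over.forget _).mapIso v).isIso_inv
  haveI : PreconnectedSpace (PrimeSpectrum A) := by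
    let φ : G.left ≅ Spec (CommRingCat.of A) := ((Over.forget _).mapIso v).symm
    exact φ.schemeIsoToHomeo.surjective.denseRange.preconnectedSpace φ.schemeIsoToHomeo.continuous
  obtain ⟨m, y, hy, hy', hind⟩ := exists_independent p n x hx hgen
  let ψ : SymmetricAlgebra k (Fin m → k) →ₐ[k] A := SymmetricAlgebra.lift (Fintype.linearCombination k y)
  haveI := isMonHom_pt_lift hy
  have hbij : Function.Bijective ψ := by
    rw [show ψ = _ from lift_eq_aeval y]
    refine Function.Bijective.comp (f := (SymmetricAlgebra.equivMvPolynomial (Pi.basisFun k (Fin m))))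
      (g := MvPolynomial.aeval (R := k) y) ⟨hind, ?_⟩ (SymmetricAlgebra.equivMvPolynomial _).bijective
    rw [← AlgHom.range_eq_top, ← Algebra.adjoin_range_eq_range_aeval]
    exact hy'
  haveI : IsIso (pt (R := k) ψ).left := by
    rw [pt_left]
    haveI : IsIso (CommRingCat.ofHom ψ.toRingHom) :=
      (RingEquiv.ofBijective ψ.toRingHom hbij).toCommRingCatIso.isIso_hom
    exact inferInstanceAs (IsIso (Spec.map (CommRingCat.ofHom ψ.toRingHom)))
  haveI : IsIso (v.inv ≫ pt (R := k) ψ).left := by
    show IsIso (v.inv.left ≫ (pt (R := k) ψ).left)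
    infer_instance
  haveI : IsIso ((Over.forget _).map (v.inv ≫ pt (R := k) ψ)) := ‹IsIso (v.inv ≫ pt (R := k) ψ).left›
  haveI : IsIso (v.inv ≫ pt (R := k) ψ) := isIso_of_reflects_iso _ (Over.forget _)
  haveI : IsMonHom (asIso (v.inv ≫ pt (R := k) ψ)).hom := by
    show IsMonHom (v.inv ≫ pt (R := k) ψ)
    infer_instance
  exact ⟨m, ⟨Grp.mkIso' (asIso (v.inv ≫ pt (R := k) ψ))⟩⟩

end Groth.Agent.VecGrp
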