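import Groth.Agent.VecGrpLib.Embed
import Groth.Agent.VecGrpLib.SplitScheme

/-! A vector subgroup is a direct factor. -/

set_option autoImplicit false
set_option backward.isDefEq.respectTransparency false
set_option backward.isDefEq.respectTransparency.types false
set_option linter.style.haveILetI false
set_option maxHeartbeats 1000000
set_option synthInstance.maxHeartbeats 400000

noncomputable section

universe u

open CategoryTheory CategoryTheory.Limits MonoidalCategory CartesianMonoidalCategory AlgebraicGeometry CoactBr WithConv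
open scoped MonObj TensorProduct

namespace Groth.Agent.VecGrp

attribute [-instance] CategoryTheory.Hom.commGroup
attribute [local instance] CoactBr.braidedAlgSpecOf

variable {k : Type u} [Field k]

theorem surjective_of_isClosedImmersion {B C : Type u} [CommRing B] [Algebra k B] [CommRing C] [Algebra k C]
    (f : B →ₐ[k] C) (h : IsClosedImmersion (pt (R := k) f).left) : Function.Surjective f := by
  haveI : IsClosedImmersion (Spec.map (CommRingCat.ofHom f.toRingHom)) := h
  have h2 := (IsClosedImmersion.isAffine_surjective_of_isAffine (Spec.map (CommRingCat.ofHom f.toRingHom))).2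
  intro c
  obtain ⟨b, hb⟩ := h2 ((Scheme.ΓSpecIso (CommRingCat.of C)).inv c)
  refine ⟨(Scheme.ΓSpecIso (CommRingCat.of B)).hom b, ?_⟩
  have h3 := congrArg (fun ψ => (ConcreteCategory.hom ψ) b) (Scheme.ΓSpecIso_naturality (CommRingCat.ofHom f.toRingHom))
  change f ((Scheme.ΓSpecIso (CommRingCat.of B)).hom b) = c
  refine h3.symm.trans ?_
  show (Scheme.ΓSpecIso (CommRingCat.of C)).hom ((Spec.map (CommRingCat.ofHom f.toRingHom)).appTop b) = c
  rw [hb]
  exact congrArg (fun ψ => (ConcreteCategory.hom ψ) c) (Scheme.ΓSpecIso (CommRingCat.of C)).inv_hom_id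

theorem isPrim_map {B C : Type u} [CommRing B] [HopfAlgebra k B] [CommRing C] [HopfAlgebra k C]
    (f : B →ₐ[k] C) [IsMonHom (pt (R := k) f)] {b : B} (hb : IsPrim k b) : IsPrim k (f b) := by
  have h := congrArg (fun t : WithConv (B →ₐ[k] C ⊗[k] C) => t b) (DiagRep.comul_comp_of_isMonHom f)
  simp only [AlgHom.convMul_apply] at h
  rw [show Coalgebra.comul (R := k) b = _ from hb] at h
  simpa [IsPrim] using h

theorem isPrim_ι {r : ℕ} (j : Fin r) :
    IsPrim k (SymmetricAlgebra.ι k (Fin r → k) (Pi.single j 1)) := by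
  show Coalgebra.comul _ = _
  rw [SymmetricAlgebra.comul_ι]

theorem exists_direct_factor (p : ℕ) [Fact p.Prime] [CharP k p]
    (G : Over (Spec (CommRingCat.of k))) [GrpObj G] [IsAffine G.left] [Smooth G.hom]
    (hcomm : ∀ (X : Over (Spec (CommRingCat.of k))) (g h : X ⟶ G), g * h = h * g)
    (htors : ∀ (X : Over (Spec (CommRingCat.of k))) (g : X ⟶ G), g ^ p = 1)
    (V : Over (Spec (CommRingCat.of k))) [GrpObj V] (iV : V ⟶ G) [IsMonHom iV] (hcV : IsClosedImmersion iV.left)
    {r : ℕ} (e : Grp.mk V ≅ Grp.mk ((Spec (CommRingCat.of (SymmetricAlgebra k (Fin r → k)))).asOver (Spec (CommRingCat.of k)))) :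
    ∃ (W : Over (Spec (CommRingCat.of k))) (instW : GrpObj W) (iW : W ⟶ G), IsMonHom iW ∧ IsClosedImmersion iW.left ∧
      IsIso ((iV ⊗ₘ iW) ≫ μ[G]) := by
  obtain ⟨A, _, _, v, n, x, hv, hv', -, -, hx, hgen⟩ := exists_prim_generators p G hcomm htors
  haveI := hv; haveI := hv'
  let ev : V ≅ sp k (SymmetricAlgebra k (Fin r → k)) := (Grp.forget _).mapIso e
  haveI : IsMonHom ev.hom := e.hom.hom.isMonHom_hom
  haveI : IsMonHom ev.inv := e.inv.hom.isMonHom_hom
  haveI : IsIso ev.inv.left := ((Over.forget _).mapIso ev).isIso_inv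
  haveI : IsIso v.inv.left := ((Over.forget _).mapIso v).isIso_inv
  obtain ⟨s, hs⟩ := DiagRep.exists_pt (ev.inv ≫ iV ≫ v.inv)
  haveI : IsMonHom (pt (R := k) s) := by rw [← hs]; infer_instance
  have hsurj : Function.Surjective s := surjective_of_isClosedImmersion s (by
    rw [← hs]
    show IsClosedImmersion (ev.inv.left ≫ iV.left ≫ v.inv.left)
    haveI := hcV
    infer_instance)
  have hsgen : Algebra.adjoin k (Set.range fun i => s (x i)) = ⊤ := by
    rw [show (Set.range fun i => s (x i)) = s '' Set.range x by rw [← Set.range_comp]; rfl, ← AlgHom.map_adjoin, hgen,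
      Algebra.map_top, (AlgHom.range_eq_top s).2 hsurj]
  have hcj : ∀ j : Fin r, ∃ c : Fin n → Polynomial k, SymmetricAlgebra.ι k (Fin r → k) (Pi.single j 1) = ∑ i, pev p (s (x i)) (c i) :=
    fun j => exists_pev_sum p (fun i => s (x i)) (fun i => isPrim_map s (hx i)) (isPrim_ι j) (hsgen ▸ trivial)
  choose c hc using hcj
  let y : Fin r → A := fun j => ∑ i, pev p (x i) (c j i)
  have hy : ∀ j, IsPrim k (y j) := fun j => IsPrim.sum _ fun i _ => (hx i).pev p _
  have hsy : ∀ j, s (y j) = SymmetricAlgebra.ι k _ (Pi.single j 1) := fun j => by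
    simp only [y, map_sum, pev_algHom, hc]
  obtain ⟨W, instW, iW, -, hW, -, hWc, hWi⟩ := exists_complement v hy hsy hx hgen
  refine ⟨W, instW, iW, hW, hWc, ?_⟩
  have hV : iV = ev.hom ≫ (pt s ≫ v.hom) := by
    rw [← hs]; simp
  rw [hV, show ((ev.hom ≫ (pt s ≫ v.hom)) ⊗ₘ iW) = (ev.hom ⊗ₘ 𝟙 W) ≫ ((pt s ≫ v.hom) ⊗ₘ iW) by
    rw [tensorHom_comp_tensorHom, Category.id_comp], Category.assoc]
  infer_instance

end Groth.Agent.VecGrp
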