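import Groth.Agent.VecGrpLib.Fil
import Mathlib.RingTheory.FiniteType
import Mathlib.LinearAlgebra.Dual.Lemmas
import Mathlib.Data.Sym.Basic
import Mathlib.Data.Nat.Prime.Factorial
import Mathlib.RingTheory.Artinian.Module
import Mathlib.LinearAlgebra.FiniteDimensional.Basic

/-! A cocommutative bialgebra in characteristic `p` whose augmentation forms have vanishing `p`-th powers is
generated by its primitive elements. -/

set_option autoImplicit false
set_option backward.isDefEq.respectTransparency false
set_option backward.isDefEq.respectTransparency.types false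
set_option linter.style.haveILetI false

universe u

open TensorProduct WithConv Coalgebra

namespace Groth.Agent.VecGrp

variable {k : Type u} [Field k] {A : Type u} [CommRing A] [Bialgebra k A] [Coalgebra.IsCocomm k A]

theorem act_mul (f g : Form k A) (a : A) : act (f * g) a = act f (act g a) := by
  refine eq_of_sub_eq_zero ((Module.forall_dual_apply_eq_zero_iff k _).1 fun φ => ?_)
  rw [map_sub, sub_eq_zero]
  show (toConv φ : Form k A).ofConv _ = (toConv φ : Form k A).ofConv _
  rw [apply_act, apply_act, apply_act, mul_assoc]

theorem act_add (f g : Form k A) (a : A) : act (f + g) a = act f a + act g a := by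
  simp [act, LinearMap.lTensor_add]

theorem act_smul (c : k) (f : Form k A) (a : A) : act (c • f) a = c • act f a := by
  simp [act, LinearMap.lTensor_smul]

theorem act_unit (a : A) : act (1 : Form k A) a = a := by
  have h := congrArg (TensorProduct.rid k A) (Coalgebra.lTensor_counit_comul (R := k) a)
  simpa [act, LinearMap.convOne_def] using h

/-- The forms with nilpotent Frobenius lie deep in the filtration on each element. -/
theorem exists_mem_fil (p : ℕ) (hpow : ∀ f ∈ (aug : Ideal (Form k A)), f ^ p = 0) (a : A) :
    ∃ n, a ∈ (fil n : Submodule k A) := by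
  classical
  let L : Form k A →ₗ[k] A :=
    { toFun := fun f => act f a
      map_add' := fun f g => act_add f g a
      map_smul' := fun c f => act_smul c f a }
  let W := LinearMap.range L
  haveI : FiniteDimensional k W := by
    obtain ⟨S, hS⟩ := TensorProduct.exists_finset (comul (R := k) a)
    haveI : FiniteDimensional k (Submodule.span k ((S.image Prod.fst : Finset A) : Set A)) :=
      FiniteDimensional.span_finset k _
    refine Submodule.finiteDimensional_of_le (S₂ := Submodule.span k ((S.image Prod.fst : Finset A) : Set A)) ?_
    rintro _ ⟨f, rfl⟩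
    show act f a ∈ _
    rw [show act f a = (TensorProduct.rid k A) (f.ofConv.lTensor A (comul a)) from rfl, hS, map_sum, map_sum]
    refine sum_mem fun i hi => ?_
    rw [LinearMap.lTensor_tmul, TensorProduct.rid_tmul]
    exact Submodule.smul_mem _ _ (Submodule.subset_span (Finset.mem_image_of_mem _ hi))
  -- the annihilator of `a` is an ideal of finite codimension
  let J : Ideal (Form k A) :=
    { carrier := {f | act f a = 0}
      add_mem' := fun {f g} hf hg => by show act (f + g) a = 0; rw [act_add, hf, hg, add_zero]
      zero_mem' := map_zero L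
      smul_mem' := fun c {f} hf => by show act (c * f) a = 0; rw [act_mul, hf, map_zero] }
  haveI : FiniteDimensional k (Form k A ⧸ J) := by
    haveI : FiniteDimensional k (Form k A ⧸ LinearMap.ker L) :=
      (LinearMap.quotKerEquivRange L).symm.finiteDimensional
    refine Module.Finite.of_surjective
      (Submodule.liftQ (LinearMap.ker L) (Ideal.Quotient.mkₐ k J).toLinearMap (fun f hf =>
        Ideal.Quotient.eq_zero_iff_mem.2 hf)) fun y => ?_
    obtain ⟨f, rfl⟩ := Ideal.Quotient.mk_surjective y
    exact ⟨Submodule.Quotient.mk f, rfl⟩
  haveI : IsArtinianRing (Form k A ⧸ J) := IsArtinianRing.of_finite k _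
  obtain ⟨N, hN⟩ := IsArtinianRing.isNilpotent_nilradical (R := Form k A ⧸ J)
  refine ⟨N, fun h hh => ?_⟩
  have hle : (aug : Ideal (Form k A)).map (Ideal.Quotient.mk J) ≤ nilradical (Form k A ⧸ J) := by
    rw [Ideal.map_le_iff_le_comap]
    exact fun f hf => ⟨p, by rw [← map_pow, hpow f hf, map_zero]; exact zero_mem _⟩
  have h1 : Ideal.Quotient.mk J h ∈ ((aug : Ideal (Form k A)).map (Ideal.Quotient.mk J)) ^ N := by
    rw [← Ideal.map_pow]
    exact Ideal.mem_map_of_mem _ hh
  have h2 : act h a = 0 := Ideal.Quotient.eq_zero_iff_mem.1
    ((hN.le (Ideal.pow_right_mono hle N h1) : Ideal.Quotient.mk J h ∈ (⊥ : Ideal _)))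
  have h3 := apply_act (1 : Form k A) h a
  rw [one_mul, h2, map_zero] at h3
  exact h3.symm

theorem coord_ext {x y : A ⊗[k] A} (h : ∀ f g : A →ₗ[k] k,
    TensorProduct.map f g x = TensorProduct.map f g y) : x = y := by
  let b := Module.Free.chooseBasis k A
  refine (b.tensorProduct b).repr.injective (Finsupp.ext fun ⟨i, j⟩ => ?_)
  have hb : ∀ z : A ⊗[k] A, (b.tensorProduct b).repr z (i, j) =
      TensorProduct.lid k k (TensorProduct.map (b.coord i) (b.coord j) z) := fun z => by
    induction z using TensorProduct.induction_on with
    | zero => simp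
    | add u v hu hv => simp [hu, hv]
    | tmul u v => simp [mul_comm]
  rw [hb, hb, h]

/-- The second step of the filtration is spanned by the constants and the primitives. -/
theorem sub_counit_isPrim {a : A} (ha : a ∈ (fil 2 : Submodule k A)) :
    IsPrim k (a - algebraMap k A (counit a)) := by
  refine coord_ext fun f g => (TensorProduct.lid k k).injective ?_
  set x := a - algebraMap k A (counit a)
  have hlhs : TensorProduct.lid k k (TensorProduct.map f g (comul x)) = ((toConv f : Form k A) * toConv g).ofConv x := by
    show _ = ((toConv f : Form k A) * toConv g) x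
    rw [LinearMap.convMul_apply]
    induction comul (R := k) x using TensorProduct.induction_on with
    | zero => simp
    | add u v hu hv => simp [hu, hv]
    | tmul u v => simp
  rw [hlhs]
  simp only [map_add, TensorProduct.map_tmul, TensorProduct.lid_tmul, smul_eq_mul]
  have hx : x ∈ (fil 2 : Submodule k A) := by
    refine sub_mem ha ?_
    rw [Algebra.algebraMap_eq_smul_one]
    exact Submodule.smul_mem _ _ (one_mem_fil (by omega))
  have hεx : counit (R := k) x = 0 := by
    simp [x, map_sub, Bialgebra.counit_algebraMap]
  let f' : Form k A := toConv f - algebraMap k (Form k A) (f 1)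
  let g' : Form k A := toConv g - algebraMap k (Form k A) (g 1)
  have haug : ∀ φ : A →ₗ[k] k, (toConv φ - algebraMap k (Form k A) (φ 1)) ∈ (aug : Ideal (Form k A)) := fun φ => by
    show φ 1 - (algebraMap k (Form k A) (φ 1)).ofConv 1 = 0
    simp [Algebra.algebraMap_eq_smul_one, LinearMap.convOne_def]
  have h0 : (f' * g').ofConv x = 0 := hx _ (by rw [pow_two]; exact Ideal.mul_mem_mul (haug f) (haug g))
  have hexp : (toConv f : Form k A) * toConv g = f' * g' + g 1 • f' + f 1 • g' + (f 1 * g 1) • (1 : Form k A) := by
    simp only [Algebra.smul_def, map_mul, f', g']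
    ring
  rw [hexp]
  show (f' * g').ofConv x + g 1 * f'.ofConv x + f 1 * g'.ofConv x + (f 1 * g 1) * (1 : Form k A).ofConv x = _
  rw [h0]
  simp [hεx, f', g', Algebra.algebraMap_eq_smul_one, LinearMap.convOne_def, mul_comm]

variable {ι : Type*} [Fintype ι] [DecidableEq ι] {e : ι → A}

/-- The value of products of dual forms on a monomial. -/
theorem pair_prod (he : ∀ i, IsPrim k (e i)) (φ : ι → Form k A)
    (hφa : ∀ i, φ i ∈ (aug : Ideal (Form k A))) (hφ : ∀ i j, (φ i).ofConv (e j) = if i = j then 1 else 0) :
    ∀ (t : List ι) (S : Multiset ι), S.card = t.length → ((t.map φ).prod).ofConv (S.map e).prod =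
      if (↑t : Multiset ι) = S then ∏ i, ((S.count i).factorial : k) else 0 := by
  intro t
  induction t with
  | nil =>
    intro S hS
    rw [List.length_nil, Multiset.card_eq_zero] at hS
    subst hS
    simp [LinearMap.convOne_def, Bialgebra.counit_one]
  | cons i t ih =>
    intro S hS
    rw [List.length_cons] at hS
    rw [List.map_cons, List.prod_cons, mul_comm, ← apply_act]
    have hg : (t.map φ).prod ∈ (aug : Ideal (Form k A)) ^ t.length := by
      clear ih hS
      induction t with
      | nil => simp
      | cons j t iht =>
        rw [List.map_cons, List.prod_cons, List.length_cons, pow_succ']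
        exact Ideal.mul_mem_mul (hφa j) iht
    have hd := act_prod he (φ i) (hφa i) S
    have h1 := mem_fil.1 hd _ (show (t.map φ).prod ∈ _ by rw [show S.card - 1 = t.length by omega]; exact hg)
    rw [map_sub, sub_eq_zero] at h1
    rw [h1, map_multiset_sum, Multiset.map_map]
    have hsum : (S.map fun j => ((t.map φ).prod).ofConv ((φ i).ofConv (e j) • ((S.erase j).map e).prod)).sum =
        (S.count i : k) * ((t.map φ).prod).ofConv ((S.erase i).map e).prod := by
      have hc : ∀ j ∈ S, ((t.map φ).prod).ofConv ((φ i).ofConv (e j) • ((S.erase j).map e).prod) =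
          if i = j then ((t.map φ).prod).ofConv ((S.erase i).map e).prod else 0 := fun j _ => by
        rw [hφ]; split_ifs with h
        · subst h; rw [one_smul]
        · rw [zero_smul, map_zero]
      rw [Multiset.map_congr rfl hc, Multiset.sum_map_eq_nsmul_single i (fun j hj _ => if_neg hj.symm), if_pos rfl,
        nsmul_eq_mul]
    refine hsum.trans ?_
    by_cases hi : i ∈ S
    · rw [ih _ (by rw [Multiset.card_erase_of_mem hi]; simp [hS])]
      by_cases ht : (↑t : Multiset ι) = S.erase i
      · have hS' : (↑(i :: t) : Multiset ι) = S := by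
          rw [← Multiset.cons_coe, ht, Multiset.cons_erase hi]
        rw [if_pos ht, if_pos hS', ← Finset.mul_prod_erase _ _ (Finset.mem_univ i),
          ← Finset.mul_prod_erase (f := fun j => ((S.count j).factorial : k)) _ (Finset.mem_univ i),
          Multiset.count_erase_self, ← mul_assoc]
        have hpos : 1 ≤ S.count i := Multiset.one_le_count_iff_mem.2 hi
        congr 1
        · rw [← Nat.cast_mul, Nat.mul_factorial_pred (by omega)]
        · exact Finset.prod_congr rfl fun j hj => by rw [Multiset.count_erase_of_ne (Finset.ne_of_mem_erase hj)]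
      · rw [if_neg ht, mul_zero, if_neg]
        intro h
        exact ht (by rw [← h, ← Multiset.cons_coe, Multiset.erase_cons_head])
    · rw [Multiset.count_eq_zero.2 hi, Nat.cast_zero, zero_mul, if_neg]
      intro h
      exact hi (h ▸ List.mem_cons_self)

/-- Forms killing the primitives kill the monomials. -/
theorem mul_prod_eq_zero (he : ∀ i, IsPrim k (e i)) {f g : Form k A} (hf : f ∈ (aug : Ideal (Form k A)))
    (hfe : ∀ i, f.ofConv (e i) = 0) (S : Multiset ι) (hg : g ∈ (aug : Ideal (Form k A)) ^ (S.card - 1)) :
    (f * g).ofConv (S.map e).prod = 0 := by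
  rw [mul_comm, ← apply_act]
  have h1 := mem_fil.1 (act_prod he f hf S) g hg
  rw [map_sub, sub_eq_zero] at h1
  rw [h1, Multiset.map_congr rfl (fun i _ => by rw [hfe, zero_smul]), Multiset.sum_map_zero, map_zero]

omit [Fintype ι] [DecidableEq ι]

/-- Generation by primitives. -/
theorem adjoin_prim_eq_top (p : ℕ) [hp : Fact p.Prime] [CharP k p]
    (hpow : ∀ f ∈ (aug : Ideal (Form k A)), f ^ p = 0) :
    Algebra.adjoin k {x : A | IsPrim k x} = ⊤ := by
  classical
  set P := Algebra.adjoin k {x : A | IsPrim k x}
  suffices h : ∀ d, (fil d : Submodule k A) ≤ Subalgebra.toSubmodule P by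
    refine eq_top_iff.2 fun a _ => ?_
    obtain ⟨n, hn⟩ := exists_mem_fil p hpow a
    exact h n hn
  intro d
  induction d with
  | zero =>
    intro a ha
    have : a = 0 := (Module.forall_dual_apply_eq_zero_iff k a).1 fun φ => ha (toConv φ) (by simp)
    rw [this]; exact zero_mem _
  | succ d ih =>
    intro c hc
    rcases Nat.eq_zero_or_pos d with rfl | hd
    · have h2 := sub_counit_isPrim (fil_mono (by omega) hc : c ∈ (fil 2 : Submodule k A))
      have h4 := add_mem (Algebra.subset_adjoin (R := k) h2 : _ ∈ P) (P.algebraMap_mem (counit (R := k) c))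
      rwa [sub_add_cancel] at h4
    -- primitive parts of the first derivatives
    let L : Form k A →ₗ[k] A :=
      { toFun := fun g => act g c
        map_add' := fun f g => act_add f g c
        map_smul' := fun a f => act_smul a f c }
    let π : A →ₗ[k] A := LinearMap.id - (Algebra.linearMap k A) ∘ₗ counit
    let I' : Submodule k (Form k A) := ((aug : Ideal (Form k A)) ^ (d - 1)).restrictScalars k
    let W : Submodule k A := Submodule.map (π ∘ₗ L) I'
    haveI : FiniteDimensional k W := by
      obtain ⟨S, hS⟩ := TensorProduct.exists_finset (comul (R := k) c)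
      let V := Submodule.span k ((S.image Prod.fst : Finset A) : Set A)
      haveI : FiniteDimensional k V := FiniteDimensional.span_finset k _
      refine Submodule.finiteDimensional_of_le (S₂ := V.map π) ?_
      rintro _ ⟨g, -, rfl⟩
      refine ⟨act g c, ?_, rfl⟩
      rw [show act g c = (TensorProduct.rid k A) (g.ofConv.lTensor A (comul c)) from rfl, hS, map_sum, map_sum]
      refine sum_mem fun i hi => ?_
      rw [LinearMap.lTensor_tmul, TensorProduct.rid_tmul]
      exact Submodule.smul_mem _ _ (Submodule.subset_span (Finset.mem_image_of_mem _ hi))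
    let bW := Module.finBasis k W
    let e : Fin (Module.finrank k W) → A := fun i => bW i
    have hWP : ∀ w ∈ W, IsPrim k w ∧ counit (R := k) w = 0 := by
      rintro _ ⟨g, hg, rfl⟩
      refine ⟨sub_counit_isPrim (act_mem_fil (n := 2) hg (fil_mono (by omega) hc)), ?_⟩
      simp [π, Bialgebra.counit_algebraMap]
    have he : ∀ i, IsPrim k (e i) := fun i => (hWP _ (bW i).2).1
    have hεe : ∀ i, counit (R := k) (e i) = 0 := fun i => (hWP _ (bW i).2).2
    obtain ⟨Q, hQ⟩ := W.subtype.exists_leftInverse_of_injective (Submodule.ker_subtype W)
    let φ : Fin (Module.finrank k W) → Form k A := fun i => toConv (bW.coord i ∘ₗ Q ∘ₗ π)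
    have hπ1 : π 1 = 0 := by simp [π, Bialgebra.counit_one]
    have hφa : ∀ i, φ i ∈ (aug : Ideal (Form k A)) := fun i => by
      show bW.coord i (Q (π 1)) = 0
      rw [hπ1, map_zero, map_zero]
    have hQW : ∀ w : W, Q w = w := fun w => LinearMap.congr_fun hQ w
    have hφ : ∀ i j, (φ i).ofConv (e j) = if i = j then 1 else 0 := fun i j => by
      show bW.coord i (Q (π (e j))) = _
      rw [show π (e j) = e j by simp [π, hεe], hQW, bW.coord_apply, bW.repr_self, Finsupp.single_apply]
      simp [eq_comm]
    let coef : Sym (Fin (Module.finrank k W)) d → k := fun S =>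
      if ∀ i, (S.1).count i < p then
        ((((S.1).toList.map φ).prod).ofConv c) * (∏ i, (((S.1).count i).factorial : k))⁻¹
      else 0
    let m : A := ∑ S : Sym (Fin (Module.finrank k W)) d, coef S • ((S.1).map e).prod
    have hmP : m ∈ Subalgebra.toSubmodule P := sum_mem fun S _ => Submodule.smul_mem _ _
      (show _ ∈ P from multiset_prod_mem _ fun x hx => by
        obtain ⟨i, -, rfl⟩ := Multiset.mem_map.1 hx
        exact Algebra.subset_adjoin (he i))
    have hmem_pow : ∀ t : List (Fin (Module.finrank k W)), (t.map φ).prod ∈ (aug : Ideal (Form k A)) ^ t.length := fun t => by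
      induction t with
      | nil => simp
      | cons j t iht =>
        rw [List.map_cons, List.prod_cons, List.length_cons, pow_succ']
        exact Ideal.mul_mem_mul (hφa j) iht
    -- agreement on products of the dual forms
    have hA : ∀ t : List (Fin (Module.finrank k W)), t.length = d → ((t.map φ).prod).ofConv (c - m) = 0 := by
      intro t ht
      let T : Sym (Fin (Module.finrank k W)) d := ⟨(↑t : Multiset _), by simp [ht]⟩
      rw [map_sub, map_sum]
      have hS : ∀ S : Sym (Fin (Module.finrank k W)) d, ((t.map φ).prod).ofConv (coef S • ((S.1).map e).prod) =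
          if T = S then coef S * ∏ i, (((S.1).count i).factorial : k) else 0 := fun S => by
        rw [map_smul, pair_prod he φ hφa hφ t S.1 (by rw [ht]; exact S.2), smul_eq_mul]
        have hiff : ((↑t : Multiset _) = (S.1)) ↔ T = S := (Subtype.ext_iff (a1 := T) (a2 := S)).symm
        simp only [hiff, mul_ite, mul_zero]
      rw [Finset.sum_congr rfl fun S _ => hS S, Finset.sum_ite_eq, if_pos (Finset.mem_univ T)]
      have hprod : (((↑t : Multiset _).toList.map φ).prod) = (t.map φ).prod := by
        rw [← Multiset.prod_coe, ← Multiset.map_coe, Multiset.coe_toList, Multiset.map_coe, Multiset.prod_coe]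
      show _ - (if ∀ i, (T.1).count i < p then _ else 0) * _ = 0
      split_ifs with hlt
      · have hne : (∏ i, (((T.1).count i).factorial : k)) ≠ 0 := Finset.prod_ne_zero_iff.2 fun i _ h => by
          rw [CharP.cast_eq_zero_iff k p, Nat.Prime.dvd_factorial hp.out] at h
          exact absurd h (not_le.2 (hlt i))
        rw [mul_assoc, inv_mul_cancel₀ hne, mul_one]
        show _ - (((↑t : Multiset _).toList.map φ).prod).ofConv c = 0
        rw [hprod, sub_self]
      · push Not at hlt
        obtain ⟨i, hi⟩ := hlt
        obtain ⟨U, hU⟩ := Multiset.le_iff_exists_add.1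
          (Multiset.le_count_iff_replicate_le.1 hi : Multiset.replicate p i ≤ (↑t : Multiset _))
        have h0 : (t.map φ).prod = 0 := by
          rw [← Multiset.prod_coe, ← Multiset.map_coe, hU, Multiset.map_add, Multiset.prod_add, Multiset.map_replicate,
            Multiset.prod_replicate, hpow _ (hφa i), zero_mul]
        rw [h0, zero_mul, sub_zero]
        rfl
    -- forms killing the primitive derivatives
    have hB : ∀ f ∈ (aug : Ideal (Form k A)), (∀ i, f.ofConv (e i) = 0) →
        ∀ g ∈ (aug : Ideal (Form k A)) ^ (d - 1), (f * g).ofConv (c - m) = 0 := by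
      intro f hf hfe g hg
      rw [map_sub, map_sum]
      have h1 : (f * g).ofConv c = 0 := by
        rw [← apply_act]
        have hw : π (act g c) ∈ W := ⟨g, hg, rfl⟩
        have h2 : f.ofConv (π (act g c)) = 0 := by
          have h3 := congrArg W.subtype (bW.sum_repr ⟨π (act g c), hw⟩)
          simp only [map_sum, map_smul, Submodule.subtype_apply] at h3
          rw [← h3, map_sum]
          exact Finset.sum_eq_zero fun i _ => by rw [map_smul, show f.ofConv ↑(bW i) = 0 from hfe i, smul_zero]
        simp only [π, LinearMap.sub_apply, LinearMap.id_apply, LinearMap.comp_apply, Algebra.linearMap_apply,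
          map_sub, Algebra.algebraMap_eq_smul_one, map_smul, mem_aug.1 hf, smul_zero, sub_zero] at h2
        exact h2
      rw [h1, Finset.sum_eq_zero fun S _ => ?_, sub_zero]
      rw [map_smul, mul_prod_eq_zero he hf hfe _ (by rw [show Multiset.card (S.1) = d from S.2]; exact hg),
        smul_zero]
    -- every form of degree `d`
    have hC : ∀ (j : ℕ) (t : List (Fin (Module.finrank k W))), t.length + j = d →
        ∀ g ∈ (aug : Ideal (Form k A)) ^ j, ((t.map φ).prod * g).ofConv (c - m) = 0 := by
      intro j
      induction j with
      | zero =>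
        intro t ht g _
        have hg0 : g - algebraMap k (Form k A) (g.ofConv 1) ∈ (aug : Ideal (Form k A)) := by
          show g.ofConv 1 - _ = 0
          simp [Algebra.algebraMap_eq_smul_one, LinearMap.convOne_def]
        have h1 : (t.map φ).prod * (g - algebraMap k (Form k A) (g.ofConv 1)) ∈ (aug : Ideal (Form k A)) ^ (d + 1) := by
          rw [pow_succ, show d = t.length by omega]
          exact Ideal.mul_mem_mul (hmem_pow t) hg0
        have hm1 : m ∈ (fil (d + 1) : Submodule k A) := sum_mem fun S _ => Submodule.smul_mem _ _ (by
          have := prod_mem_fil he (S.1)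
          rwa [show Multiset.card (S.1) = d from S.2] at this)
        have h2 := mem_fil.1 (sub_mem hc hm1) _ h1
        rw [mul_sub, show (t.map φ).prod * algebraMap k (Form k A) (g.ofConv 1) = g.ofConv 1 • (t.map φ).prod by
          rw [Algebra.smul_def, mul_comm]] at h2
        change ((t.map φ).prod * g).ofConv (c - m) - g.ofConv 1 • ((t.map φ).prod).ofConv (c - m) = 0 at h2
        rwa [hA t (by omega), smul_zero, sub_zero] at h2
      | succ j ihj =>
        intro t ht g hg
        rw [pow_succ'] at hg
        refine Submodule.mul_induction_on hg (fun f hf g' hg' => ?_) (fun x y hx hy => ?_)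
        · let κ : Form k A := f - ∑ i, f.ofConv (e i) • φ i
          have hκ : κ ∈ (aug : Ideal (Form k A)) :=
            sub_mem hf (sum_mem fun i _ => by rw [Algebra.smul_def]; exact Ideal.mul_mem_left _ _ (hφa i))
          have hκe : ∀ l, κ.ofConv (e l) = 0 := fun l => by
            show f.ofConv (e l) - (∑ i, f.ofConv (e i) • φ i).ofConv (e l) = 0
            simp [WithConv.ofConv_sum, LinearMap.sum_apply, hφ]
          have h1 := hB κ hκ hκe ((t.map φ).prod * g') (by
            rw [show d - 1 = t.length + j by omega, pow_add]
            exact Ideal.mul_mem_mul (hmem_pow t) hg')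
          have h2 : ∀ i, ((t.map φ).prod * (φ i * g')).ofConv (c - m) = 0 := fun i => by
            have := ihj (i :: t) (by simp; omega) g' hg'
            rwa [List.map_cons, List.prod_cons, mul_comm (φ i), mul_assoc] at this
          have h3 : (t.map φ).prod * (f * g') =
              κ * ((t.map φ).prod * g') + ∑ i, f.ofConv (e i) • ((t.map φ).prod * (φ i * g')) := by
            simp only [κ, sub_mul, Finset.sum_mul, Algebra.smul_mul_assoc]
            simp only [mul_left_comm (t.map φ).prod]
            abel
          rw [h3]
          show (κ * ((t.map φ).prod * g')).ofConv (c - m) + _ = 0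
          rw [h1, zero_add]
          simp [WithConv.ofConv_sum, LinearMap.sum_apply, h2]
        · rw [mul_add]
          exact (congrArg₂ (· + ·) hx hy).trans (add_zero 0)
    have hfd : c - m ∈ (fil d : Submodule k A) := fun h hh => by
      have := hC d [] (by simp) h hh
      simpa using this
    have := add_mem (ih hfd) hmP
    rwa [sub_add_cancel] at this

end Groth.Agent.VecGrp
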