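import Groth.Agent.DiagRepLib.Scheme
import Groth.Prelude.Def_Red2
import Mathlib.RingTheory.Bialgebra.Convolution
import Mathlib.RingTheory.FiniteType
import Mathlib.AlgebraicGeometry.Morphisms.FiniteType

/-! The Hopf algebra of a commutative affine algebraic group (kept apart to keep import closures small). -/

set_option autoImplicit false
set_option backward.isDefEq.respectTransparency false
set_option maxHeartbeats 1000000

noncomputable section

universe u

open CategoryTheory CategoryTheory.Limits MonoidalCategory CartesianMonoidalCategory AlgebraicGeometry CoactBr WithConv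
open scoped MonObj TensorProduct

namespace Groth.Agent.VecGrp

attribute [-instance] CategoryTheory.Hom.commGroup
attribute [local instance] CoactBr.braidedAlgSpecOf

variable {k : Type u} [Field k]

section push
variable {A T T' : Type u} [CommRing A] [Bialgebra k A] [CommRing T] [Algebra k T] [CommRing T'] [Algebra k T']

/-- Push a point forward. -/
def push (h : T →ₐ[k] T') (P : WithConv (A →ₐ[k] T)) : WithConv (A →ₐ[k] T') := toConv (h.comp P.ofConv)

theorem push_mul (h : T →ₐ[k] T') (P Q : WithConv (A →ₐ[k] T)) : push h (P * Q) = push h P * push h Q :=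
  WithConv.ext (AlgHom.comp_convMul_distrib h P Q)

end push

/-- The Hopf algebra of a commutative affine algebraic group. -/
theorem exists_hopf (L : Over (Spec (CommRingCat.of k))) [GrpObj L] [IsCommMonObj L] [IsAffine L.left]
    [LocallyOfFiniteType L.hom] :
    ∃ (A : Type u) (_ : CommRing A) (_ : HopfAlgebra k A) (v : sp k A ≅ L),
      IsMonHom v.hom ∧ IsMonHom v.inv ∧ Algebra.FiniteType k A ∧ Coalgebra.IsCocomm k A := by
  obtain ⟨H, ⟨e⟩⟩ : (hopfSpec (CommRingCat.of k)).essImage (Grp.mk L) :=
    (essImage_hopfSpec (R := CommRingCat.of k) (G := Grp.mk L)).2 inferInstance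
  let A : Type u := H.unop.X
  letI : CommRing A := H.unop.commRing
  letI : HopfAlgebra k A := H.unop.hopfAlgebra
  let v : sp k A ≅ L := (Grp.forget _).mapIso e
  haveI : IsMonHom v.hom := e.hom.hom.isMonHom_hom
  haveI : IsMonHom v.inv := e.inv.hom.isMonHom_hom
  haveI : IsIso v.hom.left := (Over.forget _).map_isIso v.hom
  haveI : Algebra.FiniteType k A := by
    haveI : LocallyOfFiniteType (sp k A).hom := by rw [← Over.w v.hom]; infer_instance
    have h : (algebraMap k A).FiniteType :=
      (HasRingHomProperty.Spec_iff (P := @LocallyOfFiniteType) (φ := CommRingCat.ofHom (algebraMap k A))).1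
        (inferInstance : LocallyOfFiniteType (sp k A).hom)
    exact RingHom.finiteType_algebraMap.1 h
  haveI : IsCommMonObj (sp k A) := ⟨by
    rw [← cancel_mono v.hom, Category.assoc, IsMonHom.mul_hom, ← BraidedCategory.braiding_naturality_assoc,
      IsCommMonObj.mul_comm]⟩
  haveI : Coalgebra.IsCocomm k A := by
    letI : CommGroup (sp k (A ⊗[k] A) ⟶ sp k A) := Hom.commGroup
    have h : toConv (Algebra.TensorProduct.includeLeft : A →ₐ[k] A ⊗[k] A) * toConv Algebra.TensorProduct.includeRight =
        toConv Algebra.TensorProduct.includeRight * toConv Algebra.TensorProduct.includeLeft := by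
      refine WithConv.ext (pt_injective ?_)
      rw [← DiagRep.pt_mul_conv, ← DiagRep.pt_mul_conv]
      exact mul_comm _ _
    let σ : A ⊗[k] A →ₐ[k] A ⊗[k] A := (Algebra.TensorProduct.comm k A A).toAlgHom
    have h1 : push σ (toConv (Bialgebra.comulAlgHom k A)) = toConv (Bialgebra.comulAlgHom k A) := by
      rw [DiagRep.toConv_comul, push_mul, h]
      congr 1 <;> exact WithConv.ext (AlgHom.ext fun a => by simp [push, σ])
    refine ⟨LinearMap.ext fun a => ?_⟩
    exact DFunLike.congr_fun (congrArg ofConv h1) a
  exact ⟨A, inferInstance, inferInstance, v, inferInstance, inferInstance, inferInstance, inferInstance⟩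

end Groth.Agent.VecGrp
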