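import Groth.Agent.VecGrpLib.Expand
import Groth.Agent.VecGrpLib.Gen
import Groth.Agent.VecGrpLib.Hopf
import Groth.Agent.DiagRepLib.Scheme
import Groth.Agent.AlgSpLib.ReducedSmooth
import Groth.Prelude.Def_Red2
import Mathlib.RingTheory.Smooth.Basic

/-! A smooth commutative affine group killed by `p` embeds into a vector group. -/

set_option autoImplicit false
set_option backward.isDefEq.respectTransparency false
set_option backward.isDefEq.respectTransparency.types false
set_option linter.style.haveILetI false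
set_option maxHeartbeats 1000000
set_option synthInstance.maxHeartbeats 400000

universe u

open CategoryTheory CategoryTheory.Limits MonoidalCategory CartesianMonoidalCategory AlgebraicGeometry CoactBr WithConv
open scoped MonObj TensorProduct

namespace Groth.Agent.VecGrp

attribute [-instance] CategoryTheory.Hom.commGroup
attribute [local instance] CoactBr.braidedAlgSpecOf

variable {k : Type u} [Field k]

/-- Primitive generators of the Hopf algebra of a smooth commutative affine group killed by `p`. -/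
theorem exists_prim_generators (p : ℕ) [Fact p.Prime] [CharP k p]
    (G : Over (Spec (CommRingCat.of k))) [GrpObj G] [IsAffine G.left] [Smooth G.hom]
    (hcomm : ∀ (X : Over (Spec (CommRingCat.of k))) (g h : X ⟶ G), g * h = h * g)
    (htors : ∀ (X : Over (Spec (CommRingCat.of k))) (g : X ⟶ G), g ^ p = 1) :
    ∃ (A : Type u) (_ : CommRing A) (_ : HopfAlgebra k A) (v : sp k A ≅ G) (n : ℕ) (x : Fin n → A),
      IsMonHom v.hom ∧ IsMonHom v.inv ∧ Algebra.Smooth k A ∧ Coalgebra.IsCocomm k A ∧ (∀ i, IsPrim k (x i)) ∧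
        Algebra.adjoin k (Set.range x) = ⊤ := by
  classical
  haveI : IsCommMonObj G := ⟨by
    have h := hcomm (G ⊗ G) (snd G G) (fst G G)
    rw [Hom.mul_def, Hom.mul_def, lift_fst_snd, Category.id_comp] at h
    rw [← h]
    congr 1⟩
  obtain ⟨A, _, _, v, hv, hv', hft, hco⟩ := exists_hopf G
  haveI := hv
  haveI := hv'
  haveI := hco
  haveI := hft
  haveI : IsIso v.hom.left := ((Over.forget _).mapIso v).isIso_hom
  have hs : Smooth (sp k A).hom := by rw [← Over.w v.hom]; infer_instance
  haveI hsA : Algebra.Smooth k A := RingHom.smooth_algebraMap.1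
    ((HasRingHomProperty.Spec_iff (P := @Smooth) (φ := CommRingCat.ofHom (algebraMap k A))).1 hs)
  haveI : Algebra.IsGeometricallyReduced k A := by
    rw [Algebra.isGeometricallyReduced_field_iff]
    haveI : Smooth (Spec.map (CommRingCat.ofHom (algebraMap (AlgebraicClosure k) (AlgebraicClosure k ⊗[k] A)))) :=
      (HasRingHomProperty.Spec_iff (P := @Smooth)).2 (RingHom.smooth_algebraMap.2 inferInstance)
    haveI := AlgSpLib.isReduced_of_smooth
      (Spec.map (CommRingCat.ofHom (algebraMap (AlgebraicClosure k) (AlgebraicClosure k ⊗[k] A))))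
    exact affine_isReduced_iff _ |>.1 this
  haveI : Nontrivial A := (Bialgebra.counitAlgHom k A).toRingHom.domain_nontrivial
  haveI : CharP A p := charP_of_injective_algebraMap (algebraMap k A).injective p
  -- the identity is killed by `p`
  have hp1 : (toConv (AlgHom.id k A)) ^ p = 1 := by
    have hpow : ∀ m : ℕ, (pt (AlgHom.id k A) : sp k A ⟶ sp k A) ^ m = pt ((toConv (AlgHom.id k A)) ^ m).ofConv := by
      intro m
      induction m with
      | zero => rw [pow_zero, pow_zero]; exact DiagRep.pt_one.symm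
      | succ m ih => rw [pow_succ, pow_succ, ih, DiagRep.pt_mul_conv]
    have h1 := hpow p
    have h2 : (pt (AlgHom.id k A) : sp k A ⟶ sp k A) ^ p = 1 := by
      rw [← cancel_mono v.hom, MonObj.one_comp, MonObj.pow_comp]
      exact htors _ _
    rw [h2, ← DiagRep.pt_one] at h1
    exact (WithConv.ext (pt_injective h1)).symm
  have hlin : (toConv (LinearMap.id : A →ₗ[k] A)) ^ p = 1 := by
    have hm : ∀ m : ℕ, (toConv (LinearMap.id : A →ₗ[k] A)) ^ m = toConv ((toConv (AlgHom.id k A)) ^ m).ofConv.toLinearMap := by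
      intro m
      induction m with
      | zero => rfl
      | succ m ih =>
        rw [pow_succ, pow_succ, ih]
        exact WithConv.ext rfl
    rw [hm, hp1]
    rfl
  have htop := adjoin_prim_eq_top (k := k) (A := A) p fun f hf => form_pow_eq_zero p hlin hf
  obtain ⟨s, hs'⟩ := (hft.out : (⊤ : Subalgebra k A).FG)
  have hmem : ∀ a ∈ s, ∃ T : Finset A, ↑T ⊆ {x : A | IsPrim k x} ∧ a ∈ Algebra.adjoin k (T : Set A) := fun a _ => by
    have ha : a ∈ Algebra.adjoin k {x : A | IsPrim k x} := htop ▸ trivial
    refine Algebra.adjoin_induction (p := fun a _ => ∃ T : Finset A, ↑T ⊆ {x : A | IsPrim k x} ∧ a ∈ Algebra.adjoin k (T : Set A))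
      (fun x hx => ⟨{x}, by simpa using hx, Algebra.subset_adjoin (by simp)⟩)
      (fun r => ⟨∅, by simp, Subalgebra.algebraMap_mem _ r⟩) ?_ ?_ ha
    · rintro x y - - ⟨T, hT, hx⟩ ⟨U, hU, hy⟩
      exact ⟨T ∪ U, by simp [hT, hU],
        add_mem (Algebra.adjoin_mono (by simp) hx) (Algebra.adjoin_mono (by simp) hy)⟩
    · rintro x y - - ⟨T, hT, hx⟩ ⟨U, hU, hy⟩
      exact ⟨T ∪ U, by simp [hT, hU],
        mul_mem (Algebra.adjoin_mono (by simp) hx) (Algebra.adjoin_mono (by simp) hy)⟩
  choose T hT hTa using hmem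
  let U := s.attach.biUnion fun a => T a.1 a.2
  refine ⟨A, inferInstance, inferInstance, v, U.card, fun i => (U.equivFin.symm i : A), hv, hv', hsA, hco, fun i => ?_, ?_⟩
  · obtain ⟨a, -, ha⟩ := Finset.mem_biUnion.1 (U.equivFin.symm i).2
    exact hT _ _ ha
  · refine eq_top_iff.2 (hs' ▸ Algebra.adjoin_le fun a ha => ?_)
    refine Algebra.adjoin_mono (fun x hx => ?_) (hTa a ha)
    exact ⟨U.equivFin ⟨x, Finset.mem_biUnion.2 ⟨⟨a, ha⟩, Finset.mem_attach _ _, hx⟩⟩, by simp⟩

/-- The homomorphism to a vector group given by primitive elements. -/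
theorem isMonHom_pt_lift {A : Type u} [CommRing A] [HopfAlgebra k A] {n : ℕ} {x : Fin n → A}
    (hx : ∀ i, IsPrim k (x i)) :
    IsMonHom (pt (R := k) (SymmetricAlgebra.lift (Fintype.linearCombination k x) :
      SymmetricAlgebra k (Fin n → k) →ₐ[k] A)) := by
  have hbasis : ∀ i, Fintype.linearCombination k x (Pi.single i 1) = x i := fun i => by
    simp [Fintype.linearCombination_apply_single]
  refine DiagRep.isMonHom_pt _ ?_ ?_
  · refine SymmetricAlgebra.algHom_ext (LinearMap.pi_ext' fun i => LinearMap.ext_ring ?_)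
    show Coalgebra.counit (R := k) ((SymmetricAlgebra.lift (Fintype.linearCombination k x)) (SymmetricAlgebra.ι k _ (Pi.single i 1))) =
      Coalgebra.counit (R := k) (SymmetricAlgebra.ι k (Fin n → k) (Pi.single i 1))
    rw [SymmetricAlgebra.lift_ι_apply, hbasis, SymmetricAlgebra.counit_ι]
    have h := congrArg (fun t => TensorProduct.lid k A (Coalgebra.counit.rTensor A t)) (hx i)
    simp [Coalgebra.rTensor_counit_comul, Bialgebra.counit_one] at h
    haveI : Nontrivial A := (Bialgebra.counitAlgHom k A).toRingHom.domain_nontrivial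
    exact h.resolve_right one_ne_zero
  · refine SymmetricAlgebra.algHom_ext (LinearMap.pi_ext' fun i => LinearMap.ext_ring ?_)
    show Algebra.TensorProduct.map _ _ (Coalgebra.comul (R := k) (SymmetricAlgebra.ι k (Fin n → k) (Pi.single i 1))) =
      Coalgebra.comul (R := k) ((SymmetricAlgebra.lift (Fintype.linearCombination k x)) (SymmetricAlgebra.ι k _ (Pi.single i 1)))
    rw [SymmetricAlgebra.lift_ι_apply, hbasis, SymmetricAlgebra.comul_ι, show Coalgebra.comul (R := k) (x i) = _ from hx i]
    simp [hbasis]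

/-- The embedding into a vector group. -/
theorem exists_embedding (p : ℕ) [Fact p.Prime] [CharP k p]
    (G : Over (Spec (CommRingCat.of k))) [GrpObj G] [IsAffine G.left] [Smooth G.hom]
    (hcomm : ∀ (X : Over (Spec (CommRingCat.of k))) (g h : X ⟶ G), g * h = h * g)
    (htors : ∀ (X : Over (Spec (CommRingCat.of k))) (g : X ⟶ G), g ^ p = 1) :
    ∃ (n : ℕ) (i : G ⟶ ((Spec (CommRingCat.of (SymmetricAlgebra k (Fin n → k)))).asOver (Spec (CommRingCat.of k)))),
      IsMonHom i ∧ IsClosedImmersion i.left := by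
  obtain ⟨A, _, _, v, n, x, hv, hv', -, -, hx, hgen⟩ := exists_prim_generators p G hcomm htors
  haveI := hv'
  let ψ : SymmetricAlgebra k (Fin n → k) →ₐ[k] A := SymmetricAlgebra.lift (Fintype.linearCombination k x)
  haveI := isMonHom_pt_lift hx
  refine ⟨n, v.inv ≫ pt ψ, inferInstance, ?_⟩
  haveI : IsIso v.inv.left := ((Over.forget _).mapIso v).isIso_inv
  have hs : Function.Surjective ψ := by
    rw [← AlgHom.range_eq_top, eq_top_iff, ← hgen, Algebra.adjoin_le_iff]
    rintro _ ⟨i, rfl⟩
    exact ⟨SymmetricAlgebra.ι k _ (Pi.single i 1), by simp [ψ]⟩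
  haveI : IsClosedImmersion (pt (R := k) ψ).left := IsClosedImmersion.spec_of_surjective _ hs
  show IsClosedImmersion (v.inv.left ≫ (pt (R := k) ψ).left)
  infer_instance

end Groth.Agent.VecGrp
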