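import Groth.Agent.VecGrpLib.Cotan
import Groth.Agent.CommAlgDim.Integral
import Mathlib.RingTheory.AlgebraicIndependent.TranscendenceBasis
import Mathlib.RingTheory.AlgebraicIndependent.Transcendental
import Mathlib.RingTheory.Ideal.MinimalPrime.Localization
import Mathlib.RingTheory.Kaehler.Polynomial
import Mathlib.RingTheory.TensorProduct.Free
import Mathlib.RingTheory.Kaehler.JacobiZariski
import Mathlib.RingTheory.Etale.Basic
import Mathlib.RingTheory.Unramified.Finite
import Mathlib.RingTheory.KrullDimension.Polynomial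
import Mathlib.RingTheory.KrullDimension.Field

/-!
Additive Noether normalisation of a commutative affine group killed by `p`.
-/

set_option autoImplicit false
set_option maxHeartbeats 1000000
set_option linter.style.haveILetI false
set_option linter.unusedSectionVars false

noncomputable section

universe u

open scoped TensorProduct

namespace Groth.Agent.VecGrp

variable {k : Type u} [Field k]

section integral

variable {A : Type u} [CommRing A] [Algebra k A]

theorem eq_zero_of_pev_X_eq_zero (p : ℕ) [hp : Fact p.Prime] {c : Polynomial k}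
    (h : pev p (Polynomial.X : Polynomial k) c = 0) : c = 0 := by
  ext j
  have hexp : pev p (Polynomial.X : Polynomial k) c =
      ∑ l ∈ c.support, c.coeff l • (Polynomial.X : Polynomial k) ^ p ^ l := by
    conv_lhs => rw [c.as_sum_support]
    simp
  have h1 := congrArg (fun f : Polynomial k => f.coeff (p ^ j)) h
  simp only [hexp, Polynomial.finsetSum_coeff, Polynomial.coeff_smul, Polynomial.coeff_X_pow, smul_eq_mul,
    mul_ite, mul_one, mul_zero, Polynomial.coeff_zero] at h1
  rw [Finset.sum_congr rfl fun l _ => show (if p ^ j = p ^ l then c.coeff l else 0) = if j = l then c.coeff l else 0 by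
    simp [(Nat.pow_right_injective hp.out.two_le).eq_iff], Finset.sum_ite_eq] at h1
  by_cases hj : j ∈ c.support
  · simpa [hj] using h1
  · simpa using hj

theorem eq_zero_of_relation (p : ℕ) [Fact p.Prime] [CharP k p] {ι : Type} [Fintype ι] {x : ι → A}
    (hx : AlgebraicIndependent k x) {c : ι → Polynomial k} (h : ∑ i, pev p (x i) (c i) = 0) : c = 0 := by
  classical
  funext i
  have h0 : ∑ l, pev p (MvPolynomial.X l : MvPolynomial ι k) (c l) = 0 := by
    refine hx ?_
    show MvPolynomial.aeval x _ = MvPolynomial.aeval x 0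
    simp only [map_sum, map_zero, pev_algHom, MvPolynomial.aeval_X]
    exact h
  have h1 := congrArg (MvPolynomial.aeval (Pi.single i (Polynomial.X : Polynomial k))) h0
  simp only [map_sum, map_zero, pev_algHom, MvPolynomial.aeval_X] at h1
  refine eq_zero_of_pev_X_eq_zero p (h1 ▸ ?_)
  rw [Finset.sum_eq_single i (fun l _ hl => by rw [Pi.single_eq_of_ne hl, pev_zero]) (by simp), Pi.single_eq_same]

/-- An element satisfying an additive equation is integral. -/
theorem isIntegral_of_pev_mem (p : ℕ) [hp : Fact p.Prime] [CharP k p] (C : Subalgebra k A) {z : A}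
    {R : Polynomial k} (hR : R ≠ 0) (h : pev p z R ∈ C) : IsIntegral C z := by
  set d := R.natDegree
  have hlc : R.leadingCoeff ≠ 0 := Polynomial.leadingCoeff_ne_zero.2 hR
  let r : ℕ → C := fun j => algebraMap k C (R.coeff j / R.leadingCoeff)
  let c : C := R.leadingCoeff⁻¹ • ⟨pev p z R, h⟩
  let g : Polynomial C := (∑ j ∈ Finset.range d, Polynomial.monomial (p ^ j) (r j)) - Polynomial.C c
  have hg : g.degree < (p ^ d : ℕ) := by
    refine lt_of_le_of_lt (Polynomial.degree_sub_le _ _) (max_lt ?_ ?_)
    · refine lt_of_le_of_lt (Polynomial.degree_sum_le _ _) ((Finset.sup_lt_iff (WithBot.bot_lt_coe _)).2 fun j hj => ?_)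
      exact lt_of_le_of_lt (Polynomial.degree_monomial_le _ _)
        (Nat.cast_lt.2 (Nat.pow_lt_pow_right hp.out.one_lt (Finset.mem_range.1 hj)))
    · exact lt_of_le_of_lt Polynomial.degree_C_le (Nat.cast_pos.2 (pow_pos hp.out.pos d))
  refine ⟨Polynomial.X ^ p ^ d + g, Polynomial.monic_X_pow_add hg, ?_⟩
  have hsum : pev p z R = (∑ j ∈ Finset.range d, R.coeff j • z ^ p ^ j) + R.leadingCoeff • z ^ p ^ d := by
    conv_lhs => rw [R.as_sum_range' (d + 1) (Nat.lt_succ_self _)]
    simp only [map_sum, pev_monomial]
    rw [Finset.sum_range_succ]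
    rfl
  have hr : ∀ j, algebraMap C A (r j) = algebraMap k A (R.coeff j / R.leadingCoeff) := fun j => rfl
  have hc : algebraMap C A c = R.leadingCoeff⁻¹ • pev p z R := rfl
  rw [Polynomial.eval₂_add, Polynomial.eval₂_X_pow, Polynomial.eval₂_sub, Polynomial.eval₂_finsetSum,
    Polynomial.eval₂_C, hc, hsum, smul_add, smul_smul, inv_mul_cancel₀ hlc, one_smul, Finset.smul_sum]
  simp only [Polynomial.eval₂_monomial, hr, ← Algebra.smul_def, smul_smul, div_eq_inv_mul]
  abel

theorem isIntegral_of_adjoin_eq_top (C : Subalgebra k A) {ι : Type*} {x : ι → A}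
    (hgen : Algebra.adjoin k (Set.range x) = ⊤) (hx : ∀ i, IsIntegral C (x i)) : Algebra.IsIntegral C A := by
  refine ⟨fun a => ?_⟩
  have hle : Algebra.adjoin k (Set.range x) ≤ (integralClosure C A).restrictScalars k :=
    Algebra.adjoin_le fun _ ⟨i, hi⟩ => hi ▸ hx i
  exact hle (hgen ▸ trivial)

theorem isIntegral_of_le_closure (C C' : Subalgebra k A) (hle : C' ≤ (integralClosure C A).restrictScalars k)
    (p : ℕ) [Fact p.Prime] [CharP k p] {z : A} {R : Polynomial k} (hR : R ≠ 0) (h : pev p z R ∈ C') :
    IsIntegral C z := by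
  have h1 : IsIntegral (integralClosure C A) z := isIntegral_of_pev_mem p ((integralClosure C A).restrictScalars k) hR (hle h)
  exact isIntegral_trans z h1

theorem pev_mem (p : ℕ) (S : Subalgebra k A) {x : A} (hx : x ∈ S) (c : Polynomial k) : pev p x c ∈ S := by
  induction c using Polynomial.induction_on' with
  | add a b ha hb => rw [map_add]; exact add_mem ha hb
  | monomial j r => rw [pev_monomial]; exact Subalgebra.smul_mem _ (pow_mem hx _) _

/-- Triangular equations make the variables integral. -/
theorem isIntegral_of_pow_mem {C : Type*} [CommRing C] [Algebra C A] {m : ℕ} (w : Fin m → A) (E : Fin m → ℕ)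
    (h : ∀ i, w i ^ E i ∈ Submodule.span C {t | ∃ a : Fin m → ℕ, ∑ l, a l < E i ∧ t = ∏ l, w l ^ a l}) (i : Fin m) :
    IsIntegral C (w i) := by
  classical
  let mon : (Fin m → ℕ) → A := fun a => ∏ l, w l ^ a l
  let T : Finset A := (Fintype.piFinset fun l => Finset.range (E l)).image mon
  let S := Submodule.span C (T : Set A)
  have hmon : ∀ (e : ℕ) (a : Fin m → ℕ), ∑ l, a l = e → mon a ∈ S := by
    intro e
    induction e using Nat.strongRecOn with
    | _ e ih =>
      intro a ha
      by_cases hb : ∀ l, a l < E l
      · exact Submodule.subset_span (Finset.mem_image.2 ⟨a, Fintype.mem_piFinset.2 fun l => Finset.mem_range.2 (hb l), rfl⟩)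
      · push Not at hb
        obtain ⟨l, hl⟩ := hb
        let a' : Fin m → ℕ := Function.update a l (a l - E l)
        have hsplit : a = fun l' => a' l' + if l' = l then E l else 0 := by
          funext l'
          by_cases hll : l' = l
          · subst hll; simp [a']; omega
          · simp [a', hll]
        have hfac : mon a = mon a' * w l ^ E l := by
          conv_lhs => rw [hsplit]
          simp only [mon, pow_add, Finset.prod_mul_distrib, pow_ite, pow_zero, Finset.prod_ite_eq', Finset.mem_univ, if_true]
        have hsum : ∑ l', a' l' + E l = e := by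
          rw [← ha]; conv_rhs => rw [hsplit]
          rw [Finset.sum_add_distrib, Finset.sum_ite_eq', if_pos (Finset.mem_univ _)]
        rw [hfac]
        refine Submodule.span_induction (p := fun t _ => mon a' * t ∈ S) ?_ (by simp)
          (fun x y _ _ hx hy => by rw [mul_add]; exact add_mem hx hy)
          (fun c x _ hx => by rw [mul_smul_comm]; exact Submodule.smul_mem _ c hx) (h l)
        rintro _ ⟨b, hb', rfl⟩
        have hmul : mon a' * mon b = mon (a' + b) := by
          simp only [mon, Pi.add_apply, pow_add, Finset.prod_mul_distrib]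
        change mon a' * mon b ∈ S
        rw [hmul]
        refine ih _ ?_ _ rfl
        simp only [Pi.add_apply, Finset.sum_add_distrib]
        omega
  let Sa : Subalgebra C A := Algebra.adjoin C (Set.range w)
  have hcl : ∀ t ∈ Submonoid.closure (Set.range w), ∃ a, t = mon a := by
    intro t ht
    induction ht using Submonoid.closure_induction with
    | mem t ht =>
      obtain ⟨l, rfl⟩ := ht
      exact ⟨Pi.single l 1, by simp [mon, Pi.single_apply, Finset.prod_ite_eq']⟩
    | one => exact ⟨0, by simp [mon]⟩
    | mul s t _ _ hs ht =>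
      obtain ⟨a, rfl⟩ := hs
      obtain ⟨b, rfl⟩ := ht
      exact ⟨a + b, by simp only [mon, Pi.add_apply, pow_add, Finset.prod_mul_distrib]⟩
  have heq : Subalgebra.toSubmodule Sa = S := by
    refine le_antisymm ?_ (Submodule.span_le.2 fun t ht => ?_)
    · rw [Algebra.adjoin_eq_span, Submodule.span_le]
      intro t ht
      obtain ⟨a, rfl⟩ := hcl t ht
      exact hmon _ a rfl
    · obtain ⟨a, -, rfl⟩ := Finset.mem_image.1 ht
      exact Subalgebra.prod_mem _ fun l _ => pow_mem (Algebra.subset_adjoin (Set.mem_range_self l)) _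
  exact IsIntegral.of_mem_of_fg Sa (heq ▸ Submodule.fg_span T.finite_toSet) _ (Algebra.subset_adjoin ⟨i, rfl⟩)

/-- Algebraically independent elements are at most as many as the generators of an algebra of integrality. -/
theorem card_le_of_isIntegral [Nontrivial A] {r s : ℕ} (u : Fin r → A) (v : Fin s → A)
    [Algebra.IsIntegral (Algebra.adjoin k (Set.range u)) A] (hv : AlgebraicIndependent k v) :
    s ≤ r ∧ (s = r → AlgebraicIndependent k u) := by
  classical
  obtain ⟨q, hq, hqc⟩ := Ideal.exists_comap_eq_of_mem_minimalPrimes_of_injective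
    (f := (MvPolynomial.aeval v).toRingHom) hv ⊥ (by rw [IsDomain.minimalPrimes_eq_singleton_bot]; rfl)
  haveI := hq
  let π : A →ₐ[k] A ⧸ q := Ideal.Quotient.mkₐ k q
  have hv' : AlgebraicIndependent k (π ∘ v) := by
    rw [algebraicIndependent_iff]
    intro f hf
    have : MvPolynomial.aeval v f ∈ q := by
      rw [← Ideal.Quotient.eq_zero_iff_mem]
      show π _ = 0
      rw [← AlgHom.comp_apply, MvPolynomial.comp_aeval]
      exact hf
    rw [← Ideal.mem_bot, ← hqc]
    exact this
  haveI halg : Algebra.IsAlgebraic (Algebra.adjoin k (Set.range (π ∘ u))) (A ⧸ q) := by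
    haveI : Algebra.IsIntegral (Algebra.adjoin k (Set.range (π ∘ u))) (A ⧸ q) := by
      refine ⟨fun a => ?_⟩
      obtain ⟨a, rfl⟩ := Ideal.Quotient.mk_surjective a
      have ha : IsIntegral (Algebra.adjoin k (Set.range u)) a := Algebra.IsIntegral.isIntegral a
      obtain ⟨g, hg, hga⟩ := ha
      have hmem : ∀ t : Algebra.adjoin k (Set.range u), π t ∈ Algebra.adjoin k (Set.range (π ∘ u)) := fun t => by
        rw [Set.range_comp, ← AlgHom.map_adjoin]
        exact ⟨t, t.2, rfl⟩
      let ι : Algebra.adjoin k (Set.range u) →ₐ[k] Algebra.adjoin k (Set.range (π ∘ u)) :=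
        (π.comp (Algebra.adjoin k (Set.range u)).val).codRestrict _ hmem
      refine ⟨g.map ι.toRingHom, hg.map _, ?_⟩
      rw [Polynomial.eval₂_map]
      show Polynomial.eval₂ (π.toRingHom.comp (algebraMap _ A)) (π a) g = 0
      exact (Polynomial.hom_eval₂ g _ π.toRingHom a).symm.trans (by rw [hga, map_zero])
    infer_instance
  have h1 : (s : Cardinal.{u}) ≤ Algebra.trdeg k (A ⧸ q) := by simpa using hv'.lift_cardinalMk_le_trdeg
  have h2 : Algebra.trdeg k (A ⧸ q) ≤ r := by
    refine (Algebra.IsAlgebraic.trdeg_le_cardinalMk k (Set.range (π ∘ u))).trans ?_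
    simpa using (Cardinal.mk_range_le_lift (f := π ∘ u))
  refine ⟨by simpa using h1.trans h2, fun hsr => ?_⟩
  haveI : Module.IsTorsionFree k (A ⧸ q) := inferInstance
  have h3 : IsTranscendenceBasis k (π ∘ u) := by
    refine Algebra.IsAlgebraic.isTranscendenceBasis_of_lift_le_trdeg_of_finite k (π ∘ u) ?_
    rw [← hsr]
    simpa using h1
  exact AlgebraicIndependent.of_comp π h3.1

end integral

section hopf

variable {A : Type u} [CommRing A] [HopfAlgebra k A]

/-- Additive Noether normalisation. -/
theorem exists_noether (p : ℕ) [hp : Fact p.Prime] [CharP k p] : ∀ (n : ℕ) (x : Fin n → A), (∀ i, IsPrim k (x i)) →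
    ∃ (m : ℕ) (w : Fin m → A), (∀ i, IsPrim k (w i)) ∧ AlgebraicIndependent k w ∧
      ∀ i, IsIntegral (Algebra.adjoin k (Set.range w)) (x i) := by
  classical
  intro n
  induction n with
  | zero => exact fun x _ => ⟨0, x, fun i => i.elim0, algebraicIndependent_empty_type_iff.2 (by
      haveI : Nontrivial A := (Bialgebra.counitAlgHom k A).toRingHom.domain_nontrivial
      exact (algebraMap k A).injective), fun i => i.elim0⟩
  | succ n ih =>
    intro x hx
    by_cases hind : AlgebraicIndependent k x
    · exact ⟨_, x, hx, hind, fun i => isIntegral_algebraMap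
        (x := (⟨x i, Algebra.subset_adjoin ⟨i, rfl⟩⟩ : Algebra.adjoin k (Set.range x)))⟩
    obtain ⟨c, hc0, hc⟩ := exists_relation p x hx hind
    obtain ⟨i₀, hi₀⟩ := Function.ne_iff.1 hc0
    let B : ℕ := (Finset.univ.sup fun i => (c i).natDegree) + 1
    have hB : ∀ i, (c i).natDegree < B := fun i =>
      Nat.lt_succ_of_le (Finset.le_sup (f := fun i => (c i).natDegree) (Finset.mem_univ i))
    let e : Fin n → ℕ := fun i => ((i : ℕ) + 1) * B
    let z := x i₀
    let x' : Fin n → A := fun i => x (i₀.succAbove i) - z ^ p ^ e i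
    obtain ⟨m, w, hw, hwind, hint⟩ := ih x' fun i => (hx _).sub ((hx i₀).pow p _)
    refine ⟨m, w, hw, hwind, ?_⟩
    let R : Polynomial k := c i₀ + ∑ i, c (i₀.succAbove i) * Polynomial.X ^ e i
    have hR : R ≠ 0 := by
      obtain ⟨l, hl⟩ : ∃ l, (c i₀).coeff l ≠ 0 := by
        by_contra! h
        exact hi₀ (Polynomial.ext fun l => by simp [h l])
      have hlB : l < B := lt_of_le_of_lt (Polynomial.le_natDegree_of_ne_zero hl) (hB i₀)
      intro h0
      have := congrArg (fun f : Polynomial k => f.coeff l) h0
      simp only [R, Polynomial.coeff_add, Polynomial.finsetSum_coeff, Polynomial.coeff_mul_X_pow',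
        Polynomial.coeff_zero] at this
      rw [Finset.sum_eq_zero (fun i _ => if_neg (by
        have : B ≤ e i := Nat.le_mul_of_pos_left _ (by omega)
        omega)), add_zero] at this
      exact hl this
    have hrel : pev p z R = -∑ i, pev p (x' i) (c (i₀.succAbove i)) := by
      rw [eq_neg_iff_add_eq_zero, map_add, map_sum, add_assoc, ← Finset.sum_add_distrib, ← hc,
        Fin.sum_univ_succAbove _ i₀]
      congr 1
      refine Finset.sum_congr rfl fun i _ => ?_
      rw [← pev_pow, ← pev_add]
      simp [x', z]
    let I := (integralClosure (Algebra.adjoin k (Set.range w)) A).restrictScalars k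
    have hle : Algebra.adjoin k (Set.range x') ≤ I := Algebra.adjoin_le fun _ ⟨i, hi⟩ => hi ▸ hint i
    have hz : IsIntegral (Algebra.adjoin k (Set.range w)) z := by
      refine isIntegral_of_le_closure _ _ hle p hR ?_
      rw [hrel]
      exact neg_mem (sum_mem fun i _ => pev_mem p _ (Algebra.subset_adjoin (Set.mem_range_self i)) _)
    intro i
    rcases Fin.eq_self_or_eq_succAbove i₀ i with h | ⟨j, h⟩
    · rw [h]; exact hz
    · rw [h, show x (i₀.succAbove j) = x' j + z ^ p ^ e j by simp [x']]
      exact (hint j).add (hz.pow _)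

/-- Perturbing by integral primitive elements keeps the normalisation. -/
theorem exists_perturb (p : ℕ) [hp : Fact p.Prime] [CharP k p] {m : ℕ} {w : Fin m → A} (hw : ∀ i, IsPrim k (w i))
    (hind : AlgebraicIndependent k w) (hint : Algebra.IsIntegral (Algebra.adjoin k (Set.range w)) A)
    {y : Fin m → A} (hy : ∀ i, IsPrim k (y i)) :
    ∃ N : ℕ, 0 < N ∧ Algebra.IsIntegral (Algebra.adjoin k (Set.range fun i => w i ^ p ^ N + y i)) A := by
  classical
  have heq : ∀ i, ∃ (R : Polynomial k) (c : Fin m → Polynomial k), R ≠ 0 ∧ pev p (y i) R = ∑ l, pev p (w l) (c l) := by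
    intro i
    have hdep : ¬ AlgebraicIndependent k (fun o : Option (Fin m) => o.elim (y i) w) := fun h => by
      haveI : Nontrivial A := (Bialgebra.counitAlgHom k A).toRingHom.domain_nontrivial
      exact ((hind.option_iff_transcendental _).1 h) (Algebra.IsIntegral.isIntegral (y i)).isAlgebraic
    obtain ⟨d, hd, hd0⟩ := exists_relation p _ (fun o => by rcases o with - | l; exacts [hy i, hw l]) hdep
    rw [Fintype.sum_option] at hd0
    refine ⟨d none, fun l => -d (some l), fun h0 => hd ?_, ?_⟩
    · funext o
      rcases o with - | l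
      · exact h0
      · rw [h0, map_zero, zero_add] at hd0
        exact congrFun (eq_zero_of_relation p hind (c := fun l => d (some l)) hd0) l
    · simp only [map_neg, Finset.sum_neg_distrib]
      exact eq_neg_of_add_eq_zero_left hd0
  choose R c hR hRc using heq
  let N : ℕ := (Finset.univ.sup fun il : Fin m × Fin m => (c il.1 il.2).natDegree) + 1
  refine ⟨N, Nat.succ_pos _, ?_⟩
  set C := Algebra.adjoin k (Set.range fun i => w i ^ p ^ N + y i)
  have hwC : ∀ i, IsIntegral C (w i) := by
    refine isIntegral_of_pow_mem (C := C) w (fun i => p ^ ((R i * Polynomial.X ^ N).natDegree)) fun i => ?_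
    set G := R i * Polynomial.X ^ N with hG
    set M := G.natDegree
    set V := Submodule.span C {t | ∃ a : Fin m → ℕ, ∑ l, a l < p ^ M ∧ t = ∏ l, w l ^ a l}
    have hsmul : ∀ (r : k) {t : A}, t ∈ V → r • t ∈ V := fun r t ht => by
      rw [← IsScalarTower.algebraMap_smul C r t]; exact V.smul_mem _ ht
    have hpow : ∀ (l : Fin m) (t : ℕ), t < p ^ M → w l ^ t ∈ V := fun l t ht =>
      Submodule.subset_span ⟨Pi.single l t, by simpa using ht, by simp [Pi.single_apply, Finset.prod_ite_eq']⟩
    have hpev : ∀ (l : Fin m) (f : Polynomial k), (∀ j ∈ f.support, j < M) → pev p (w l) f ∈ V := by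
      intro l f hf
      rw [f.as_sum_support, map_sum]
      refine sum_mem fun j hj => ?_
      rw [pev_monomial]
      exact hsmul _ (hpow l _ (Nat.pow_lt_pow_right hp.out.one_lt (hf j hj)))
    have hMN : N ≤ M := by
      rw [show M = (R i * Polynomial.X ^ N).natDegree from rfl, Polynomial.natDegree_mul (hR i) (pow_ne_zero _ Polynomial.X_ne_zero),
        Polynomial.natDegree_X_pow]
      omega
    have h1 : pev p (w i) G ∈ V := by
      have : pev p (w i) G = pev p (w i ^ p ^ N + y i) (R i) - pev p (y i) (R i) := by
        rw [pev_add, hG, ← pev_pow]; ring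
      rw [this]
      refine sub_mem ?_ ?_
      · have h1 : (1 : A) ∈ V := by
          simpa using hpow i 0 (pow_pos hp.out.pos M)
        have hC := pev_mem p C (Algebra.subset_adjoin ⟨i, rfl⟩) (R i)
        have := V.smul_mem (⟨_, hC⟩ : C) h1
        rwa [Algebra.smul_def, mul_one] at this
      · rw [hRc]
        refine sum_mem fun l _ => hpev l _ fun j hj => ?_
        have hA : (c i l).natDegree ≤ _ := Finset.le_sup (f := fun il : Fin m × Fin m => (c il.1 il.2).natDegree) (Finset.mem_univ (i, l))
        have hB := Polynomial.le_natDegree_of_mem_supp j hj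
        simp only [N] at hMN
        omega
    have hG0 : G ≠ 0 := mul_ne_zero (hR i) (pow_ne_zero _ Polynomial.X_ne_zero)
    conv at h1 => rw [← G.eraseLead_add_monomial_natDegree_leadingCoeff, map_add, pev_monomial]
    have h2 : G.leadingCoeff • w i ^ p ^ M ∈ V :=
      (Submodule.add_mem_iff_right _ (hpev i _ fun j hj => by
        refine lt_of_le_of_ne (Polynomial.le_natDegree_of_mem_supp j ?_) ?_
        · rw [Polynomial.eraseLead_support] at hj; exact Finset.mem_of_mem_erase hj
        · rw [Polynomial.eraseLead_support] at hj; exact Finset.ne_of_mem_erase hj)).1 h1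
    simpa [smul_smul, inv_mul_cancel₀ (Polynomial.leadingCoeff_ne_zero.2 hG0)] using hsmul G.leadingCoeff⁻¹ h2
  refine ⟨fun a => ?_⟩
  have hle : Algebra.adjoin k (Set.range w) ≤ (integralClosure C A).restrictScalars k :=
    Algebra.adjoin_le fun _ ⟨i, hi⟩ => hi ▸ hwC i
  obtain ⟨g, hg, hga⟩ := hint.isIntegral a
  have : IsIntegral (integralClosure C A) a := by
    refine ⟨g.map (Subalgebra.inclusion hle).toRingHom, hg.map _, ?_⟩
    exact (Polynomial.eval₂_map _ _ _).trans hga
  exact isIntegral_trans a this

/-- A finite étale additive map to affine space. -/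
theorem exists_etale_data (p : ℕ) [hp : Fact p.Prime] [CharP k p] [IsReduced (AlgebraicClosure k ⊗[k] A)]
    {n : ℕ} {x : Fin n → A} (hx : ∀ i, IsPrim k (x i)) (hgen : Algebra.adjoin k (Set.range x) = ⊤) :
    ∃ (d : ℕ) (w : Fin d → A), (∀ i, IsPrim k (w i)) ∧ AlgebraicIndependent k w ∧
      Algebra.IsIntegral (Algebra.adjoin k (Set.range w)) A ∧
      LinearIndependent A (fun i => KaehlerDifferential.D k A (w i)) ∧
      Submodule.span A (Set.range fun i => KaehlerDifferential.D k A (w i)) = ⊤ := by
  classical
  haveI : Nontrivial A := (Bialgebra.counitAlgHom k A).toRingHom.domain_nontrivial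
  obtain ⟨κ, a, ha, hspan, hli⟩ := exists_linearIndependent' k (fun i => KaehlerDifferential.D k A (x i))
  haveI : Finite κ := Finite.of_injective a ha
  haveI : Fintype κ := Fintype.ofFinite κ
  set d := Fintype.card κ
  let eκ : Fin d ≃ κ := (Fintype.equivFin κ).symm
  let y : Fin d → A := fun i => x (a (eκ i))
  have hli' : LinearIndependent k fun i => KaehlerDifferential.D k A (y i) := hli.comp eκ eκ.injective
  have hspan' : Submodule.span A (Set.range fun i => KaehlerDifferential.D k A (y i)) = ⊤ := by
    rw [eq_top_iff, ← KaehlerDifferential.span_range_derivation, Submodule.span_le]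
    rintro _ ⟨b, rfl⟩
    have hb : b ∈ Algebra.adjoin k (Set.range x) := hgen ▸ trivial
    induction hb using Algebra.adjoin_induction with
    | mem t ht =>
      obtain ⟨i, rfl⟩ := ht
      have h : KaehlerDifferential.D k A (x i) ∈ Submodule.span k (Set.range fun i => KaehlerDifferential.D k A (y i)) := by
        have : (Set.range fun i => KaehlerDifferential.D k A (y i)) =
            Set.range ((fun i => KaehlerDifferential.D k A (x i)) ∘ a) := by
          ext t
          exact ⟨fun ⟨i, hi⟩ => ⟨eκ i, hi⟩, fun ⟨j, hj⟩ => ⟨eκ.symm j, by simpa [y] using hj⟩⟩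
        rw [this, hspan]
        exact Submodule.subset_span ⟨i, rfl⟩
      exact Submodule.span_subset_span k A _ h
    | algebraMap r => simp
    | add s t _ _ hs ht => simpa using add_mem hs ht
    | mul s t _ _ hs ht =>
      rw [Derivation.leibniz]
      exact add_mem (Submodule.smul_mem _ _ ht) (Submodule.smul_mem _ _ hs)
  obtain ⟨m, w, hw, hind, hintx⟩ := exists_noether p n x hx
  haveI hint := isIntegral_of_adjoin_eq_top _ hgen hintx
  have hyind : AlgebraicIndependent k y := algebraicIndependent_of_D p (fun i => hx _) hli'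
  have hdm : d ≤ m := (card_le_of_isIntegral w y hyind).1
  let y' : Fin m → A := fun i => if h : (i : ℕ) < d then y ⟨i, h⟩ else 0
  have hy' : ∀ i, IsPrim k (y' i) := fun i => by
    simp only [y']; split
    · exact hx _
    · exact IsPrim.zero
  obtain ⟨N, hN, hint'⟩ := exists_perturb p hw hind hint hy'
  let w' : Fin m → A := fun i => w i ^ p ^ N + y' i
  haveI : Algebra.IsIntegral (Algebra.adjoin k (Set.range w')) A := hint'
  have hw'ind : AlgebraicIndependent k w' := (card_le_of_isIntegral w' w hind).2 rfl
  have hD : ∀ i, KaehlerDifferential.D k A (w' i) = KaehlerDifferential.D k A (y' i) := fun i => by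
    have h := D_pev (k := k) p (w i) (Polynomial.monomial N (1 : k))
    rw [pev_monomial, one_smul, Polynomial.coeff_monomial, if_neg hN.ne', zero_smul] at h
    simp only [w', map_add, h, zero_add]
  have hmd : m ≤ d := by
    by_contra hlt
    push Not at hlt
    let φ : MvPolynomial (Fin m) k →ₐ[k] A := MvPolynomial.aeval w'
    letI : Algebra (MvPolynomial (Fin m) k) A := φ.toRingHom.toAlgebra
    haveI : Algebra.IsIntegral (MvPolynomial (Fin m) k) A := by
      refine ⟨fun b => ?_⟩
      obtain ⟨g, hg, hgb⟩ := hint'.isIntegral b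
      have hsurj : Function.Surjective φ.rangeRestrict := φ.rangeRestrict_surjective
      have hrange : φ.range = Algebra.adjoin k (Set.range w') := (Algebra.adjoin_range_eq_range_aeval k w').symm
      let g' : Polynomial φ.range := g.map (Subalgebra.equivOfEq _ _ hrange.symm).toAlgHom.toRingHom
      have hg' : g' ∈ Polynomial.lifts φ.rangeRestrict.toRingHom := by
        obtain ⟨G, hG⟩ := Polynomial.map_surjective _ hsurj g'
        exact ⟨G, hG⟩
      obtain ⟨G, hG, -, hGm⟩ := Polynomial.lifts_and_degree_eq_and_monic hg' (hg.map _)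
      refine ⟨G, hGm, ?_⟩
      show Polynomial.eval₂ (φ.range.val.toRingHom.comp φ.rangeRestrict.toRingHom) b G = 0
      rw [← Polynomial.eval₂_map, hG, Polynomial.eval₂_map]
      exact hgb
    let ev : MvPolynomial (Fin m) k →ₐ[k] Polynomial k :=
      MvPolynomial.aeval fun i : Fin m => if (i : ℕ) < d then 0 else Polynomial.X
    let P : Ideal (MvPolynomial (Fin m) k) := RingHom.ker ev
    haveI : P.IsPrime := RingHom.ker_isPrime ev
    obtain ⟨Q, -, hQ, hQP⟩ := Ideal.exists_ideal_over_prime_of_isIntegral P (⊥ : Ideal A) (by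
      rw [Ideal.comap_bot_of_injective _ (show Function.Injective (algebraMap (MvPolynomial (Fin m) k) A) from hw'ind)]
      exact bot_le)
    have hQw : ∀ i : Fin m, (i : ℕ) < d → w' i ∈ Q := fun i hi => by
      have : MvPolynomial.X i ∈ Q.comap (algebraMap (MvPolynomial (Fin m) k) A) := by
        rw [hQP]; simp [P, ev, hi]
      rw [Ideal.mem_comap] at this
      rwa [show algebraMap (MvPolynomial (Fin m) k) A (MvPolynomial.X i) = w' i from MvPolynomial.aeval_X _ i] at this
    haveI : Subsingleton Ω[A ⧸ Q⁄k] := by
      refine subsingleton_of_forall_eq 0 fun s => ?_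
      have hs := KaehlerDifferential.map_surjective_of_surjective k k A (A ⧸ Q) Ideal.Quotient.mk_surjective
      have h0 : ∀ t, KaehlerDifferential.map k k A (A ⧸ Q) t = 0 := fun t => by
        have ht : t ∈ Submodule.span A (Set.range fun i => KaehlerDifferential.D k A (y i)) := hspan' ▸ trivial
        induction ht using Submodule.span_induction with
        | mem t ht =>
          obtain ⟨i, rfl⟩ := ht
          have hi := hQw ⟨i, lt_of_lt_of_le i.2 hdm⟩ i.2
          have hyi : y' ⟨i, lt_of_lt_of_le i.2 hdm⟩ = y i := by simp [y']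
          dsimp only
          rw [← hyi, ← hD, KaehlerDifferential.map_D,
            show algebraMap A (A ⧸ Q) (w' _) = 0 from Ideal.Quotient.eq_zero_iff_mem.2 hi, map_zero]
        | zero => simp
        | add s t _ _ hs ht => simp [hs, ht]
        | smul r t _ ht => simp [ht]
      obtain ⟨t, rfl⟩ := hs s
      exact h0 t
    haveI : Algebra.FormallyUnramified k (A ⧸ Q) := ⟨inferInstance⟩
    haveI : Algebra.FiniteType k A := ⟨⟨Finset.univ.image x, by simpa using hgen⟩⟩
    haveI : Algebra.FiniteType k (A ⧸ Q) := Algebra.FiniteType.of_surjective (Ideal.Quotient.mkₐ k Q) Ideal.Quotient.mk_surjective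
    haveI := Algebra.FormallyUnramified.finite_of_free k (A ⧸ Q)
    let t : MvPolynomial (Fin m) k := MvPolynomial.X ⟨d, hlt⟩
    obtain ⟨g, hg, hgt⟩ := Algebra.IsIntegral.isIntegral (R := k) (Ideal.Quotient.mkₐ k Q (φ t))
    have hPt : Polynomial.aeval t g ∈ P := by
      rw [← hQP, Ideal.mem_comap, ← Ideal.Quotient.eq_zero_iff_mem]
      show Ideal.Quotient.mkₐ k Q (φ (Polynomial.aeval t g)) = 0
      rw [← Polynomial.aeval_algHom_apply, ← Polynomial.aeval_algHom_apply]
      exact hgt
    have : Polynomial.aeval (ev t) g = 0 := by rw [Polynomial.aeval_algHom_apply]; exact hPt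
    rw [show ev t = Polynomial.X by simp [ev, t], Polynomial.aeval_X_left_apply] at this
    exact hg.ne_zero this
  obtain rfl : d = m := le_antisymm hdm hmd
  have hy'' : y' = y := funext fun i => by simp [y', i.2]
  have hDy : (fun i => KaehlerDifferential.D k A (w' i)) = fun i => KaehlerDifferential.D k A (y i) := by
    funext i; rw [hD, hy'']
  refine ⟨d, w', fun i => ((hw i).pow p N).add (hy' i), hw'ind, hint', ?_, ?_⟩
  · rw [hDy]; exact linearIndependent_D (fun i => hx _) hli'
  · rw [hDy]; exact hspan'

end hopf

section etale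

variable {A : Type u} [CommRing A] [Algebra k A] [Algebra.FormallySmooth k A]

/-- An algebra whose differentials are freely generated by some elements is formally étale over them. -/
theorem formallyEtale_of_D {d : ℕ} (w : Fin d → A)
    (hli : LinearIndependent A (fun i => KaehlerDifferential.D k A (w i)))
    (hspan : Submodule.span A (Set.range fun i => KaehlerDifferential.D k A (w i)) = ⊤) :
    (MvPolynomial.aeval (R := k) w).toRingHom.FormallyEtale := by
  letI := (MvPolynomial.aeval (R := k) w).toRingHom.toAlgebra
  haveI : IsScalarTower k (MvPolynomial (Fin d) k) A := IsScalarTower.of_algHom _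
  let P := MvPolynomial (Fin d) k
  let b := KaehlerDifferential.mvPolynomialBasis k (Fin d)
  let bA := Algebra.TensorProduct.basis A b
  have hb : ∀ i, KaehlerDifferential.mapBaseChange k P A (bA i) = KaehlerDifferential.D k A (w i) := fun i => by
    have : b i = KaehlerDifferential.D k P (MvPolynomial.X i) := by
      rw [← Module.Basis.repr_symm_single_one, KaehlerDifferential.mvPolynomialBasis_repr_symm_single, one_smul]
    rw [Algebra.TensorProduct.basis_apply, KaehlerDifferential.mapBaseChange_tmul, one_smul, this,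
      KaehlerDifferential.map_D]
    exact congrArg _ (MvPolynomial.aeval_X w i)
  have hinj : Function.Injective (KaehlerDifferential.mapBaseChange k P A) := by
    rw [injective_iff_map_eq_zero]
    intro t ht
    rw [← bA.sum_repr t, map_sum] at ht
    simp only [map_smul, hb] at ht
    rw [← bA.sum_repr t]
    simp [Fintype.linearIndependent_iff.1 hli _ ht]
  have hsurj : Function.Surjective (KaehlerDifferential.mapBaseChange k P A) := by
    rw [← LinearMap.range_eq_top, eq_top_iff, ← hspan, Submodule.span_le]
    rintro _ ⟨i, rfl⟩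
    exact ⟨bA i, hb i⟩
  haveI : Subsingleton Ω[A⁄P] := subsingleton_of_forall_eq 0 fun t => by
    obtain ⟨s, rfl⟩ := KaehlerDifferential.map_surjective k P A t
    obtain ⟨r, rfl⟩ := hsurj s
    exact (KaehlerDifferential.exact_mapBaseChange_map k P A).apply_apply_eq_zero r
  haveI : Subsingleton (Algebra.H1Cotangent P A) := subsingleton_of_forall_eq 0 fun t => by
    have h0 : Algebra.H1Cotangent.δ k P A t = 0 :=
      hinj ((Algebra.H1Cotangent.exact_δ_mapBaseChange k P A).apply_apply_eq_zero t |>.trans (map_zero _).symm)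
    obtain ⟨s, rfl⟩ := (Algebra.H1Cotangent.exact_map_δ k P A t).1 h0
    rw [Subsingleton.elim s 0, map_zero]
  show Algebra.FormallyEtale P A
  exact ⟨inferInstance, inferInstance⟩

end etale

end Groth.Agent.VecGrp
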