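import Groth.Agent.VecGrpLib.Embed
import Groth.Agent.VecGrpLib.Noether
import Mathlib.AlgebraicGeometry.Morphisms.Etale
import Mathlib.LinearAlgebra.SymmetricAlgebra.Basis
import Mathlib.RingTheory.RingHom.Etale

/-! An étale isogeny to a vector group. -/

set_option autoImplicit false
set_option backward.isDefEq.respectTransparency false
set_option backward.isDefEq.respectTransparency.types false
set_option linter.style.haveILetI false
set_option maxHeartbeats 1000000
set_option synthInstance.maxHeartbeats 400000

noncomputable section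

universe u

open CategoryTheory CategoryTheory.Limits MonoidalCategory CartesianMonoidalCategory AlgebraicGeometry CoactBr WithConv
open scoped MonObj TensorProduct

namespace Groth.Agent.VecGrp

attribute [-instance] CategoryTheory.Hom.commGroup

variable {k : Type u} [Field k]

theorem isReduced_tensor_of_smooth (A : Type u) [CommRing A] [Algebra k A] [Algebra.Smooth k A] :
    IsReduced (AlgebraicClosure k ⊗[k] A) := by
  haveI : Smooth (Spec.map (CommRingCat.ofHom (algebraMap (AlgebraicClosure k) (AlgebraicClosure k ⊗[k] A)))) :=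
    (HasRingHomProperty.Spec_iff (P := @Smooth)).2 (RingHom.smooth_algebraMap.2 inferInstance)
  haveI := AlgSpLib.isReduced_of_smooth
    (Spec.map (CommRingCat.ofHom (algebraMap (AlgebraicClosure k) (AlgebraicClosure k ⊗[k] A))))
  exact affine_isReduced_iff _ |>.1 this

theorem isIntegral_aeval {A : Type u} [CommRing A] [Algebra k A] {d : ℕ} {w : Fin d → A}
    (h : Algebra.IsIntegral (Algebra.adjoin k (Set.range w)) A) :
    (MvPolynomial.aeval (R := k) w).toRingHom.IsIntegral := by
  rw [Algebra.adjoin_range_eq_range_aeval] at h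
  have h1 : (MvPolynomial.aeval (R := k) w).rangeRestrict.toRingHom.IsIntegral :=
    RingHom.IsIntegral.of_finite (RingHom.Finite.of_surjective _ (MvPolynomial.aeval (R := k) w).rangeRestrict_surjective)
  exact RingHom.IsIntegral.trans _ (algebraMap (MvPolynomial.aeval (R := k) w).range A) h1 fun a => h.isIntegral a

theorem lift_eq_aeval {A : Type u} [CommRing A] [Algebra k A] {d : ℕ} (w : Fin d → A) :
    (SymmetricAlgebra.lift (Fintype.linearCombination k w) : SymmetricAlgebra k (Fin d → k) →ₐ[k] A) =
      (MvPolynomial.aeval w).comp (SymmetricAlgebra.equivMvPolynomial (Pi.basisFun k (Fin d))).toAlgHom := by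
  refine SymmetricAlgebra.algHom_ext ((Pi.basisFun k (Fin d)).ext fun i => ?_)
  show SymmetricAlgebra.lift (Fintype.linearCombination k w) (SymmetricAlgebra.ι k (Fin d → k) (Pi.basisFun k (Fin d) i)) =
    MvPolynomial.aeval w (SymmetricAlgebra.equivMvPolynomial (Pi.basisFun k (Fin d))
      (SymmetricAlgebra.ι k (Fin d → k) (Pi.basisFun k (Fin d) i)))
  rw [SymmetricAlgebra.lift_ι_apply, SymmetricAlgebra.equivMvPolynomial_ι_apply, MvPolynomial.aeval_X,
    Pi.basisFun_apply, Fintype.linearCombination_apply_single, one_smul]

/-- The étale isogeny. -/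
theorem exists_etale_isogeny (p : ℕ) [Fact p.Prime] [CharP k p]
    (G : Over (Spec (CommRingCat.of k))) [GrpObj G] [IsAffine G.left] [Smooth G.hom]
    (hcomm : ∀ (X : Over (Spec (CommRingCat.of k))) (g h : X ⟶ G), g * h = h * g)
    (htors : ∀ (X : Over (Spec (CommRingCat.of k))) (g : X ⟶ G), g ^ p = 1) :
    ∃ (n : ℕ) (f : G ⟶ ((Spec (CommRingCat.of (SymmetricAlgebra k (Fin n → k)))).asOver (Spec (CommRingCat.of k)))),
      IsMonHom f ∧ Etale f.left ∧ Surjective f.left := by
  obtain ⟨A, _, _, v, n, x, hv, hv', hsm, -, hx, hgen⟩ := exists_prim_generators p G hcomm htors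
  haveI := hv'
  haveI := hsm
  haveI := isReduced_tensor_of_smooth (k := k) A
  obtain ⟨d, w, hw, hind, hint, hli, hspan⟩ := exists_etale_data p hx hgen
  let ψ : SymmetricAlgebra k (Fin d → k) →ₐ[k] A := SymmetricAlgebra.lift (Fintype.linearCombination k w)
  haveI := isMonHom_pt_lift hw
  haveI : IsIso v.inv.left := ((Over.forget _).mapIso v).isIso_inv
  let e := SymmetricAlgebra.equivMvPolynomial (Pi.basisFun k (Fin d))
  have hψ : ψ = (MvPolynomial.aeval w).comp e.toAlgHom := lift_eq_aeval w
  have het : (MvPolynomial.aeval (R := k) w).toRingHom.Etale := by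
    letI := (MvPolynomial.aeval (R := k) w).toRingHom.toAlgebra
    haveI : IsScalarTower k (MvPolynomial (Fin d) k) A := IsScalarTower.of_algHom _
    haveI : Algebra.FormallyEtale (MvPolynomial (Fin d) k) A := formallyEtale_of_D w hli hspan
    haveI : Algebra.FinitePresentation (MvPolynomial (Fin d) k) A :=
      Algebra.FinitePresentation.of_restrict_scalars_finitePresentation k (MvPolynomial (Fin d) k) A
    show Algebra.Etale (MvPolynomial (Fin d) k) A
    exact ⟨inferInstance, inferInstance⟩
  have het' : ψ.toRingHom.Etale := by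
    rw [hψ]
    exact RingHom.Etale.respectsIso.2 _ e.toRingEquiv het
  have hint' : ψ.toRingHom.IsIntegral := by
    rw [hψ]
    exact RingHom.IsIntegral.trans _ _ (RingHom.IsIntegral.of_finite (RingHom.Finite.of_surjective _ e.surjective))
      (isIntegral_aeval hint)
  have hinj : Function.Injective ψ := by
    rw [hψ]
    show Function.Injective (MvPolynomial.aeval (R := k) w ∘ e)
    exact Function.Injective.comp hind e.injective
  have hleft : (pt (R := k) ψ).left = Spec.map (CommRingCat.ofHom ψ.toRingHom) := pt_left _
  haveI : Etale (pt (R := k) ψ).left := by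
    rw [hleft]; exact (HasRingHomProperty.Spec_iff (P := @Etale)).2 het'
  haveI : Surjective (pt (R := k) ψ).left := by
    rw [hleft]
    exact ⟨hint'.comap_surjective hinj⟩
  refine ⟨d, v.inv ≫ pt ψ, inferInstance, ?_, ?_⟩
  · show Etale (v.inv.left ≫ (pt (R := k) ψ).left)
    infer_instance
  · show Surjective (v.inv.left ≫ (pt (R := k) ψ).left)
    infer_instance

end Groth.Agent.VecGrp
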