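import Groth.Agent.VecGrpLib.Noether
import Mathlib.Algebra.MvPolynomial.Funext
import Mathlib.RingTheory.MvPolynomial.Homogeneous
import Mathlib.RingTheory.Nilpotent.Basic
import Mathlib.RingTheory.FiniteType
import Mathlib.Algebra.Algebra.Epi
import Mathlib.RingTheory.IntegralClosure.IsIntegralClosure.Basic

/-!
Projecting primitive generators down to one more than the dimension.
-/

set_option autoImplicit false
set_option maxHeartbeats 1000000
set_option linter.style.haveILetI false
set_option linter.unusedSectionVars false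

noncomputable section

universe u

open scoped TensorProduct

namespace Groth.Agent.VecGrp

variable {k : Type u} [Field k]

theorem aeval_mul_const {R : Type u} [CommRing R] [Algebra k R] {ι : Type} {g : MvPolynomial ι k} {e : ℕ}
    (hg : g.IsHomogeneous e) (c : ι → R) (t : R) :
    MvPolynomial.aeval (fun i => c i * t) g = MvPolynomial.aeval c g * t ^ e := by
  classical
  conv_lhs => rw [g.as_sum]
  conv_rhs => rw [g.as_sum]
  rw [map_sum, map_sum, Finset.sum_mul]
  refine Finset.sum_congr rfl fun s hs => ?_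
  rw [MvPolynomial.aeval_monomial, MvPolynomial.aeval_monomial, mul_assoc]
  congr 1
  have hdeg : s.degree = e := by
    have := hg (MvPolynomial.mem_support_iff.1 hs)
    rw [Finsupp.degree_eq_weight_one]
    exact this
  simp only [Finsupp.prod, mul_pow, Finset.prod_mul_distrib]
  rw [← hdeg, Finsupp.degree_apply, ← Finset.prod_pow_eq_pow_sum]

theorem twist_coeff (p : ℕ) (γ : k) (q : Polynomial k) (j : ℕ) :
    (twist p γ 0 q).coeff j = γ ^ p ^ j * q.coeff j := by
  induction q using Polynomial.induction_on' with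
  | add a b ha hb => simp [ha, hb, mul_add]
  | monomial l c =>
    rw [twist_monomial, add_zero, Polynomial.coeff_monomial, Polynomial.coeff_monomial]
    split_ifs with h
    · subst h; rfl
    · simp

variable {A : Type u} [CommRing A] [HopfAlgebra k A]

theorem antipode_prim {a : A} (ha : IsPrim k a) : HopfAlgebra.antipode k a = -a := by
  have h := HopfAlgebra.mul_antipode_rTensor_comul_apply (R := k) a
  rw [show Coalgebra.comul (R := k) a = _ from ha, ha.counit_eq_zero] at h
  simp only [map_add, LinearMap.rTensor_tmul, LinearMap.mul'_apply, mul_one, HopfAlgebra.antipode_one, one_mul,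
    map_zero] at h
  exact eq_neg_of_add_eq_zero_left h

/-- A homogeneous relation between more elements than the dimension plus one. -/
theorem exists_homogeneous_relation [Nontrivial A] {d n : ℕ} {w : Fin d → A}
    (hint : Algebra.IsIntegral (Algebra.adjoin k (Set.range w)) A) (x : Fin n → A) (hn : d + 1 < n) :
    ∃ (e : ℕ) (G : MvPolynomial (Fin n) k), G ≠ 0 ∧ G.IsHomogeneous e ∧ MvPolynomial.aeval x G = 0 := by
  classical
  let u : Fin n → Polynomial A := fun i => Polynomial.C (x i) * Polynomial.X
  let w' : Fin (d + 1) → Polynomial A := Fin.cons Polynomial.X fun i => Polynomial.C (w i)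
  let W := Algebra.adjoin k (Set.range w')
  let cA : A →ₐ[k] Polynomial A := IsScalarTower.toAlgHom k A (Polynomial A)
  have hle : ∀ t ∈ Algebra.adjoin k (Set.range w), cA t ∈ W := by
    intro t ht
    have : cA t ∈ (Algebra.adjoin k (Set.range w)).map cA := ⟨t, ht, rfl⟩
    rw [AlgHom.map_adjoin] at this
    refine Algebra.adjoin_mono ?_ this
    rintro _ ⟨_, ⟨i, rfl⟩, rfl⟩
    exact ⟨i.succ, by simp [w', cA]⟩
  haveI : Algebra.IsIntegral W (Polynomial A) := by
    refine ⟨fun q => ?_⟩
    induction q using Polynomial.induction_on' with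
    | add a b ha hb => exact ha.add hb
    | monomial j a =>
      rw [← Polynomial.C_mul_X_pow_eq_monomial]
      refine IsIntegral.mul ?_ (IsIntegral.pow ?_ j)
      · obtain ⟨g, hg, hga⟩ := hint.isIntegral a
        let ι' : Algebra.adjoin k (Set.range w) →ₐ[k] W :=
          (cA.comp (Algebra.adjoin k (Set.range w)).val).codRestrict _ fun t => hle t t.2
        refine ⟨g.map ι'.toRingHom, hg.map _, (Polynomial.eval₂_map _ _ _).trans ?_⟩
        exact (Polynomial.hom_eval₂ g _ cA.toRingHom a).symm.trans ((congrArg cA hga).trans (map_zero cA))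
      · exact isIntegral_algebraMap (x := (⟨Polynomial.X, Algebra.subset_adjoin ⟨0, by simp [w']⟩⟩ : W))
  have hdep : ¬ AlgebraicIndependent k u := fun h => by
    have := (card_le_of_isIntegral w' u h).1
    omega
  rw [algebraicIndependent_iff] at hdep
  push Not at hdep
  obtain ⟨f, hf, hf0⟩ := hdep
  obtain ⟨e, he⟩ : ∃ e, MvPolynomial.homogeneousComponent e f ≠ 0 := by
    by_contra! h
    exact hf0 (by rw [← MvPolynomial.sum_homogeneousComponent (φ := f)]; exact Finset.sum_eq_zero fun i _ => h i)
  refine ⟨e, _, he, MvPolynomial.homogeneousComponent_isHomogeneous e f, ?_⟩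
  have hhom : ∀ j, MvPolynomial.aeval u (MvPolynomial.homogeneousComponent j f) =
      Polynomial.C (MvPolynomial.aeval x (MvPolynomial.homogeneousComponent j f)) * Polynomial.X ^ j := fun j => by
    rw [aeval_mul_const (MvPolynomial.homogeneousComponent_isHomogeneous j f)]
    congr 1
    exact (MvPolynomial.comp_aeval_apply x cA _).symm
  have h0 := congrArg (fun q : Polynomial A => q.coeff e)
    ((congrArg (MvPolynomial.aeval u) (MvPolynomial.sum_homogeneousComponent (φ := f))).trans hf)
  simp only [map_sum, hhom, Polynomial.finsetSum_coeff, Polynomial.coeff_C_mul_X_pow, Polynomial.coeff_zero] at h0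
  rw [Finset.sum_ite_eq] at h0
  by_cases hmem : e ∈ Finset.range (f.totalDegree + 1)
  · rwa [if_pos hmem] at h0
  · rw [MvPolynomial.homogeneousComponent_eq_zero e f (by simpa using hmem), map_zero]

/-- One generator can be removed. -/
theorem exists_drop (p : ℕ) [hp : Fact p.Prime] [CharP k p] [Infinite k] [IsReduced (AlgebraicClosure k ⊗[k] A)]
    {d : ℕ} {w : Fin d → A} (hint : Algebra.IsIntegral (Algebra.adjoin k (Set.range w)) A)
    {n : ℕ} {x : Fin (n + 1) → A} (hx : ∀ i, IsPrim k (x i)) (hgen : Algebra.adjoin k (Set.range x) = ⊤)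
    (hn : d + 1 < n + 1) :
    ∃ y : Fin n → A, (∀ i, IsPrim k (y i)) ∧ Algebra.adjoin k (Set.range y) = ⊤ := by
  classical
  haveI : Nontrivial A := (Bialgebra.counitAlgHom k A).toRingHom.domain_nontrivial
  obtain ⟨e, G, hG0, hGhom, hG⟩ := exists_homogeneous_relation hint x hn
  -- a linear relation between the differentials
  have hdep : ¬ LinearIndependent k fun i => KaehlerDifferential.D k A (x i) := fun h => by
    have := (card_le_of_isIntegral w x (algebraicIndependent_of_D p hx h)).1
    omega
  rw [Fintype.not_linearIndependent_iff] at hdep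
  obtain ⟨l, hl, i₀, hi₀⟩ := hdep
  -- an additive relation
  have hxdep : ¬ AlgebraicIndependent k x := fun h => by
    have := (card_le_of_isIntegral w x h).1
    omega
  obtain ⟨c, hc0, hc⟩ := exists_relation p x hx hxdep
  obtain ⟨i₁, hi₁, hmax⟩ := Finset.exists_max_image (Finset.univ.filter fun i => c i ≠ 0) (fun i => (c i).natDegree) (by
    obtain ⟨i, hi⟩ := Function.ne_iff.1 hc0
    exact ⟨i, by simpa using hi⟩)
  rw [Finset.mem_filter] at hi₁
  set M := (c i₁).natDegree with hM
  let L : MvPolynomial (Fin (n + 1)) k := ∑ i, MvPolynomial.C (l i) * MvPolynomial.X i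
  let T : MvPolynomial (Fin (n + 1)) k := ∑ i, MvPolynomial.C ((c i).coeff M) * MvPolynomial.X i ^ p ^ M
  have hL : L ≠ 0 := fun h => hi₀ (by
    have := congrArg (MvPolynomial.eval (Pi.single i₀ (1 : k))) h
    simpa [L, Pi.single_apply] using this)
  have hT : T ≠ 0 := fun h => hi₁.2 (Polynomial.leadingCoeff_eq_zero.1 (by
    have := congrArg (MvPolynomial.eval (Pi.single i₁ (1 : k))) h
    simpa [T, Pi.single_apply, ite_pow, zero_pow (pow_ne_zero M hp.out.ne_zero), Polynomial.leadingCoeff, ← hM] using this))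
  obtain ⟨v, hv⟩ : ∃ v : Fin (n + 1) → k, MvPolynomial.eval v (G * L * T) ≠ 0 := by
    by_contra! h
    exact mul_ne_zero (mul_ne_zero hG0 hL) hT (MvPolynomial.funext fun v => by rw [h v, map_zero])
  rw [map_mul, map_mul, mul_ne_zero_iff, mul_ne_zero_iff] at hv
  obtain ⟨⟨hvG, hvL⟩, hvT⟩ := hv
  have hvL' : ∑ i, l i * v i ≠ 0 := by simpa [L] using hvL
  have hvT' : ∑ i, (c i).coeff M * v i ^ p ^ M ≠ 0 := by simpa [T] using hvT
  let z : A := (∑ i, l i * v i)⁻¹ • ∑ i, l i • x i
  have hzprim : IsPrim k z := (IsPrim.sum _ fun i _ => (hx i).smul _).smul _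
  let y' : Fin (n + 1) → A := fun i => x i - v i • z
  have hy'prim : ∀ i, IsPrim k (y' i) := fun i => (hx i).sub (hzprim.smul _)
  let y : Fin n → A := fun i => y' (i₀.succAbove i)
  set C := Algebra.adjoin k (Set.range y) with hC
  have hsum : ∑ i, l i • y' i = 0 := by
    simp only [y', smul_sub, Finset.sum_sub_distrib, smul_smul, ← Finset.sum_smul]
    simp only [z, smul_smul]
    rw [mul_inv_cancel₀ hvL', one_smul, sub_self]
  have hy'C : ∀ i, y' i ∈ C := by
    intro i
    rcases Fin.eq_self_or_eq_succAbove i₀ i with h | ⟨j, h⟩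
    · rw [Fin.sum_univ_succAbove _ i₀] at hsum
      have : y' i₀ = -(l i₀)⁻¹ • ∑ j, l (i₀.succAbove j) • y j := by
        rw [neg_smul, ← smul_neg, ← eq_neg_of_add_eq_zero_left hsum, smul_smul, inv_mul_cancel₀ hi₀, one_smul]
      rw [h, this]
      exact Subalgebra.smul_mem _ (sum_mem fun j _ => Subalgebra.smul_mem _ (Algebra.subset_adjoin (Set.mem_range_self j)) _) _
    · rw [h]; exact Algebra.subset_adjoin (Set.mem_range_self j)
  have hxy : ∀ i, x i = y' i + v i • z := fun i => by simp [y']
  refine ⟨y, fun i => hy'prim _, ?_⟩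
  -- `z` is integral over the new generators
  have hzint : IsIntegral C z := by
    refine isIntegral_of_pev_mem p C (R := ∑ i, twist p (v i) 0 (c i)) (fun h => hvT' ?_) ?_
    · have := congrArg (fun q : Polynomial k => q.coeff M) h
      simpa [Polynomial.finsetSum_coeff, twist_coeff, mul_comm] using this
    · have : pev p z (∑ i, twist p (v i) 0 (c i)) = -∑ i, pev p (y' i) (c i) := by
        rw [eq_neg_iff_add_eq_zero, map_sum, ← Finset.sum_add_distrib, ← hc]
        refine Finset.sum_congr rfl fun i _ => ?_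
        rw [← pev_twist, ← pev_add, pow_zero, pow_one, add_comm, ← hxy]
      rw [this]
      exact neg_mem (sum_mem fun i _ => pev_mem p C (hy'C i) _)
  haveI : Algebra.IsIntegral C A := isIntegral_of_adjoin_eq_top C hgen fun i => by
    rw [hxy i, Algebra.smul_def]
    exact (isIntegral_algebraMap (x := (⟨y' i, hy'C i⟩ : C))).add
      ((isIntegral_algebraMap (x := (⟨algebraMap k A (v i), C.algebraMap_mem _⟩ : C))).mul hzint)
  haveI : Algebra.FiniteType k A := ⟨⟨Finset.univ.image x, by simpa using hgen⟩⟩
  haveI : Algebra.FiniteType C A := Algebra.FiniteType.of_restrictScalars_finiteType k C A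
  haveI : Module.Finite C A := Algebra.IsIntegral.finite
  -- the new coordinates cut out the origin
  let J : Ideal A := Ideal.span (Set.range y')
  have hyJ : ∀ i, y' i ∈ J := fun i => Ideal.subset_span ⟨i, rfl⟩
  have haug : aug0 (k := k) (A := A) ≤ J ⊔ Ideal.span {z} := by
    intro a ha
    have hdec : ∀ b : A, ∃ r : k, b - algebraMap k A r ∈ J ⊔ Ideal.span {z} := by
      intro b
      have hb : b ∈ Algebra.adjoin k (Set.range x) := hgen ▸ trivial
      induction hb using Algebra.adjoin_induction with
      | mem t ht =>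
        obtain ⟨i, rfl⟩ := ht
        refine ⟨0, ?_⟩
        rw [map_zero, sub_zero, hxy i, Algebra.smul_def]
        exact add_mem (Ideal.mem_sup_left (hyJ i)) (Ideal.mem_sup_right (Ideal.mul_mem_left _ _ (Ideal.mem_span_singleton_self z)))
      | algebraMap r => exact ⟨r, by simp⟩
      | add s t _ _ hs ht =>
        obtain ⟨r, hr⟩ := hs
        obtain ⟨r', hr'⟩ := ht
        exact ⟨r + r', by rw [map_add, add_sub_add_comm]; exact add_mem hr hr'⟩
      | mul s t _ _ hs ht =>
        obtain ⟨r, hr⟩ := hs
        obtain ⟨r', hr'⟩ := ht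
        refine ⟨r * r', ?_⟩
        rw [map_mul, show s * t - algebraMap k A r * algebraMap k A r' =
          s * (t - algebraMap k A r') + algebraMap k A r' * (s - algebraMap k A r) by ring]
        exact add_mem (Ideal.mul_mem_left _ _ hr') (Ideal.mul_mem_left _ _ hr)
    obtain ⟨r, hr⟩ := hdec a
    have hsub : J ⊔ Ideal.span {z} ≤ aug0 (k := k) (A := A) := sup_le
      (Ideal.span_le.2 fun _ ⟨i, hi⟩ => hi ▸ mem_aug0.2 (hy'prim i).counit_eq_zero)
      (Ideal.span_le.2 (by rintro _ rfl; exact mem_aug0.2 hzprim.counit_eq_zero))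
    have h2 := mem_aug0.1 (hsub hr)
    rw [map_sub, mem_aug0.1 ha, Bialgebra.counit_algebraMap, zero_sub, neg_eq_zero] at h2
    rwa [h2, map_zero, sub_zero] at hr
  have hzJ : z ∈ J := by
    have hz2 := mem_sq_of_D_eq_zero hzprim (by simp [z, hl])
    have hle : (aug0 (k := k) (A := A)) ^ 2 ≤ J ⊔ Ideal.span {z * z} := by
      refine (pow_le_pow_left' haug 2).trans ?_
      rw [pow_two, Ideal.sup_mul, Ideal.mul_sup, Ideal.mul_sup, Ideal.span_singleton_mul_span_singleton]
      exact sup_le (le_sup_of_le_left (sup_le Ideal.mul_le_left Ideal.mul_le_left))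
        (sup_le (le_sup_of_le_left Ideal.mul_le_right) le_sup_right)
    obtain ⟨j, hj, q, hq, hjq⟩ := Submodule.mem_sup.1 (hle hz2)
    obtain ⟨a, rfl⟩ := Ideal.mem_span_singleton'.1 hq
    let π : A →ₐ[k] A ⧸ J := Ideal.Quotient.mkₐ k J
    have hπy : ∀ i, π (y' i) = 0 := fun i => Ideal.Quotient.eq_zero_iff_mem.2 (hyJ i)
    have hπx : ∀ i, π (x i) = algebraMap k (A ⧸ J) (v i) * π z := fun i => by
      rw [hxy i, map_add, map_smul, hπy, zero_add, Algebra.smul_def]
    have hnil : π z ^ e = 0 := by
      have h := congrArg π hG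
      rw [map_zero, MvPolynomial.comp_aeval_apply, funext hπx, aeval_mul_const hGhom,
        show MvPolynomial.aeval (fun i => algebraMap k (A ⧸ J) (v i)) G = algebraMap k _ (MvPolynomial.eval v G) from
          (MvPolynomial.comp_aeval_apply v (Algebra.ofId k (A ⧸ J)) G).symm] at h
      have hu : IsUnit (algebraMap k (A ⧸ J) (MvPolynomial.eval v G)) := (Ne.isUnit hvG).map _
      exact hu.mul_right_eq_zero.1 h
    have heq : π z * (1 - π a * π z) = 0 := by
      have h2 := congrArg π hjq
      rw [map_add, show π j = 0 from Ideal.Quotient.eq_zero_iff_mem.2 hj, zero_add, map_mul, map_mul] at h2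
      linear_combination -h2
    have hu : IsUnit (1 - π a * π z) :=
      IsNilpotent.isUnit_one_sub ⟨e, by rw [mul_pow, hnil, mul_zero]⟩
    exact Ideal.Quotient.eq_zero_iff_mem.1 (hu.mul_left_eq_zero.1 heq)
  -- the inclusion of the new subalgebra is an epimorphism
  let f : A →ₐ[k] A ⊗[C] A := (Algebra.TensorProduct.includeLeft (R := C) (S := C) (A := A) (B := A)).restrictScalars k
  let g : A →ₐ[k] A ⊗[C] A := (Algebra.TensorProduct.includeRight (R := C) (A := A) (B := A)).restrictScalars k
  have hfg : ∀ t ∈ C, f t = g t := by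
    intro t ht
    show t ⊗ₜ[C] (1 : A) = (1 : A) ⊗ₜ[C] t
    have h1 : t = (⟨t, ht⟩ : C) • (1 : A) := (mul_one t).symm
    rw [h1, TensorProduct.smul_tmul]
  let h : A →ₐ[k] A ⊗[C] A :=
    (Algebra.TensorProduct.productMap f (g.comp (HopfAlgebra.antipodeAlgHom k A))).comp (Bialgebra.comulAlgHom k A)
  have hprim : ∀ t, IsPrim k t → h t = f t - g t := by
    intro t ht
    have ht' : Bialgebra.comulAlgHom k A t = t ⊗ₜ[k] (1 : A) + (1 : A) ⊗ₜ[k] t := ht
    simp only [h, AlgHom.comp_apply, ht', map_add, Algebra.TensorProduct.productMap_apply_tmul, map_one,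
      mul_one, one_mul, HopfAlgebra.antipodeAlgHom_apply, antipode_prim ht, map_neg]
    abel
  have hz : f z = g z := by
    have hJ : J ≤ RingHom.ker h := Ideal.span_le.2 fun _ ⟨i, hi⟩ => hi ▸ by
      show h (y' i) = 0
      rw [hprim _ (hy'prim i), hfg _ (hy'C i), sub_self]
    have := hJ hzJ
    rw [RingHom.mem_ker, hprim _ hzprim, sub_eq_zero] at this
    exact this
  have hall : ∀ t, f t = g t := by
    intro t
    have : f = g := AlgHom.ext_of_adjoin_eq_top hgen (by
      rintro _ ⟨i, rfl⟩
      rw [hxy i, map_add, map_add, hfg _ (hy'C i)]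
      exact congrArg _ ((map_smul f (v i) z).trans ((congrArg (v i • ·) hz).trans (map_smul g (v i) z).symm)))
    rw [this]
  haveI : Algebra.IsEpi C A := (Algebra.isEpi_iff_forall_one_tmul_eq C A).2 fun t => (hall t).symm
  have hsurj := Algebra.isEpi_iff_surjective_algebraMap_of_finite.1 (inferInstance : Algebra.IsEpi C A)
  rw [eq_top_iff]
  intro t _
  obtain ⟨s, rfl⟩ := hsurj t
  exact s.2

/-- Primitive generators, one more than the dimension. -/
theorem exists_generators_succ (p : ℕ) [Fact p.Prime] [CharP k p] [Infinite k] [IsReduced (AlgebraicClosure k ⊗[k] A)]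
    {d : ℕ} {w : Fin d → A} (hint : Algebra.IsIntegral (Algebra.adjoin k (Set.range w)) A) :
    ∀ (n : ℕ) (x : Fin n → A), (∀ i, IsPrim k (x i)) → Algebra.adjoin k (Set.range x) = ⊤ →
      ∃ y : Fin (d + 1) → A, (∀ i, IsPrim k (y i)) ∧ Algebra.adjoin k (Set.range y) = ⊤ := by
  intro n
  induction n with
  | zero =>
    intro x hx hgen
    refine ⟨fun _ => 0, fun _ => IsPrim.zero, eq_top_iff.2 (hgen ▸ Algebra.adjoin_le ?_)⟩
    rintro _ ⟨i, rfl⟩
    exact i.elim0
  | succ n ih =>
    intro x hx hgen
    rcases Nat.lt_or_ge (d + 1) (n + 1) with hn | hn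
    · obtain ⟨y, hy, hy'⟩ := exists_drop p hint hx hgen hn
      exact ih y hy hy'
    · refine ⟨fun i => if h : (i : ℕ) < n + 1 then x ⟨i, h⟩ else 0, fun i => ?_, eq_top_iff.2 (hgen ▸ Algebra.adjoin_le ?_)⟩
      · dsimp only
        split
        · exact hx _
        · exact IsPrim.zero
      · rintro _ ⟨i, rfl⟩
        exact Algebra.subset_adjoin ⟨⟨i, lt_of_lt_of_le i.2 hn⟩, by simp [i.2]⟩

end Groth.Agent.VecGrp
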