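import Groth.Agent.VecGrpLib.Fil
import Mathlib.Algebra.Polynomial.Taylor
import Mathlib.Data.Nat.Choose.Lucas
import Mathlib.RingTheory.MvPolynomial.Basic
import Mathlib.RingTheory.AlgebraicIndependent.Basic
import Mathlib.RingTheory.Flat.Basic
import Mathlib.LinearAlgebra.Dual.Lemmas
import Mathlib.FieldTheory.IsAlgClosed.AlgebraicClosure
import Mathlib.Algebra.CharP.Lemmas

/-!
Relations between primitive elements are additive polynomials.
-/

set_option autoImplicit false
set_option maxHeartbeats 1000000
set_option linter.style.haveILetI false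

noncomputable section

universe u

open scoped TensorProduct
open Coalgebra (comul counit)

namespace Groth.Agent.VecGrp

variable {k : Type u} [Field k]

/-- The value of the additive polynomial with coefficients `q` at `x`. -/
def pev (p : ℕ) {R : Type u} [CommRing R] [Algebra k R] (x : R) : Polynomial k →ₗ[k] R :=
  Polynomial.lsum fun j => LinearMap.toSpanSingleton k R (x ^ p ^ j)

section pev

variable (p : ℕ) {R R' : Type u} [CommRing R] [Algebra k R] [CommRing R'] [Algebra k R']

@[simp] theorem pev_monomial (x : R) (j : ℕ) (c : k) : pev p x (Polynomial.monomial j c) = c • x ^ p ^ j := by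
  simp [pev, Polynomial.sum_monomial_index]

theorem pev_algHom (f : R →ₐ[k] R') (x : R) (q : Polynomial k) : f (pev p x q) = pev p (f x) q := by
  induction q using Polynomial.induction_on' with
  | add a b ha hb => simp [ha, hb]
  | monomial j c => simp

@[simp] theorem pev_C (x : R) (c : k) : pev p x (Polynomial.C c) = c • x := by
  rw [← Polynomial.monomial_zero_left, pev_monomial, pow_zero, pow_one]

theorem pev_one (x : R) : pev p x (1 : Polynomial k) = x := by
  rw [← Polynomial.C_1, pev_C, one_smul]

variable [hp : Fact p.Prime] [CharP k p]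

omit [Algebra k R'] in
variable (k) in
include k in
theorem add_pow_p (x y : R) (j : ℕ) : (x + y) ^ p ^ j = x ^ p ^ j + y ^ p ^ j := by
  rcases subsingleton_or_nontrivial R with h | h
  · exact Subsingleton.elim _ _
  · haveI : CharP R p := charP_of_injective_algebraMap (algebraMap k R).injective p
    exact add_pow_char_pow ..

theorem pev_add (x y : R) (q : Polynomial k) : pev p (x + y) q = pev p x q + pev p y q := by
  induction q using Polynomial.induction_on' with
  | add a b ha hb => simp only [map_add, ha, hb]; abel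
  | monomial j c => simp [add_pow_p k p x y, smul_add]

theorem pev_zero (q : Polynomial k) : pev p (0 : R) q = 0 := by
  induction q using Polynomial.induction_on' with
  | add a b ha hb => simp [ha, hb]
  | monomial j c => simp [zero_pow (pow_ne_zero j hp.out.ne_zero)]

theorem pev_sum {ι : Type*} (S : Finset ι) (x : ι → R) (q : Polynomial k) :
    pev p (∑ i ∈ S, x i) q = ∑ i ∈ S, pev p (x i) q := by
  classical
  induction S using Finset.induction_on with
  | empty => simp [pev_zero]
  | insert a s ha ih => rw [Finset.sum_insert ha, Finset.sum_insert ha, pev_add, ih]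

theorem pev_neg (x : R) (q : Polynomial k) : pev p (-x) q = -pev p x q :=
  eq_neg_of_add_eq_zero_left (by rw [← pev_add, neg_add_cancel, pev_zero])

/-- Composition with `γ T^(p^δ)`. -/
def twist (γ : k) (δ : ℕ) : Polynomial k →ₗ[k] Polynomial k :=
  Polynomial.lsum fun l => γ ^ p ^ l • Polynomial.monomial (l + δ)

omit hp [CharP k p] in
@[simp] theorem twist_monomial (γ : k) (δ l : ℕ) (c : k) :
    twist p γ δ (Polynomial.monomial l c) = Polynomial.monomial (l + δ) (γ ^ p ^ l * c) := by
  simp [twist, Polynomial.sum_monomial_index, Polynomial.smul_monomial]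

omit hp [CharP k p] in
theorem pev_twist (γ : k) (δ : ℕ) (x : R) (q : Polynomial k) :
    pev p (γ • x ^ p ^ δ) q = pev p x (twist p γ δ q) := by
  induction q using Polynomial.induction_on' with
  | add a b ha hb => simp [ha, hb]
  | monomial l c =>
    rw [pev_monomial, twist_monomial, pev_monomial, smul_pow, ← pow_mul, ← pow_add, smul_smul, mul_comm c,
      add_comm δ l]

omit hp [CharP k p] in
theorem pev_pow (δ : ℕ) (x : R) (q : Polynomial k) :
    pev p (x ^ p ^ δ) q = pev p x (q * Polynomial.X ^ δ) := by
  induction q using Polynomial.induction_on' with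
  | add a b ha hb => simp [ha, hb, add_mul]
  | monomial l c =>
    rw [pev_monomial, Polynomial.monomial_mul_X_pow, pev_monomial, ← pow_mul, ← pow_add, add_comm δ l]

end pev

section prim

variable {A : Type u} [CommRing A] [Bialgebra k A]

theorem IsPrim.counit_eq_zero {x : A} (hx : IsPrim k x) : counit (R := k) x = 0 := by
  have h := congrArg (fun t => TensorProduct.lid k A (counit.rTensor A t)) hx
  simp [Coalgebra.rTensor_counit_comul, Bialgebra.counit_one] at h
  haveI : Nontrivial A := (Bialgebra.counitAlgHom k A).toRingHom.domain_nontrivial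
  exact h.resolve_right one_ne_zero

theorem IsPrim.zero : IsPrim k (0 : A) := by
  show comul (0 : A) = _
  simp

theorem IsPrim.add {x y : A} (hx : IsPrim k x) (hy : IsPrim k y) : IsPrim k (x + y) := by
  show comul (x + y) = _
  rw [map_add, show comul x = _ from hx, show comul y = _ from hy, TensorProduct.add_tmul, TensorProduct.tmul_add]
  abel

theorem IsPrim.smul (c : k) {x : A} (hx : IsPrim k x) : IsPrim k (c • x) := by
  show comul (c • x) = _
  rw [map_smul, show comul x = _ from hx, smul_add, TensorProduct.smul_tmul', TensorProduct.tmul_smul]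

theorem IsPrim.neg {x : A} (hx : IsPrim k x) : IsPrim k (-x) := by
  rw [← neg_one_smul k x]; exact hx.smul _

theorem IsPrim.sub {x y : A} (hx : IsPrim k x) (hy : IsPrim k y) : IsPrim k (x - y) := by
  rw [sub_eq_add_neg]; exact hx.add hy.neg

theorem IsPrim.sum {ι : Type*} (S : Finset ι) {x : ι → A} (hx : ∀ i ∈ S, IsPrim k (x i)) :
    IsPrim k (∑ i ∈ S, x i) := by
  classical
  induction S using Finset.induction_on with
  | empty => simpa using IsPrim.zero
  | insert a s ha ih =>
    rw [Finset.sum_insert ha]
    exact (hx a (Finset.mem_insert_self _ _)).add (ih fun i hi => hx i (Finset.mem_insert_of_mem hi))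

theorem IsPrim.pow (p : ℕ) [Fact p.Prime] [CharP k p] {x : A} (hx : IsPrim k x) (j : ℕ) :
    IsPrim k (x ^ p ^ j) := by
  have h : Bialgebra.comulAlgHom k A (x ^ p ^ j) = (x ^ p ^ j) ⊗ₜ[k] (1 : A) + (1 : A) ⊗ₜ[k] (x ^ p ^ j) := by
    rw [map_pow, show Bialgebra.comulAlgHom k A x = _ from hx, add_pow_p k p]
    simp [Algebra.TensorProduct.tmul_pow]
  exact h

theorem IsPrim.pev (p : ℕ) [Fact p.Prime] [CharP k p] {x : A} (hx : IsPrim k x) (q : Polynomial k) :
    IsPrim k (VecGrp.pev p x q) := by
  induction q using Polynomial.induction_on' with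
  | add a b ha hb => rw [map_add]; exact ha.add hb
  | monomial j c => rw [pev_monomial]; exact (hx.pow p j).smul c

end prim

section relation

variable {ι : Type}

/-- The diagonal of a polynomial ring with primitive variables. -/
def diag : MvPolynomial ι k →ₐ[k] MvPolynomial ι k ⊗[k] MvPolynomial ι k :=
  MvPolynomial.aeval fun i => MvPolynomial.X i ⊗ₜ 1 + 1 ⊗ₜ MvPolynomial.X i

theorem diag_monomial_mem : ∀ (e : ℕ) (s : ι →₀ ℕ), s.degree = e → 1 ≤ e →
    (diag (k := k) (ι := ι)) (MvPolynomial.monomial s (1 : k)) - MvPolynomial.monomial s 1 ⊗ₜ 1 - 1 ⊗ₜ MvPolynomial.monomial s 1 ∈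
      Submodule.span k {t : MvPolynomial ι k ⊗[k] MvPolynomial ι k | ∃ a b : ι →₀ ℕ, a.degree < e ∧ b.degree < e ∧
        t = MvPolynomial.monomial a 1 ⊗ₜ MvPolynomial.monomial b 1} := by
  intro e
  induction e with
  | zero => intro s _ h; omega
  | succ e ih =>
    intro s hs _
    classical
    obtain ⟨i, hi⟩ : ∃ i, s i ≠ 0 := by
      by_contra! h
      have : s = 0 := Finsupp.ext h
      simp [this] at hs
    let t := s - Finsupp.single i 1
    have hst : s = t + Finsupp.single i 1 := by
      ext j
      by_cases h : i = j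
      · subst h; simp [t]; omega
      · simp [t, h]
    have ht : t.degree = e := by
      have : s.degree = t.degree + 1 := by rw [hst, map_add]; simp
      omega
    have hmul : MvPolynomial.monomial s (1 : k) = MvPolynomial.monomial t 1 * MvPolynomial.X i := by
      rw [MvPolynomial.X, MvPolynomial.monomial_mul, one_mul, ← hst]
    rcases Nat.eq_zero_or_pos e with he | he
    · subst he
      have : t = 0 := (Finsupp.degree_eq_zero_iff t).1 ht
      rw [hmul, this]
      simp [diag]
    · set T := Submodule.span k {x : MvPolynomial ι k ⊗[k] MvPolynomial ι k | ∃ a b : ι →₀ ℕ, a.degree < e + 1 ∧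
        b.degree < e + 1 ∧ x = MvPolynomial.monomial a 1 ⊗ₜ MvPolynomial.monomial b 1}
      set r := (diag (k := k) (ι := ι)) (MvPolynomial.monomial t (1 : k)) - MvPolynomial.monomial t 1 ⊗ₜ 1 -
        1 ⊗ₜ MvPolynomial.monomial t 1 with hr
      have hr' := ih t ht he
      rw [← hr] at hr'
      have hone : (1 : MvPolynomial ι k) = MvPolynomial.monomial 0 1 := by simp
      have hX : (MvPolynomial.X i : MvPolynomial ι k) = MvPolynomial.monomial (Finsupp.single i 1) 1 := rfl
      have hclosed : r * (MvPolynomial.X i ⊗ₜ 1 + 1 ⊗ₜ MvPolynomial.X i) ∈ T := by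
        refine Submodule.span_induction (p := fun x _ => x * (MvPolynomial.X i ⊗ₜ 1 + 1 ⊗ₜ MvPolynomial.X i) ∈ T)
          ?_ (by simp) (fun x y _ _ hx hy => by rw [add_mul]; exact add_mem hx hy)
          (fun c x _ hx => by rw [smul_mul_assoc]; exact Submodule.smul_mem _ c hx) hr'
        rintro x ⟨a, b, ha, hb, rfl⟩
        rw [mul_add, Algebra.TensorProduct.tmul_mul_tmul, Algebra.TensorProduct.tmul_mul_tmul, mul_one, mul_one, hX,
          MvPolynomial.monomial_mul, MvPolynomial.monomial_mul, one_mul]
        refine add_mem (Submodule.subset_span ⟨_, _, ?_, ?_, rfl⟩) (Submodule.subset_span ⟨_, _, ?_, ?_, rfl⟩)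
        all_goals first
          | omega
          | (rw [map_add, Finsupp.degree_single]; omega)
      have hcross1 : MvPolynomial.monomial t (1 : k) ⊗ₜ[k] MvPolynomial.X (R := k) i ∈ T := by
        refine Submodule.subset_span ⟨t, Finsupp.single i 1, by omega, ?_, rfl⟩
        rw [Finsupp.degree_single]; omega
      have hcross2 : MvPolynomial.X (R := k) i ⊗ₜ[k] MvPolynomial.monomial t (1 : k) ∈ T := by
        refine Submodule.subset_span ⟨Finsupp.single i 1, t, ?_, by omega, rfl⟩
        rw [Finsupp.degree_single]; omega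
      convert add_mem (add_mem hcross1 hcross2) hclosed using 1
      rw [hmul, map_mul, hr, show (diag (k := k) (ι := ι)) (MvPolynomial.X i : MvPolynomial ι k) = _ from MvPolynomial.aeval_X _ i]
      simp only [mul_add, sub_mul, Algebra.TensorProduct.tmul_mul_tmul, mul_one, one_mul]
      abel

/-- A univariate additive polynomial is supported in powers of `p`. -/
theorem eq_pow_log_of_additive (p : ℕ) [hp : Fact p.Prime] [CharP k p] (q : Polynomial k)
    (hq : ∀ (R : Type u) [CommRing R] [Algebra k R] (a b : R),
      Polynomial.aeval (a + b) q = Polynomial.aeval a q + Polynomial.aeval b q)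
    (n : ℕ) (hn : q.coeff n ≠ 0) : p ^ Nat.log p n = n := by
  have h0 : q.coeff 0 = 0 := by
    have h := hq k 0 0
    rw [add_zero, Polynomial.aeval_def, Polynomial.eval₂_at_zero] at h
    simpa using h
  have hn0 : 0 < n := Nat.pos_of_ne_zero fun h => hn (h ▸ h0)
  suffices h : ∀ i ∈ Finset.Icc 1 (n - 1), n.choose i ≡ 0 [MOD p] by
    conv_rhs => rw [Choose.eq_pow_multiplicity_of_choose_modEq_zero_nat hn0 h]
    nth_rw 1 [Choose.eq_pow_multiplicity_of_choose_modEq_zero_nat hn0 h]
    rw [Nat.log_pow hp.out.one_lt]
  intro l hl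
  rw [Finset.mem_Icc] at hl
  let q' : Polynomial (Polynomial k) := q.map Polynomial.C
  have hev : ∀ a : Polynomial (Polynomial k), Polynomial.aeval a q = q'.eval₂ Polynomial.C a := fun a => by
    rw [Polynomial.aeval_def, Polynomial.eval₂_map]
    rfl
  have h := hq (Polynomial (Polynomial k)) Polynomial.X (Polynomial.C Polynomial.X)
  rw [hev, hev, hev] at h
  have htay : Polynomial.taylor Polynomial.X q' = q' + Polynomial.C q := by
    rw [Polynomial.taylor_apply]
    change q'.eval₂ Polynomial.C (Polynomial.X + Polynomial.C Polynomial.X) = _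
    rw [h, Polynomial.eval₂_C_X, Polynomial.eval₂_at_apply, Polynomial.eval_map, Polynomial.eval₂_C_X]
  have h2 := congrArg (fun f : Polynomial (Polynomial k) => f.coeff l) htay
  simp only [Polynomial.coeff_add, Polynomial.coeff_C, q', Polynomial.coeff_map, show l ≠ 0 by omega, if_false,
    add_zero, Polynomial.taylor_coeff] at h2
  have h3 : Polynomial.hasseDeriv l q = Polynomial.C (q.coeff l) := by
    rw [← h2, show Polynomial.hasseDeriv l (q.map Polynomial.C) = (Polynomial.hasseDeriv l q).map Polynomial.C by
      ext m; simp [Polynomial.hasseDeriv_coeff], Polynomial.eval_map, Polynomial.eval₂_C_X]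
  have h4 := congrArg (fun f : Polynomial k => f.coeff (n - l)) h3
  simp only [Polynomial.hasseDeriv_coeff, Polynomial.coeff_C, show n - l ≠ 0 by omega, if_false,
    show n - l + l = n by omega] at h4
  rw [Nat.modEq_zero_iff_dvd, ← CharP.cast_eq_zero_iff k p]
  exact (mul_eq_zero.1 h4).resolve_right hn

/-- Algebraically dependent primitive elements satisfy an additive relation. -/
theorem exists_relation {A : Type u} [CommRing A] [Bialgebra k A] (p : ℕ) [Fact p.Prime] [CharP k p]
    [Fintype ι] (x : ι → A) (hx : ∀ i, IsPrim k (x i)) (hdep : ¬ AlgebraicIndependent k x) :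
    ∃ c : ι → Polynomial k, c ≠ 0 ∧ ∑ i, pev p (x i) (c i) = 0 := by
  classical
  let φ : MvPolynomial ι k →ₐ[k] A := MvPolynomial.aeval x
  have hex : ∃ D, ∃ f : MvPolynomial ι k, f ≠ 0 ∧ φ f = 0 ∧ f.totalDegree = D := by
    rw [algebraicIndependent_iff] at hdep
    push Not at hdep
    obtain ⟨f, hf, hf0⟩ := hdep
    exact ⟨_, f, hf0, hf, rfl⟩
  obtain ⟨f, hf0, hfx, hfD⟩ := Nat.find_spec hex
  have hmin : ∀ g : MvPolynomial ι k, φ g = 0 → g.totalDegree < f.totalDegree → g = 0 := fun g hg hlt => by
    by_contra hg0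
    exact Nat.find_min hex (hfD ▸ hlt) ⟨g, hg0, hg, rfl⟩
  have hconst : f.coeff 0 = 0 := by
    have hc : ((Bialgebra.counitAlgHom k A).comp φ) = MvPolynomial.aeval fun _ => (0 : k) := by
      refine MvPolynomial.algHom_ext fun i => ?_
      simp [φ, (hx i).counit_eq_zero]
    have := DFunLike.congr_fun hc f
    rw [AlgHom.comp_apply, hfx, map_zero, MvPolynomial.aeval_zero'] at this
    simpa [MvPolynomial.constantCoeff_eq] using this.symm
  let L := MvPolynomial.restrictTotalDegree ι k (f.totalDegree - 1)
  have hdeg : ∀ s ∈ f.support, 1 ≤ s.degree ∧ s.degree ≤ f.totalDegree := fun s hs => by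
    refine ⟨?_, ?_⟩
    · rw [Nat.one_le_iff_ne_zero, Ne, Finsupp.degree_eq_zero_iff]
      rintro rfl
      exact MvPolynomial.mem_support_iff.1 hs hconst
    · exact MvPolynomial.le_totalDegree hs
  -- the defect of additivity
  let g := (diag (k := k) (ι := ι)) f - f ⊗ₜ[k] 1 - 1 ⊗ₜ[k] f
  have hgL : g ∈ LinearMap.range (TensorProduct.map L.subtype L.subtype) := by
    have : g = ∑ s ∈ f.support, f.coeff s • ((diag (k := k) (ι := ι)) (MvPolynomial.monomial s (1 : k)) -
        MvPolynomial.monomial s 1 ⊗ₜ[k] 1 - 1 ⊗ₜ[k] MvPolynomial.monomial s 1) := by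
      have hf : f = ∑ s ∈ f.support, f.coeff s • MvPolynomial.monomial s (1 : k) := by
        conv_lhs => rw [f.as_sum]
        exact Finset.sum_congr rfl fun s _ => by simp [MvPolynomial.smul_monomial]
      simp only [smul_sub, Finset.sum_sub_distrib, g]
      conv_lhs => rw [hf]
      simp only [map_sum, map_smul, TensorProduct.sum_tmul, TensorProduct.tmul_sum, TensorProduct.smul_tmul',
        TensorProduct.tmul_smul]
    rw [this]
    refine Submodule.sum_mem _ fun s hs => Submodule.smul_mem _ _ ?_
    obtain ⟨h1, h2⟩ := hdeg s hs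
    refine Submodule.span_le.2 ?_ (diag_monomial_mem _ s rfl h1)
    rintro _ ⟨a, b, ha, hb, rfl⟩
    have hmem : ∀ a : ι →₀ ℕ, a.degree < s.degree → MvPolynomial.monomial a (1 : k) ∈ L := fun a ha => by
      rw [MvPolynomial.mem_restrictTotalDegree, MvPolynomial.totalDegree_monomial _ one_ne_zero]
      show a.degree ≤ _
      omega
    exact ⟨⟨_, hmem a ha⟩ ⊗ₜ ⟨_, hmem b hb⟩, by simp⟩
  have hg : g = 0 := by
    obtain ⟨g₀, hg₀⟩ := hgL
    have hinj : Function.Injective (φ.toLinearMap ∘ₗ L.subtype) := by
      rw [injective_iff_map_eq_zero]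
      rintro ⟨y, hy⟩ hy0
      rw [MvPolynomial.mem_restrictTotalDegree] at hy
      by_contra hne
      have hy' : y ≠ 0 := fun h => hne (Subtype.ext h)
      rcases Nat.eq_zero_or_pos f.totalDegree with h0 | h0
      · obtain ⟨s, hs⟩ := Finset.nonempty_iff_ne_empty.2 (fun h => hf0 (MvPolynomial.support_eq_empty.1 h))
        have := hdeg s hs
        omega
      · exact hy' (hmin y hy0 (by omega))
    have hcomm : (Algebra.TensorProduct.map φ φ).comp (diag (k := k) (ι := ι)) = (Bialgebra.comulAlgHom k A).comp φ :=
      MvPolynomial.algHom_ext fun i => by simp [diag, φ, show comul (x i) = _ from hx i]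
    have hzero : Algebra.TensorProduct.map φ φ g = 0 := by
      have := DFunLike.congr_fun hcomm f
      simp only [AlgHom.comp_apply] at this
      simp [g, map_sub, this, hfx]
    have : TensorProduct.map (φ.toLinearMap ∘ₗ L.subtype) (φ.toLinearMap ∘ₗ L.subtype) g₀ = 0 := by
      rw [TensorProduct.map_comp, LinearMap.comp_apply, hg₀]
      exact hzero
    have : g₀ = 0 := TensorProduct.map_injective_of_flat_flat _ _ hinj hinj (this.trans (map_zero _).symm)
    rw [← hg₀, this, map_zero]
  have hadd : ∀ (R : Type u) [CommRing R] [Algebra k R] (α β : ι → R),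
      MvPolynomial.aeval (α + β) f = MvPolynomial.aeval α f + MvPolynomial.aeval β f := by
    intro R _ _ α β
    let l := Algebra.TensorProduct.lift (MvPolynomial.aeval (R := k) α) (MvPolynomial.aeval (R := k) β) fun _ _ => Commute.all _ _
    have h1 : l.comp (diag (k := k) (ι := ι)) = MvPolynomial.aeval (α + β) := MvPolynomial.algHom_ext fun i => by simp [l, diag]
    have h2 : l g = 0 := by rw [hg, map_zero]
    have h3 := DFunLike.congr_fun h1 f
    simp only [AlgHom.comp_apply] at h3
    simp only [g, map_sub, h3, l, Algebra.TensorProduct.lift_tmul, map_one, mul_one, one_mul] at h2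
    exact sub_eq_zero.1 (by rw [← h2]; ring)
  let q : ι → Polynomial k := fun i => MvPolynomial.aeval (Pi.single i (Polynomial.X : Polynomial k)) f
  have hq : ∀ (R : Type u) [CommRing R] [Algebra k R] (i : ι) (a : R),
      Polynomial.aeval a (q i) = MvPolynomial.aeval (Pi.single i a) f := by
    intro R _ _ i a
    have h1 : (Polynomial.aeval (R := k) a).comp (MvPolynomial.aeval (Pi.single i (Polynomial.X : Polynomial k))) =
        MvPolynomial.aeval (Pi.single i a) := MvPolynomial.algHom_ext fun j => by
      by_cases h : j = i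
      · subst h; simp
      · simp [Pi.single_eq_of_ne h]
    exact DFunLike.congr_fun h1 f
  have hlog : ∀ i n, (q i).coeff n ≠ 0 → p ^ Nat.log p n = n := fun i n hn =>
    eq_pow_log_of_additive p (q i) (fun R _ _ a b => by rw [hq, hq, hq, Pi.single_add, hadd]) n hn
  let c : ι → Polynomial k := fun i => ∑ n ∈ (q i).support, Polynomial.monomial (Nat.log p n) ((q i).coeff n)
  have hc : ∀ (R : Type u) [CommRing R] [Algebra k R] (i : ι) (a : R),
      pev p a (c i) = Polynomial.aeval a (q i) := by
    intro R _ _ i a
    rw [Polynomial.aeval_eq_sum_range' (n := (q i).natDegree + 1) (Nat.lt_succ_self _), map_sum]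
    simp only [pev_monomial]
    refine (Finset.sum_subset (fun n hn => Finset.mem_range.2
      (Nat.lt_succ_of_le (Polynomial.le_natDegree_of_mem_supp n hn))) fun n _ hn => ?_).trans
      (Finset.sum_congr rfl fun n _ => ?_)
    · rw [Polynomial.notMem_support_iff.1 hn, zero_smul]
    · by_cases h : (q i).coeff n = 0
      · simp [h]
      · rw [hlog i n h]
  have hsplit : ∀ (R : Type u) [CommRing R] [Algebra k R] (α : ι → R),
      MvPolynomial.aeval α f = ∑ i, pev p (α i) (c i) := by
    intro R _ _ α
    have : ∀ S : Finset ι, MvPolynomial.aeval (∑ i ∈ S, Pi.single i (α i)) f =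
        ∑ i ∈ S, MvPolynomial.aeval (Pi.single i (α i)) f := by
      intro S
      induction S using Finset.induction_on with
      | empty => simp [MvPolynomial.aeval_zero, MvPolynomial.constantCoeff_eq, hconst]
      | insert a s ha ih => rw [Finset.sum_insert ha, Finset.sum_insert ha, hadd, ih]
    have h := this Finset.univ
    rw [Finset.univ_sum_single] at h
    simp only [hc, hq, h]
  refine ⟨c, fun h0 => hf0 ?_, ?_⟩
  · have := hsplit (MvPolynomial ι k) MvPolynomial.X
    simpa [MvPolynomial.aeval_X_left_apply, h0] using this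
  · rw [← hsplit]; exact hfx

/-- In a geometrically reduced algebra the relation can be chosen with a linear term. -/
theorem exists_separable_relation {A : Type u} [CommRing A] [Bialgebra k A] (p : ℕ) [Fact p.Prime] [CharP k p]
    [IsReduced (AlgebraicClosure k ⊗[k] A)] [Fintype ι] (x : ι → A) (hx : ∀ i, IsPrim k (x i))
    (hdep : ¬ AlgebraicIndependent k x) :
    ∃ c : ι → Polynomial k, (∃ i, (c i).coeff 0 ≠ 0) ∧ ∑ i, pev p (x i) (c i) = 0 := by
  classical
  obtain ⟨c, hc0, hc⟩ := exists_relation p x hx hdep
  suffices h : ∀ (M : ℕ) (c : ι → Polynomial k), c ≠ 0 → (∀ i, (c i).natDegree ≤ M) →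
      ∑ i, pev p (x i) (c i) = 0 → ∃ c : ι → Polynomial k, (∃ i, (c i).coeff 0 ≠ 0) ∧ ∑ i, pev p (x i) (c i) = 0 from
    h (Finset.univ.sup fun i => (c i).natDegree) c hc0
      (fun i => Finset.le_sup (f := fun i => (c i).natDegree) (Finset.mem_univ i)) hc
  intro M
  induction M with
  | zero =>
    intro c hc0 hdeg hc
    obtain ⟨i, hi⟩ := Function.ne_iff.1 hc0
    exact ⟨c, ⟨i, fun h => hi (Polynomial.eq_C_of_natDegree_le_zero (hdeg i) ▸ by simp [h])⟩, hc⟩
  | succ M ih =>
    intro c hc0 hdeg hc
    by_cases hlin : ∃ i, (c i).coeff 0 ≠ 0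
    · exact ⟨c, hlin, hc⟩
    push Not at hlin
    let v : ι × Fin (M + 1) → A := fun ij => x ij.1 ^ p ^ (ij.2 : ℕ)
    have hexp : ∀ d : ι → Polynomial k, (∀ i, (d i).natDegree ≤ M) →
        ∑ i, pev p (x i) (d i) = ∑ ij : ι × Fin (M + 1), (d ij.1).coeff ij.2 • v ij := by
      intro d hd
      rw [Fintype.sum_prod_type]
      refine Finset.sum_congr rfl fun i _ => ?_
      conv_lhs => rw [(d i).as_sum_range' (M + 1) (Nat.lt_succ_of_le (hd i))]
      simp only [map_sum, pev_monomial, v]
      exact (Fin.sum_univ_eq_sum_range (fun j => (d i).coeff j • x i ^ p ^ j) (M + 1)).symm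
    by_cases hv : LinearIndependent k v
    · exfalso
      let K := AlgebraicClosure k
      haveI : CharP K p := charP_of_injective_algebraMap (algebraMap k K).injective p
      have hroot : ∀ ij : ι × Fin (M + 1), ∃ r : K, r ^ p = algebraMap k K ((c ij.1).coeff ((ij.2 : ℕ) + 1)) :=
        fun ij => IsAlgClosed.exists_pow_nat_eq _ (Fact.out : p.Prime).pos
      choose r hr using hroot
      let z : K ⊗[k] A := ∑ ij, r ij ⊗ₜ v ij
      have hzp : z ^ p = 0 := by
        have hsum : z ^ p = ∑ ij, (r ij ⊗ₜ[k] v ij) ^ p := by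
          have h1 := pev_sum (k := k) p Finset.univ (fun ij : ι × Fin (M + 1) => r ij ⊗ₜ[k] v ij) (Polynomial.X : Polynomial k)
          simpa [← Polynomial.monomial_one_one_eq_X, z] using h1
        rw [hsum]
        have h2 : ∀ ij : ι × Fin (M + 1), (r ij ⊗ₜ[k] v ij) ^ p =
            (1 : K) ⊗ₜ[k] ((c ij.1).coeff ((ij.2 : ℕ) + 1) • x ij.1 ^ p ^ ((ij.2 : ℕ) + 1)) := fun ij => by
          rw [Algebra.TensorProduct.tmul_pow, hr, Algebra.algebraMap_eq_smul_one, TensorProduct.smul_tmul,
            pow_succ, pow_mul]
        rw [Finset.sum_congr rfl fun ij _ => h2 ij, ← TensorProduct.tmul_sum, Fintype.sum_prod_type]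
        have h3 : ∀ i, ∑ j : Fin (M + 1), (c i).coeff ((j : ℕ) + 1) • x i ^ p ^ ((j : ℕ) + 1) = pev p (x i) (c i) := by
          intro i
          conv_rhs => rw [(c i).as_sum_range' (M + 2) (Nat.lt_succ_of_le (hdeg i))]
          simp only [map_sum, pev_monomial]
          rw [Finset.sum_range_succ', hlin i, zero_smul, add_zero]
          exact Fin.sum_univ_eq_sum_range (fun j => (c i).coeff (j + 1) • x i ^ p ^ (j + 1)) (M + 1)
        rw [Finset.sum_congr rfl fun i _ => h3 i, hc, TensorProduct.tmul_zero]
      have hz : z = 0 := IsReduced.eq_zero _ ⟨p, hzp⟩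
      have hr0 : ∀ ij, r ij = 0 := by
        intro ij
        obtain ⟨φ, hφ⟩ := ((Finsupp.lapply ij).comp hv.repr).exists_extend
        have hφv : ∀ l, φ (v l) = if l = ij then 1 else 0 := by
          intro l
          have := DFunLike.congr_fun hφ ⟨v l, Submodule.subset_span ⟨l, rfl⟩⟩
          simpa [hv.repr_eq_single l ⟨v l, Submodule.subset_span ⟨l, rfl⟩⟩ rfl, Finsupp.single_apply] using this
        have := congrArg (fun t => TensorProduct.rid k K (φ.lTensor K t)) hz
        simpa [z, hφv, ite_smul] using this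
      refine hc0 (funext fun i => Polynomial.ext fun j => ?_)
      rcases j with - | j
      · simpa using hlin i
      · rcases lt_or_ge j (M + 1) with hj | hj
        · have := hr (i, ⟨j, hj⟩)
          rw [hr0, zero_pow (Fact.out : p.Prime).ne_zero] at this
          simpa using ((map_eq_zero (algebraMap k K)).1 this.symm)
        · simpa using Polynomial.coeff_eq_zero_of_natDegree_lt ((hdeg i).trans_lt (by omega))
    · rw [Fintype.not_linearIndependent_iff] at hv
      obtain ⟨a, ha, ij, hij⟩ := hv
      let d : ι → Polynomial k := fun i => ∑ j : Fin (M + 1), Polynomial.monomial (j : ℕ) (a (i, j))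
      have hdc : ∀ i (j : Fin (M + 1)), (d i).coeff j = a (i, j) := fun i j => by
        simp [d, Polynomial.coeff_monomial, Fin.val_inj]
      have hdd : ∀ i, (d i).natDegree ≤ M := fun i => by
        refine Polynomial.natDegree_sum_le_of_forall_le _ _ fun j _ => (Polynomial.natDegree_monomial_le _).trans ?_
        exact Nat.le_of_lt_succ j.2
      refine ih d (fun h => hij ?_) hdd ?_
      · rw [← hdc ij.1 ij.2, h]; simp
      · rw [hexp d hdd]; simpa [hdc] using ha

end relation

end Groth.Agent.VecGrp
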