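import Groth.Agent.VecGrpLib.Additive
import Mathlib.RingTheory.HopfAlgebra.Convolution
import Mathlib.RingTheory.Kaehler.Basic

/-!
Differentials of primitive elements are invariant.
-/

set_option autoImplicit false
set_option maxHeartbeats 1000000
set_option linter.style.haveILetI false

noncomputable section

universe u

open scoped TensorProduct
open Coalgebra (comul counit)

namespace Groth.Agent.VecGrp

variable {k : Type u} [Field k] {A : Type u} [CommRing A]

section d

variable [Algebra k A] (p : ℕ) [hp : Fact p.Prime] [CharP k p]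

theorem D_pev (x : A) (c : Polynomial k) :
    KaehlerDifferential.D k A (pev p x c) = c.coeff 0 • KaehlerDifferential.D k A x := by
  induction c using Polynomial.induction_on' with
  | add a b ha hb => simp [ha, hb, add_smul]
  | monomial j r =>
    rw [pev_monomial, Derivation.map_smul, Derivation.leibniz_pow, Polynomial.coeff_monomial]
    rcases j with - | j
    · simp
    · have h0 : ((p : ℕ) : A) = 0 := by rw [← map_natCast (algebraMap k A), CharP.cast_eq_zero, map_zero]
      rw [if_neg (Nat.succ_ne_zero _), zero_smul, ← Nat.cast_smul_eq_nsmul A, Nat.cast_pow, h0,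
        zero_pow (Nat.succ_ne_zero _), zero_smul, smul_zero]

end d

variable [HopfAlgebra k A]

/-- The augmentation ideal. -/
def aug0 : Ideal A := RingHom.ker (Bialgebra.counitAlgHom k A)

theorem mem_aug0 {a : A} : a ∈ aug0 (k := k) (A := A) ↔ counit (R := k) a = 0 := Iff.rfl

theorem sub_counit_mem (a : A) : a - algebraMap k A (counit a) ∈ aug0 (k := k) (A := A) := by
  rw [mem_aug0, map_sub, Bialgebra.counit_algebraMap, sub_self]

/-- The invariant derivation attached to a point derivation. -/
def invDer (φ : A →ₗ[k] k) (h1 : φ 1 = 0)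
    (hm : ∀ a ∈ aug0 (k := k) (A := A), ∀ b ∈ aug0 (k := k) (A := A), φ (a * b) = 0) : Derivation k A A :=
  let L : A ⊗[k] A →ₗ[k] A := (TensorProduct.rid k A).toLinearMap ∘ₗ φ.lTensor A
  let e : A ⊗[k] A →ₗ[k] A := (TensorProduct.rid k A).toLinearMap ∘ₗ (counit (R := k)).lTensor A
  have hφ : ∀ a b : A, φ (a * b) = counit (R := k) a * φ b + counit (R := k) b * φ a := fun a b => by
    have h := hm _ (sub_counit_mem (k := k) a) _ (sub_counit_mem (k := k) b)
    simp only [Algebra.algebraMap_eq_smul_one, sub_mul, mul_sub, smul_mul_assoc, mul_smul_comm, one_mul, mul_one,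
      map_sub, map_smul, smul_eq_mul, h1, mul_zero, sub_zero] at h
    linear_combination h
  have hL : ∀ u v : A ⊗[k] A, L (u * v) = e u * L v + e v * L u := fun u v => by
    induction u using TensorProduct.induction_on with
    | zero => simp
    | add u₁ u₂ h₁ h₂ => simp [add_mul, mul_add, h₁, h₂]; ring
    | tmul a b =>
      induction v using TensorProduct.induction_on with
      | zero => simp
      | add v₁ v₂ h₁ h₂ => simp [add_mul, mul_add, h₁, h₂]; ring
      | tmul c d =>
        simp [L, e, hφ, add_smul, Algebra.smul_def]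
        ring
  have he : ∀ a : A, e (comul (R := k) a) = a := fun a => by
    simp [e, Coalgebra.lTensor_counit_comul]
  Derivation.mk' (L ∘ₗ comul) fun a b => by
    simp only [LinearMap.comp_apply, Bialgebra.comul_mul, hL, he, smul_eq_mul]

theorem invDer_apply_prim (φ : A →ₗ[k] k) (h1 : φ 1 = 0)
    (hm : ∀ a ∈ aug0 (k := k) (A := A), ∀ b ∈ aug0 (k := k) (A := A), φ (a * b) = 0) {z : A} (hz : IsPrim k z) :
    invDer φ h1 hm z = algebraMap k A (φ z) := by
  show (TensorProduct.rid k A).toLinearMap (φ.lTensor A (comul (R := k) z)) = _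
  rw [show comul (R := k) z = _ from hz]
  simp [h1, Algebra.algebraMap_eq_smul_one]

/-- The invariant differential of an element, seen through the fibre at the origin. -/
def invDiff : A →ₗ[k] Ω[A⁄k] :=
  TensorProduct.lift (LinearMap.mk₂ k (fun a b => HopfAlgebra.antipodeAlgHom k A a • KaehlerDifferential.D k A b)
    (fun _ _ _ => by rw [map_add, add_smul])
    (fun c a b => by rw [map_smul, smul_assoc])
    (fun a b₁ b₂ => by rw [map_add, smul_add])
    (fun c a b => by rw [Derivation.map_smul, smul_comm])) ∘ₗ comul

theorem invDiff_prim {z : A} (hz : IsPrim k z) : invDiff z = KaehlerDifferential.D k A z := by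
  simp [invDiff, show comul (R := k) z = _ from hz]

theorem invDiff_eq_zero {z : A} (hz : z ∈ (aug0 (k := k) (A := A)) ^ 2) : invDiff (k := k) z = 0 := by
  let S : A →ₐ[k] A := HopfAlgebra.antipodeAlgHom k A
  let g : A ⊗[k] A →ₐ[k] A := Algebra.TensorProduct.productMap S (AlgHom.id k A)
  let L : A ⊗[k] A →ₗ[k] Ω[A⁄k] :=
    TensorProduct.lift (LinearMap.mk₂ k (fun a b => S a • KaehlerDifferential.D k A b)
      (fun _ _ _ => by rw [map_add, add_smul])
      (fun c a b => by rw [map_smul, smul_assoc])
      (fun a b₁ b₂ => by rw [map_add, smul_add])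
      (fun c a b => by rw [Derivation.map_smul, smul_comm]))
  have hL : ∀ u v : A ⊗[k] A, L (u * v) = g u • L v + g v • L u := fun u v => by
    induction u using TensorProduct.induction_on with
    | zero => simp
    | add u₁ u₂ h₁ h₂ => simp only [add_mul, map_add, h₁, h₂, add_smul, smul_add]; abel
    | tmul a b =>
      induction v using TensorProduct.induction_on with
      | zero => simp
      | add v₁ v₂ h₁ h₂ => simp only [mul_add, map_add, h₁, h₂, add_smul, smul_add]; abel
      | tmul c d =>
        simp only [L, g, Algebra.TensorProduct.tmul_mul_tmul, TensorProduct.lift.tmul, LinearMap.mk₂_apply,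
          Algebra.TensorProduct.productMap_apply_tmul, AlgHom.coe_id, id_eq, map_mul, Derivation.leibniz, smul_add,
          smul_smul]
        congr 2 <;> ring
  have hg : ∀ a : A, counit (R := k) a = 0 → g (comul a) = 0 := fun a ha => by
    have h1 : g.toLinearMap = LinearMap.mul' k A ∘ₗ (HopfAlgebra.antipode k).rTensor A :=
      TensorProduct.ext' fun x y => by simp [g, S]
    have h := DFunLike.congr_fun h1 (comul a)
    rw [AlgHom.toLinearMap_apply] at h
    rw [h, LinearMap.comp_apply, HopfAlgebra.mul_antipode_rTensor_comul_apply, ha, map_zero]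
  rw [pow_two] at hz
  refine Submodule.mul_induction_on hz (fun a ha b hb => ?_) fun x y hx hy => by rw [map_add, hx, hy, add_zero]
  show L (comul (a * b)) = 0
  rw [Bialgebra.comul_mul, hL, hg a ha, hg b hb, zero_smul, zero_smul, add_zero]

/-- The span of one and the square of the augmentation ideal. -/
def sqSpan : Submodule k A := Submodule.span k {1} ⊔ ((aug0 (k := k) (A := A)) ^ 2).restrictScalars k

theorem mem_sq_of_prim {z : A} (hz : IsPrim k z) (h : z ∈ sqSpan (k := k) (A := A)) :
    z ∈ (aug0 (k := k) (A := A)) ^ 2 := by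
  obtain ⟨a, ha, b, hb, rfl⟩ := Submodule.mem_sup.1 h
  obtain ⟨c, rfl⟩ := Submodule.mem_span_singleton.1 ha
  have hb' : counit (R := k) b = 0 := mem_aug0.1 (Ideal.pow_le_self two_ne_zero hb)
  have := hz.counit_eq_zero
  rw [map_add, hb', map_smul, Bialgebra.counit_one, add_zero, smul_eq_mul, mul_one] at this
  rw [this, zero_smul, zero_add]
  exact hb

theorem D_eq_zero_of_mem {z : A} (hz : IsPrim k z) (h : z ∈ sqSpan (k := k) (A := A)) :
    KaehlerDifferential.D k A z = 0 := by
  rw [← invDiff_prim hz, invDiff_eq_zero (mem_sq_of_prim hz h)]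

theorem eq_zero_on_sqSpan {φ : A →ₗ[k] k} (hφ : ∀ a ∈ sqSpan (k := k) (A := A), φ a = 0) :
    φ 1 = 0 ∧ ∀ a ∈ aug0 (k := k) (A := A), ∀ b ∈ aug0 (k := k) (A := A), φ (a * b) = 0 :=
  ⟨hφ _ (Submodule.mem_sup_left (Submodule.mem_span_singleton_self _)), fun _ ha _ hb =>
    hφ _ (Submodule.mem_sup_right (by
      show _ ∈ (aug0 (k := k) (A := A)) ^ 2
      rw [pow_two]; exact Ideal.mul_mem_mul ha hb))⟩

/-- A primitive element with vanishing differential lies in the square of the augmentation ideal. -/
theorem mem_sq_of_D_eq_zero {z : A} (hz : IsPrim k z) (h : KaehlerDifferential.D k A z = 0) :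
    z ∈ (aug0 (k := k) (A := A)) ^ 2 := by
  refine mem_sq_of_prim hz (by_contra fun hnot => ?_)
  obtain ⟨φ, hφz, hφW⟩ := Submodule.exists_dual_map_eq_bot_of_notMem hnot inferInstance
  have hφ := eq_zero_on_sqSpan (φ := φ) fun a ha => by
    have : φ a ∈ Submodule.map φ (sqSpan (k := k) (A := A)) := Submodule.mem_map_of_mem ha
    rw [hφW] at this; simpa using this
  have h1 := invDer_apply_prim φ hφ.1 hφ.2 hz
  rw [← Derivation.liftKaehlerDifferential_comp_D (invDer φ hφ.1 hφ.2), h, map_zero] at h1
  haveI : Nontrivial A := (Bialgebra.counitAlgHom k A).toRingHom.domain_nontrivial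
  exact hφz ((map_eq_zero (algebraMap k A)).1 h1.symm)

/-- Primitive elements with differentials independent over the field have differentials independent
over the algebra. -/
theorem linearIndependent_D {ι : Type} [Fintype ι] {y : ι → A} (hy : ∀ i, IsPrim k (y i))
    (hli : LinearIndependent k fun i => KaehlerDifferential.D k A (y i)) :
    LinearIndependent A fun i => KaehlerDifferential.D k A (y i) := by
  classical
  have hq : LinearIndependent k fun i => (sqSpan (k := k) (A := A)).mkQ (y i) := by
    rw [Fintype.linearIndependent_iff] at hli ⊢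
    intro g hg
    refine hli g ?_
    have hmem : ∑ i, g i • y i ∈ sqSpan (k := k) (A := A) := by
      rw [← Submodule.Quotient.mk_eq_zero, ← Submodule.mkQ_apply, map_sum]
      simpa using hg
    have := D_eq_zero_of_mem (IsPrim.sum _ fun i _ => (hy i).smul (g i)) hmem
    simpa using this
  rw [Fintype.linearIndependent_iff]
  intro a ha j
  obtain ⟨φ, hφ⟩ := ((Finsupp.lapply j).comp hq.repr).exists_extend
  have hψ := eq_zero_on_sqSpan (φ := φ ∘ₗ (sqSpan (k := k) (A := A)).mkQ) fun b hb => by
    simp [(Submodule.Quotient.mk_eq_zero _).2 hb]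
  have hφy : ∀ i, φ ((sqSpan (k := k) (A := A)).mkQ (y i)) = if i = j then 1 else 0 := fun i => by
    have h := DFunLike.congr_fun hφ (⟨_, Submodule.subset_span ⟨i, rfl⟩⟩ :
      Submodule.span k (Set.range fun i => (sqSpan (k := k) (A := A)).mkQ (y i)))
    rw [LinearMap.comp_apply, LinearMap.comp_apply, hq.repr_eq_single i _ rfl, Submodule.subtype_apply,
      Finsupp.lapply_apply, Finsupp.single_apply] at h
    exact h
  have := congrArg (invDer _ hψ.1 hψ.2).liftKaehlerDifferential ha
  simp only [map_sum, map_smul, map_zero, Derivation.liftKaehlerDifferential_comp_D] at this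
  simp only [invDer_apply_prim _ hψ.1 hψ.2 (hy _), LinearMap.comp_apply, hφy, apply_ite (algebraMap k A),
    map_one, map_zero, smul_eq_mul, mul_ite, mul_one, mul_zero] at this
  rwa [Finset.sum_ite_eq' _ j a, if_pos (Finset.mem_univ j)] at this

/-- Primitive elements with independent differentials are algebraically independent. -/
theorem algebraicIndependent_of_D (p : ℕ) [Fact p.Prime] [CharP k p] [IsReduced (AlgebraicClosure k ⊗[k] A)]
    {ι : Type} [Fintype ι] {y : ι → A} (hy : ∀ i, IsPrim k (y i))
    (hli : LinearIndependent k fun i => KaehlerDifferential.D k A (y i)) : AlgebraicIndependent k y := by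
  by_contra hdep
  obtain ⟨c, ⟨i, hi⟩, hc⟩ := exists_separable_relation p y hy hdep
  refine hi (Fintype.linearIndependent_iff.1 hli (fun i => (c i).coeff 0) ?_ i)
  have := congrArg (KaehlerDifferential.D k A) hc
  simpa [map_sum, D_pev] using this

end Groth.Agent.VecGrp
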