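import Groth.Agent.VecGrpLib.Fil
import Mathlib.FieldTheory.IsAlgClosed.AlgebraicClosure
import Mathlib.RingTheory.Nilpotent.GeometricallyReduced
import Mathlib.GroupTheory.Perm.Cycle.Basic
import Mathlib.FieldTheory.Perfect

/-! On a reduced `p`-torsion cocommutative bialgebra the `p`-th convolution powers of augmentation forms vanish. -/

set_option autoImplicit false
set_option backward.isDefEq.respectTransparency false
set_option backward.isDefEq.respectTransparency.types false
set_option linter.style.haveILetI false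

universe u

open TensorProduct WithConv Coalgebra

namespace Groth.Agent.VecGrp

/-- Summing an invariant function over a set with an automorphism of order `p` in characteristic `p`. -/
theorem sum_eq_sum_fixed {α B : Type*} [CommRing B] [DecidableEq α] (p : ℕ) [hp : Fact p.Prime] [CharP B p]
    (σ : α → α) (hσ : ∀ x, σ^[p] x = x) (h : α → B) (hh : ∀ x, h (σ x) = h x) :
    ∀ (s : Finset α), (∀ x ∈ s, σ x ∈ s) → ∑ x ∈ s, h x = ∑ x ∈ s.filter (fun x => σ x = x), h x := by
  intro s
  induction s using Finset.strongInduction with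
  | _ s ih =>
    intro hs
    by_cases hall : ∀ x ∈ s, σ x = x
    · rw [Finset.filter_true_of_mem hall]
    push Not at hall
    obtain ⟨x, hx, hfix⟩ := hall
    let O : Finset α := (Finset.range p).image fun i => σ^[i] x
    have hit : ∀ i, h (σ^[i] x) = h x := fun i => by
      induction i with
      | zero => rfl
      | succ i ihi => rw [Function.iterate_succ_apply', hh, ihi]
    have hper : Function.minimalPeriod σ x = p := Function.minimalPeriod_eq_prime (hσ x) hfix
    have hinj : Set.InjOn (fun i => σ^[i] x) (Finset.range p) := fun i hi j hj hij =>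
      Function.iterate_injOn_Iio_minimalPeriod (f := σ) (x := x) (by rw [hper]; simpa using hi)
        (by rw [hper]; simpa using hj) hij
    have hmem : ∀ i, σ^[i] x ∈ O := fun i =>
      Finset.mem_image.2 ⟨i % p, Finset.mem_range.2 (Nat.mod_lt _ hp.out.pos),
        Function.IsPeriodicPt.iterate_mod_apply (hσ x) i⟩
    have hOsub : O ⊆ s := fun y hy => by
      obtain ⟨i, -, rfl⟩ := Finset.mem_image.1 hy
      induction i with
      | zero => exact hx
      | succ i ihi => rw [Function.iterate_succ_apply']; exact hs _ (ihi (hmem i))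
    have hO0 : ∑ y ∈ O, h y = 0 := by
      rw [Finset.sum_image hinj, Finset.sum_congr rfl fun i _ => hit i, Finset.sum_const, Finset.card_range,
        nsmul_eq_mul, CharP.cast_eq_zero, zero_mul]
    have hOfix : O.filter (fun y => σ y = y) = ∅ := Finset.filter_eq_empty_iff.2 fun y hy hy' => by
      obtain ⟨i, hi, rfl⟩ := Finset.mem_image.1 hy
      refine hfix ?_
      have h1 := congrArg (σ^[p - i]) hy'
      have hi' := Finset.mem_range.1 hi
      rw [← Function.iterate_succ_apply' σ i, ← Function.iterate_add_apply, ← Function.iterate_add_apply,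
        show p - i + (i + 1) = p + 1 by omega, show p - i + i = p by omega, Function.iterate_succ_apply',
        hσ] at h1
      exact h1
    have hss : s \ O ⊂ s := Finset.sdiff_ssubset hOsub ⟨x, hmem 0⟩
    have hstab : ∀ y ∈ s \ O, σ y ∈ s \ O := fun y hy => by
      rw [Finset.mem_sdiff] at hy ⊢
      refine ⟨hs y hy.1, fun hc => hy.2 ?_⟩
      obtain ⟨i, -, hi⟩ := Finset.mem_image.1 hc
      have h1 := congrArg (σ^[p - 1]) hi
      rw [← Function.iterate_succ_apply σ (p - 1), show (p - 1).succ = p by have := hp.out.pos; omega, hσ,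
        ← Function.iterate_add_apply] at h1
      exact h1 ▸ hmem _
    have e1 : ∑ x ∈ s, h x = ∑ y ∈ s \ O, h y := by
      rw [← Finset.sum_sdiff hOsub, hO0, add_zero]
    have e2 : s.filter (fun y => σ y = y) = (s \ O).filter (fun y => σ y = y) := by
      ext y
      simp only [Finset.mem_filter, Finset.mem_sdiff]
      exact ⟨fun ⟨a, b⟩ => ⟨⟨a, fun hy => Finset.eq_empty_iff_forall_notMem.1 hOfix y (Finset.mem_filter.2 ⟨hy, b⟩)⟩, b⟩,
        fun ⟨⟨a, _⟩, b⟩ => ⟨a, b⟩⟩
    rw [e1, e2, ih _ hss hstab]

variable {k : Type u} [Field k] {A : Type u} [CommRing A] [Bialgebra k A] [Coalgebra.IsCocomm k A]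
variable {ι : Type u} (b : Module.Basis ι k A)

/-- Coefficients of the iterated comultiplication. -/
theorem exists_expansion (n : ℕ) : ∀ a : A, ∃ T : (Fin n → ι) →₀ k, ∀ (B : Type u) [CommRing B] [Algebra k B]
    (g : Fin n → WithConv (A →ₗ[k] B)),
      (∏ j, g j).ofConv a = T.sum fun s t => t • ∏ j, (g j).ofConv (b (s j)) := by
  induction n with
  | zero =>
    intro a
    refine ⟨Finsupp.single Fin.elim0 (counit a), fun B _ _ g => ?_⟩
    rw [Finset.univ_eq_empty, Finset.prod_empty, Finsupp.sum_single_index (by simp)]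
    simp [LinearMap.convOne_def, Algebra.algebraMap_eq_smul_one]
  | succ n ih =>
    intro a
    classical
    choose T hT using ih
    let D := (TensorProduct.equivFinsuppOfBasisLeft (N := A) b) (comul a)
    refine ⟨D.sum fun i a' => (T a').mapDomain (Fin.cons i), fun B _ _ g => ?_⟩
    have hΔ : comul (R := k) a = D.sum fun i a' => b i ⊗ₜ[k] a' := by
      conv_lhs => rw [← (TensorProduct.equivFinsuppOfBasisLeft (N := A) b).symm_apply_apply (comul a)]
      rw [TensorProduct.equivFinsuppOfBasisLeft_symm_apply]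
    rw [Fin.prod_univ_succ]
    show (g 0 * ∏ j : Fin n, g j.succ) a = _
    rw [LinearMap.convMul_apply, hΔ, Finsupp.sum_sum_index (by simp) (fun s c d => add_smul _ _ _)]
    simp only [map_finsuppSum, TensorProduct.map_tmul, LinearMap.mul'_apply]
    refine Finsupp.sum_congr fun i _ => ?_
    rw [Finsupp.sum_mapDomain_index (by simp) (fun s c d => add_smul _ _ _), hT, Finsupp.mul_sum]
    refine Finsupp.sum_congr fun s _ => ?_
    rw [mul_smul_comm, Fin.prod_univ_succ]
    simp

theorem expansion_symm {n : ℕ} {a : A} {T : (Fin n → ι) →₀ k}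
    (hT : ∀ (g : Fin n → Form k A), (∏ j, g j).ofConv a = T.sum fun s t => t • ∏ j, (g j).ofConv (b (s j)))
    (s : Fin n → ι) (π : Equiv.Perm (Fin n)) : T (s ∘ π) = T s := by
  classical
  have h1 : ∀ s : Fin n → ι, (∏ j, (toConv (b.coord (s j)) : Form k A)).ofConv a = T s := fun s => by
    rw [hT]
    have hb : ∀ i j, b.coord i (b j) = if j = i then 1 else 0 := fun i j => by simp [Finsupp.single_apply]
    simp only [WithConv.ofConv_toConv, hb, Finset.prod_boole, smul_eq_mul]
    simp [← funext_iff, Finsupp.sum_ite_eq', eq_comm]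
  rw [← h1, ← h1]
  exact congrArg (fun t : Form k A => t.ofConv a) (Equiv.prod_comp π fun j => (toConv (b.coord (s j)) : Form k A))

open Fin.NatCast in
theorem expansion_pow (p : ℕ) [hp : Fact p.Prime] [CharP k p] {a : A} {T : (Fin p → ι) →₀ k}
    (hT : ∀ (B : Type u) [CommRing B] [Algebra k B] (g : Fin p → WithConv (A →ₗ[k] B)),
      (∏ j, g j).ofConv a = T.sum fun s t => t • ∏ j, (g j).ofConv (b (s j)))
    (B : Type u) [CommRing B] [Algebra k B] [CharP B p] (g : WithConv (A →ₗ[k] B)) [DecidableEq ι] :
    (g ^ p).ofConv a = ∑ i ∈ T.support.image (fun s => s ⟨0, hp.out.pos⟩), T (fun _ => i) • (g.ofConv (b i)) ^ p := by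
  classical
  have h0 := hT B (fun _ => g)
  rw [Finset.prod_const, Finset.card_univ, Fintype.card_fin] at h0
  rw [h0, Finsupp.sum]
  haveI : NeZero p := ⟨hp.out.ne_zero⟩
  let σ : (Fin p → ι) → Fin p → ι := fun s => s ∘ (Equiv.addRight (1 : Fin p))
  let G : (Fin p → ι) → B := fun s => T s • ∏ j, g.ofConv (b (s j))
  have hiter : ∀ (m : ℕ) (s : Fin p → ι) (j : Fin p), σ^[m] s j = s (j + (m : Fin p)) := fun m => by
    induction m with
    | zero => simp
    | succ m ih =>
      intro s j
      rw [Function.iterate_succ_apply']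
      show σ^[m] s (j + 1) = _
      rw [ih, Nat.cast_succ, add_assoc, add_comm (1 : Fin p)]
  have hσ : ∀ s, σ^[p] s = s := fun s => funext fun j => by
    rw [hiter, show ((p : ℕ) : Fin p) = 0 from Fin.ext (by simp), add_zero]
  have hsymm : ∀ s, T (σ s) = T s := fun s => expansion_symm b (hT k) s _
  have hG : ∀ s, G (σ s) = G s := fun s => by
    show T (σ s) • ∏ j, g.ofConv (b (σ s j)) = G s
    rw [hsymm]
    exact congrArg (T s • ·) (Equiv.prod_comp (Equiv.addRight (1 : Fin p)) fun j => g.ofConv (b (s j)))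
  show ∑ s ∈ T.support, G s = _
  rw [sum_eq_sum_fixed p σ hσ G hG T.support fun s hs => by simpa [Finsupp.mem_support_iff, hsymm] using hs]
  have hconst : ∀ s, σ s = s → s = fun _ => s ⟨0, hp.out.pos⟩ := fun s hs => funext fun j => by
    have h1 : σ^[j.val] s = s := Function.iterate_fixed hs j.val
    have h2 := congrFun h1 ⟨0, hp.out.pos⟩
    rw [hiter] at h2
    refine Eq.trans ?_ h2
    congr 1
    simp
  rw [← Finset.sum_filter_of_ne (s := T.support.image _) (p := fun i => T (fun _ => i) ≠ 0)
    (fun i _ h => fun h' => h (by rw [h', zero_smul]))]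
  refine Finset.sum_bij' (fun s _ => s ⟨0, hp.out.pos⟩) (fun i _ => fun _ => i) (fun s hs => ?_) (fun i hi => ?_)
    (fun s hs => (hconst s (Finset.mem_filter.1 hs).2).symm) (fun _ _ => rfl) (fun s hs => ?_)
  · rw [Finset.mem_filter] at hs ⊢
    refine ⟨Finset.mem_image_of_mem _ hs.1, ?_⟩
    rw [← hconst s hs.2]
    exact Finsupp.mem_support_iff.1 hs.1
  · rw [Finset.mem_filter] at hi ⊢
    exact ⟨Finsupp.mem_support_iff.2 hi.2, funext fun _ => rfl⟩
  · have hc := hconst s (Finset.mem_filter.1 hs).2
    show T s • ∏ j, g.ofConv (b (s j)) = _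
    rw [← hc, Finset.prod_eq_pow_card (b := g.ofConv (b (s ⟨0, hp.out.pos⟩))) (fun j _ => by rw [congrFun hc j])]
    simp

/-- Frobenius kills the augmentation forms. -/
theorem form_pow_eq_zero (p : ℕ) [Fact p.Prime] [CharP k p] [CharP A p] [Algebra.IsGeometricallyReduced k A]
    (htor : (toConv (LinearMap.id : A →ₗ[k] A)) ^ p = 1)
    {f : Form k A} (hf : f ∈ (aug : Ideal (Form k A))) : f ^ p = 0 := by
  classical
  refine WithConv.ext (LinearMap.ext fun a => ?_)
  let b := Module.Free.chooseBasis k A
  obtain ⟨T, hT⟩ := exists_expansion b p a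
  let K := AlgebraicClosure k
  haveI : _root_.IsReduced (K ⊗[k] A) := (Algebra.isGeometricallyReduced_field_iff k A).1 inferInstance
  haveI : CharP K p := charP_of_injective_algebraMap (algebraMap k K).injective p
  haveI : ExpChar K p := ExpChar.prime Fact.out
  haveI : PerfectRing K p := PerfectField.toPerfectRing p
  rw [expansion_pow b p hT k f]
  have h2 := expansion_pow b p hT A (toConv LinearMap.id)
  rw [htor] at h2
  set I := T.support.image (fun s => s ⟨0, (Fact.out : p.Prime).pos⟩)
  let r : k → K := fun c => (frobeniusEquiv K p).symm (algebraMap k K c)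
  have hr : ∀ c, r c ^ p = algebraMap k K c := fun c => frobeniusEquiv_symm_pow_p K p _
  let β := (frobeniusEquiv K p).symm (algebraMap k K (counit a))
  let z : K ⊗[k] A := (∑ i ∈ I, r (T fun _ => i) ⊗ₜ[k] b i) - β ⊗ₜ[k] 1
  haveI : Nontrivial A := (Bialgebra.counitAlgHom k A).toRingHom.domain_nontrivial
  haveI : CharP (K ⊗[k] A) p := charP_of_injective_ringHom
    (f := (Algebra.TensorProduct.includeRight : A →ₐ[k] K ⊗[k] A).toRingHom)
    (Algebra.TensorProduct.includeRight_injective (algebraMap k K).injective) p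
  haveI : ExpChar (K ⊗[k] A) p := ExpChar.prime Fact.out
  have hz : z ^ p = 0 := by
    show frobenius (K ⊗[k] A) p z = 0
    rw [map_sub, map_sum]
    simp only [frobenius_def, Algebra.TensorProduct.tmul_pow, one_pow]
    rw [sub_eq_zero, show β ^ p = algebraMap k K (counit a) from frobeniusEquiv_symm_pow_p K p _]
    simp only [hr, Algebra.algebraMap_eq_smul_one, TensorProduct.smul_tmul]
    rw [← TensorProduct.tmul_sum]
    congr 1
    have h3 : algebraMap k A (counit a) = ∑ i ∈ I, T (fun _ => i) • b i ^ p := h2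
    rw [← h3, Algebra.algebraMap_eq_smul_one]
  have hz0 : z = 0 := IsNilpotent.eq_zero ⟨p, hz⟩
  have h4 := congrArg (fun w => TensorProduct.rid k K (f.ofConv.lTensor K w)) hz0
  simp only [z, map_sub, map_sum, LinearMap.lTensor_tmul, TensorProduct.rid_tmul, mem_aug.1 hf, zero_smul, sub_zero,
    map_zero] at h4
  refine (algebraMap k K).injective ?_
  rw [map_sum]
  have h5 := congrArg (frobenius K p) h4
  simp only [map_sum, map_zero] at h5
  rw [show (0 : Form k A).ofConv a = 0 from rfl, map_zero]
  refine Eq.trans (Finset.sum_congr rfl fun i _ => ?_) h5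
  simp [Algebra.smul_def, frobenius_def, mul_pow, hr, mul_comm]

end Groth.Agent.VecGrp
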