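import Mathlib.RingTheory.Bialgebra.Convolution
import Mathlib.RingTheory.Coalgebra.Convolution
import Mathlib.RingTheory.Ideal.Operations
import Mathlib.Algebra.CharP.Basic
import Mathlib.LinearAlgebra.Basis.VectorSpace
import Mathlib.RingTheory.Artinian.Module
import Mathlib.RingTheory.Artinian.Ring

/-! The coradical filtration of a cocommutative bialgebra, through powers of the augmentation ideal of the
convolution algebra of linear forms. -/

set_option autoImplicit false
set_option backward.isDefEq.respectTransparency false
set_option backward.isDefEq.respectTransparency.types false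
set_option linter.style.haveILetI false

universe u

open TensorProduct WithConv Coalgebra

namespace Groth.Agent.VecGrp

variable {k : Type u} [CommRing k] {A : Type u} [CommRing A] [Bialgebra k A] [Coalgebra.IsCocomm k A]

/-- Linear forms with the convolution product. -/
abbrev Form (k A : Type u) [CommRing k] [CommRing A] [Bialgebra k A] : Type u := WithConv (A →ₗ[k] k)

noncomputable instance (priority := high) formCommRing : CommRing (Form k A) :=
  LinearMap.convCommRing

theorem form_mul_apply_one (f g : Form k A) : (f * g).ofConv 1 = f.ofConv 1 * g.ofConv 1 := by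
  show (f * g) 1 = _
  rw [LinearMap.convMul_apply, Bialgebra.comul_one]
  simp [Algebra.TensorProduct.one_def]

/-- Forms vanishing at `1`. -/
def aug : Ideal (Form k A) where
  carrier := {f | f.ofConv 1 = 0}
  add_mem' := fun {a b} ha hb => by
    show a.ofConv 1 + b.ofConv 1 = 0
    rw [show a.ofConv 1 = 0 from ha, show b.ofConv 1 = 0 from hb, add_zero]
  zero_mem' := rfl
  smul_mem' := fun c {x} hx => by
    show (c * x).ofConv 1 = 0
    rw [form_mul_apply_one, show x.ofConv 1 = 0 from hx, mul_zero]

theorem mem_aug {f : Form k A} : f ∈ (aug : Ideal (Form k A)) ↔ f.ofConv 1 = 0 := Iff.rfl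

/-- Contracting the second leg of the comultiplication. -/
noncomputable def act (g : Form k A) : A →ₗ[k] A :=
  (TensorProduct.rid k A).toLinearMap ∘ₗ g.ofConv.lTensor A ∘ₗ comul

theorem apply_act (f g : Form k A) (a : A) : f.ofConv (act g a) = (f * g).ofConv a := by
  show f.ofConv ((TensorProduct.rid k A) (g.ofConv.lTensor A (comul a))) = (f * g) a
  rw [LinearMap.convMul_apply]
  induction comul (R := k) a using TensorProduct.induction_on with
  | zero => simp
  | add x y hx hy => simp [hx, hy]
  | tmul x y => simp [mul_comm]

/-- The filtration. -/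
def fil (n : ℕ) : Submodule k A where
  carrier := {a | ∀ h ∈ (aug : Ideal (Form k A)) ^ n, h.ofConv a = 0}
  add_mem' := fun {a b} ha hb h hh => by rw [map_add, ha h hh, hb h hh, add_zero]
  zero_mem' := fun h _ => map_zero _
  smul_mem' := fun c {a} ha h hh => by rw [map_smul, ha h hh, smul_zero]

theorem mem_fil {n : ℕ} {a : A} : a ∈ (fil n : Submodule k A) ↔ ∀ h ∈ (aug : Ideal (Form k A)) ^ n, h.ofConv a = 0 :=
  Iff.rfl

theorem fil_mono {m n : ℕ} (h : m ≤ n) : (fil m : Submodule k A) ≤ fil n :=
  fun _ ha f hf => ha f (Ideal.pow_le_pow_right h hf)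

theorem one_mem_fil {n : ℕ} (hn : 1 ≤ n) : (1 : A) ∈ (fil n : Submodule k A) :=
  fun h hh => mem_aug.1 (Ideal.pow_le_self (by omega) hh)

theorem act_mem_fil {m n : ℕ} {g : Form k A} (hg : g ∈ (aug : Ideal (Form k A)) ^ m) {a : A}
    (ha : a ∈ (fil (n + m) : Submodule k A)) : act g a ∈ (fil n : Submodule k A) := fun h hh => by
  rw [apply_act]
  exact ha _ (pow_add (aug : Ideal (Form k A)) n m ▸ Ideal.mul_mem_mul hh hg)

theorem act_one (g : Form k A) : act g (1 : A) = algebraMap k A (g.ofConv 1) := by
  show (TensorProduct.rid k A) (g.ofConv.lTensor A (comul 1)) = _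
  simp [Algebra.TensorProduct.one_def, Algebra.algebraMap_eq_smul_one]

/-- A primitive element. -/
def IsPrim (k : Type u) {A : Type u} [CommRing k] [CommRing A] [Bialgebra k A] (x : A) : Prop :=
  comul (R := k) x = x ⊗ₜ[k] (1 : A) + (1 : A) ⊗ₜ[k] x

/-- Precomposing a form with a multiplication. -/
noncomputable def shift (f : Form k A) (x : A) : Form k A := toConv (f.ofConv ∘ₗ LinearMap.mulLeft k x)

theorem shift_apply (f : Form k A) (x a : A) : (shift f x).ofConv a = f.ofConv (x * a) := rfl

theorem act_prim_mul {x : A} (hx : IsPrim k x) (f : Form k A) (y : A) :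
    act f (x * y) = x * act f y + act (shift f x) y := by
  show (TensorProduct.rid k A) (f.ofConv.lTensor A (comul (x * y))) =
    x * (TensorProduct.rid k A) (f.ofConv.lTensor A (comul y)) +
      (TensorProduct.rid k A) ((shift f x).ofConv.lTensor A (comul y))
  rw [Bialgebra.comul_mul, show comul (R := k) x = _ from hx]
  induction comul (R := k) y using TensorProduct.induction_on with
  | zero => simp
  | add a b ha hb =>
    simp only [mul_add, map_add] at ha hb ⊢
    rw [ha, hb]; abel
  | tmul a b =>
    simp only [add_mul, Algebra.TensorProduct.tmul_mul_tmul, one_mul, map_add, LinearMap.lTensor_tmul,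
      TensorProduct.rid_tmul, shift_apply]
    rw [mul_smul_comm]

theorem shift_mul {x : A} (hx : IsPrim k x) (f g : Form k A) :
    shift (f * g) x = shift f x * g + f * shift g x := by
  refine WithConv.ext (LinearMap.ext fun y => ?_)
  show (f * g) (x * y) = (shift f x * g) y + (f * shift g x) y
  simp only [LinearMap.convMul_apply]
  rw [Bialgebra.comul_mul, show comul (R := k) x = _ from hx]
  induction comul (R := k) y using TensorProduct.induction_on with
  | zero => simp
  | add a b ha hb =>
    simp only [mul_add, map_add] at ha hb ⊢
    rw [ha, hb]; abel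
  | tmul a b => simp [add_mul, shift_apply]

theorem shift_mem {x : A} (hx : IsPrim k x) : ∀ (n : ℕ) {h : Form k A}, h ∈ (aug : Ideal (Form k A)) ^ (n + 1) →
    shift h x ∈ (aug : Ideal (Form k A)) ^ n
  | 0, h, _ => by erw [pow_zero, Ideal.one_eq_top]; trivial
  | n + 1, h, hh => by
    rw [pow_succ'] at hh
    refine Submodule.mul_induction_on hh (fun f hf g hg => ?_) (fun a b ha hb => ?_)
    · rw [shift_mul hx]
      have h1 := Ideal.mul_mem_mul hf (shift_mem hx n hg)
      have h2 : f * shift g x ∈ (aug : Ideal (Form k A)) ^ (n + 1) := by
        erw [pow_succ']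
        exact h1
      exact add_mem (Ideal.mul_mem_left _ _ hg) h2
    · rw [show shift (a + b) x = shift a x + shift b x from WithConv.ext (LinearMap.ext fun y => rfl)]
      exact add_mem ha hb

theorem prim_mul_mem_fil {x : A} (hx : IsPrim k x) {n : ℕ} {a : A} (ha : a ∈ (fil n : Submodule k A)) :
    x * a ∈ (fil (n + 1) : Submodule k A) :=
  fun h hh => by rw [← shift_apply]; exact ha _ (shift_mem hx n hh)

variable {ι : Type*} {e : ι → A} (he : ∀ i, IsPrim k (e i))
include he

theorem prod_mem_fil (S : Multiset ι) : (S.map e).prod ∈ (fil (S.card + 1) : Submodule k A) := by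
  induction S using Multiset.induction_on with
  | empty => simpa using one_mem_fil (k := k) (A := A) le_rfl
  | cons a S ih =>
    rw [Multiset.map_cons, Multiset.prod_cons, Multiset.card_cons]
    exact prim_mul_mem_fil (he a) ih

/-- Derivation formula modulo lower filtration. -/
theorem act_prod [DecidableEq ι] (f : Form k A) (hf : f ∈ (aug : Ideal (Form k A))) (S : Multiset ι) :
    act f (S.map e).prod - (S.map fun i => f.ofConv (e i) • ((S.erase i).map e).prod).sum
      ∈ (fil (S.card - 1) : Submodule k A) := by
  induction S using Multiset.induction_on with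
  | empty =>
    simp only [Multiset.map_zero, Multiset.prod_zero, Multiset.sum_zero, sub_zero, act_one, mem_aug.1 hf, map_zero]
    exact zero_mem _
  | cons a S ih =>
    have hcard : (a ::ₘ S).card - 1 = S.card := by simp
    rw [hcard, Multiset.map_cons, Multiset.prod_cons, act_prim_mul (he a), Multiset.map_cons, Multiset.sum_cons,
      Multiset.erase_cons_head]
    set y := (S.map e).prod
    have h1 : act (shift f (e a)) y - f.ofConv (e a) • y ∈ (fil S.card : Submodule k A) := by
      let f' : Form k A := shift f (e a) - algebraMap k (Form k A) (f.ofConv (e a))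
      have hf' : f' ∈ (aug : Ideal (Form k A)) ^ 1 := by
        rw [pow_one]
        show f.ofConv (e a * 1) - (algebraMap k (Form k A) (f.ofConv (e a))).ofConv 1 = 0
        simp [Algebra.algebraMap_eq_smul_one, LinearMap.convOne_def]
      have h2 := act_mem_fil (n := S.card) hf' (prod_mem_fil he S)
      refine (congrArg (· ∈ (fil S.card : Submodule k A)) ?_).mp h2
      show act f' y = _
      have hc : ∀ c : k, act (algebraMap k (Form k A) c) y = c • y := fun c => by
        show (TensorProduct.rid k A) ((algebraMap k (Form k A) c).ofConv.lTensor A (comul y)) = c • y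
        conv_rhs => rw [← TensorProduct.rid_tmul y c]
        have := congrArg (fun t => (TensorProduct.rid k A) (c • t)) (Coalgebra.lTensor_counit_comul (R := k) y)
        simp [Algebra.algebraMap_eq_smul_one, LinearMap.convOne_def, LinearMap.lTensor_smul] at this ⊢
      rw [← hc]
      show _ = act (shift f (e a)) y - act (algebraMap k (Form k A) (f.ofConv (e a))) y
      simp [f', act, LinearMap.lTensor_sub]
    have h3 : e a * (act f y) - ((S.map fun i => f.ofConv (e i) • (((a ::ₘ S).erase i).map e).prod)).sum
        ∈ (fil S.card : Submodule k A) := by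
      rcases Nat.eq_zero_or_pos S.card with h0 | h0
      · rw [Multiset.card_eq_zero] at h0
        subst h0
        simp only [y, Multiset.map_zero, Multiset.prod_zero, act_one, mem_aug.1 hf, map_zero, mul_zero, Multiset.sum_zero, sub_zero]
        exact zero_mem _
      · have h4 := prim_mul_mem_fil (he a) ih
        rw [show S.card - 1 + 1 = S.card by omega, mul_sub] at h4
        refine (congrArg (fun t => e a * act f y - t ∈ (fil S.card : Submodule k A)) ?_).mp h4
        rw [← Multiset.sum_map_mul_left]
        refine congrArg Multiset.sum (Multiset.map_congr rfl fun i hi => ?_)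
        rw [mul_smul_comm]
        congr 1
        rcases eq_or_ne i a with rfl | hia
        · rw [Multiset.erase_cons_head, ← Multiset.prod_cons, ← Multiset.map_cons, Multiset.cons_erase hi]
        · rw [Multiset.erase_cons_tail S hia.symm, Multiset.map_cons, Multiset.prod_cons]
    have hh := add_mem h3 h1
    convert hh using 1
    abel

end Groth.Agent.VecGrp
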