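import Groth.Agent.VecGrpLib.WoundAlg
import Mathlib.FieldTheory.IsSepClosed
import Mathlib.FieldTheory.Finite.Basic
import Mathlib.Algebra.MvPolynomial.Funext

/-! A function constant on all lines is constant. -/

set_option autoImplicit false
set_option maxHeartbeats 1000000
set_option linter.style.haveILetI false

noncomputable section

universe u

open scoped TensorProduct

namespace Groth.Agent.VecGrp

variable {k : Type u} [Field k]

theorem infinite_of_isSepClosed (K : Type u) [Field K] [IsSepClosed K] : Infinite K := by
  refine Infinite.of_not_fintype fun hf => ?_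
  obtain ⟨q, hq⟩ := CharP.exists K
  haveI := hq
  have hn : 2 ≤ Fintype.card K := Fintype.one_lt_card
  obtain ⟨x, hx⟩ := IsSepClosed.exists_root_C_mul_X_pow_add_C_mul_X_add_C' q (Fintype.card K) (1 : K) (-1) 1
    ((CharP.cast_eq_zero_iff K q _).1 (FiniteField.cast_card_eq_zero K)) hn (neg_ne_zero.2 one_ne_zero)
  rw [FiniteField.pow_card] at hx
  simp at hx

/-- The line through the origin with direction `a`. -/
abbrev line {K : Type u} [Field K] [Algebra k K] {r : ℕ} (a : Fin r → K) :
    SymmetricAlgebra k (Fin r → k) →ₐ[k] Polynomial K :=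
  SymmetricAlgebra.lift (Fintype.linearCombination k fun j => a j • Polynomial.X)

theorem line_ι {K : Type u} [Field K] [Algebra k K] {r : ℕ} (a : Fin r → K) (j : Fin r) :
    line (k := k) a (SymmetricAlgebra.ι k _ (Pi.single j 1)) = a j • Polynomial.X := by
  simp [line, Fintype.linearCombination_apply_single]

/-- A function constant on all lines through the origin is constant. -/
theorem eq_algebraMap_of_lines (K : Type u) [Field K] [Algebra k K] [Infinite K] {r : ℕ}
    (q : SymmetricAlgebra k (Fin r → k)) (h : ∀ a : Fin r → K, ∃ c, line (k := k) a q = Polynomial.C c) :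
    q = algebraMap k _ (SymmetricAlgebra.algebraMapInv q) := by
  classical
  let e := SymmetricAlgebra.equivMvPolynomial (Pi.basisFun k (Fin r))
  have he : ∀ j, e (SymmetricAlgebra.ι k _ (Pi.single j 1)) = MvPolynomial.X j := fun j => by
    rw [← Pi.basisFun_apply, SymmetricAlgebra.equivMvPolynomial_ι_apply]
  have hev : ∀ (t : K) (a : Fin r → K),
      ((Polynomial.aeval t).restrictScalars k).comp (line (k := k) a) = (MvPolynomial.aeval fun j => a j * t).comp e.toAlgHom := by
    intro t a
    refine symExt fun j => ?_
    simp [he, line_ι]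
  have hinv : (Algebra.ofId k K).comp SymmetricAlgebra.algebraMapInv = (MvPolynomial.aeval fun _ : Fin r => (0 : K)).comp e.toAlgHom := by
    refine symExt fun j => ?_
    simp [he, SymmetricAlgebra.algebraMapInv_ι]
  have heval : ∀ a : Fin r → K, MvPolynomial.aeval a (e q) = algebraMap k K (SymmetricAlgebra.algebraMapInv q) := by
    intro a
    obtain ⟨c, hc⟩ := h a
    have h1 := DFunLike.congr_fun (hev 1 a) q
    have h0 := DFunLike.congr_fun (hev 0 a) q
    simp only [AlgHom.comp_apply, hc, mul_one, mul_zero, AlgHom.restrictScalars_apply, Polynomial.aeval_C,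
      Algebra.algebraMap_self, RingHom.id_apply] at h1 h0
    have h2 := DFunLike.congr_fun hinv q
    simp only [AlgHom.comp_apply] at h2
    exact h1.symm.trans (h0.trans h2.symm)
  apply e.injective
  rw [AlgEquiv.commutes]
  apply MvPolynomial.map_injective (algebraMap k K) (algebraMap k K).injective
  refine MvPolynomial.funext fun a => ?_
  rw [MvPolynomial.eval_map, ← MvPolynomial.aeval_def, heval, MvPolynomial.eval_map, ← MvPolynomial.aeval_def,
    AlgHom.commutes]

end Groth.Agent.VecGrp
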