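import Groth.Agent.VecGrpLib.Noether
import Mathlib.RingTheory.MvPolynomial.MonomialOrder
import Mathlib.Data.Finsupp.MonomialOrder.DegLex

/-!
Standard monomials and additive relations.
-/

set_option autoImplicit false
set_option maxHeartbeats 1000000
set_option linter.style.haveILetI false

noncomputable section

universe u

open scoped TensorProduct
open Coalgebra (comul counit)

namespace Groth.Agent.VecGrp

variable {k : Type u} [Field k] {ι : Type}

theorem diag_monomial_mem' : ∀ (e : ℕ) (s : ι →₀ ℕ), s.degree = e → 1 ≤ e →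
    (diag (k := k) (ι := ι)) (MvPolynomial.monomial s (1 : k)) - MvPolynomial.monomial s 1 ⊗ₜ 1 -
        1 ⊗ₜ MvPolynomial.monomial s 1 ∈
      Submodule.span k {t : MvPolynomial ι k ⊗[k] MvPolynomial ι k | ∃ a b : ι →₀ ℕ, a ≠ 0 ∧ b ≠ 0 ∧ a + b = s ∧
        t = MvPolynomial.monomial a 1 ⊗ₜ MvPolynomial.monomial b 1} := by
  intro e
  induction e with
  | zero => intro s _ h; omega
  | succ e ih =>
    intro s hs _
    classical
    obtain ⟨i, hi⟩ : ∃ i, s i ≠ 0 := by
      by_contra! h
      have : s = 0 := Finsupp.ext h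
      simp [this] at hs
    let t := s - Finsupp.single i 1
    have hst : s = t + Finsupp.single i 1 := by
      ext j
      by_cases h : i = j
      · subst h; simp [t]; omega
      · simp [t, h]
    have ht : t.degree = e := by
      have : s.degree = t.degree + 1 := by rw [hst, map_add]; simp
      omega
    have hsingle : Finsupp.single i 1 ≠ (0 : ι →₀ ℕ) := by simp
    have hmul : MvPolynomial.monomial s (1 : k) = MvPolynomial.monomial t 1 * MvPolynomial.X i := by
      rw [MvPolynomial.X, MvPolynomial.monomial_mul, one_mul, ← hst]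
    rcases Nat.eq_zero_or_pos e with he | he
    · subst he
      have : t = 0 := (Finsupp.degree_eq_zero_iff t).1 ht
      rw [hmul, this]
      simp [diag]
    · have ht0 : t ≠ 0 := fun h => by rw [h] at ht; simp at ht; omega
      set T := Submodule.span k {x : MvPolynomial ι k ⊗[k] MvPolynomial ι k | ∃ a b : ι →₀ ℕ, a ≠ 0 ∧ b ≠ 0 ∧
        a + b = s ∧ x = MvPolynomial.monomial a 1 ⊗ₜ MvPolynomial.monomial b 1}
      set r := (diag (k := k) (ι := ι)) (MvPolynomial.monomial t (1 : k)) - MvPolynomial.monomial t 1 ⊗ₜ 1 -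
        1 ⊗ₜ MvPolynomial.monomial t 1 with hr
      have hr' := ih t ht he
      rw [← hr] at hr'
      have hX : (MvPolynomial.X i : MvPolynomial ι k) = MvPolynomial.monomial (Finsupp.single i 1) 1 := rfl
      have hclosed : r * (MvPolynomial.X i ⊗ₜ 1 + 1 ⊗ₜ MvPolynomial.X i) ∈ T := by
        refine Submodule.span_induction (p := fun x _ => x * (MvPolynomial.X i ⊗ₜ 1 + 1 ⊗ₜ MvPolynomial.X i) ∈ T)
          ?_ (by simp) (fun x y _ _ hx hy => by rw [add_mul]; exact add_mem hx hy)
          (fun c x _ hx => by rw [smul_mul_assoc]; exact Submodule.smul_mem _ c hx) hr'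
        rintro x ⟨a, b, ha, hb, hab, rfl⟩
        rw [mul_add, Algebra.TensorProduct.tmul_mul_tmul, Algebra.TensorProduct.tmul_mul_tmul, mul_one, mul_one, hX,
          MvPolynomial.monomial_mul, MvPolynomial.monomial_mul, one_mul]
        refine add_mem (Submodule.subset_span ⟨_, _, ?_, hb, ?_, rfl⟩) (Submodule.subset_span ⟨_, _, ha, ?_, ?_, rfl⟩)
        · exact fun h => ha (add_eq_zero.1 h).1
        · rw [add_right_comm, hab, ← hst]
        · exact fun h => hb (add_eq_zero.1 h).1
        · rw [← add_assoc, hab, ← hst]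
      have hcross1 : MvPolynomial.monomial t (1 : k) ⊗ₜ[k] MvPolynomial.X (R := k) i ∈ T :=
        Submodule.subset_span ⟨t, Finsupp.single i 1, ht0, hsingle, hst.symm, rfl⟩
      have hcross2 : MvPolynomial.X (R := k) i ⊗ₜ[k] MvPolynomial.monomial t (1 : k) ∈ T :=
        Submodule.subset_span ⟨Finsupp.single i 1, t, hsingle, ht0, by rw [add_comm, ← hst], rfl⟩
      convert add_mem (add_mem hcross1 hcross2) hclosed using 1
      rw [hmul, map_mul, hr, show (diag (k := k) (ι := ι)) (MvPolynomial.X i : MvPolynomial ι k) = _ from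
        MvPolynomial.aeval_X _ i]
      simp only [mul_add, sub_mul, Algebra.TensorProduct.tmul_mul_tmul, mul_one, one_mul]
      abel

variable {A : Type u} [CommRing A] [Bialgebra k A]

/-- A relation supported in a set of monomials closed under divisibility gives an additive one there. -/
theorem exists_relation_in (p : ℕ) [hp : Fact p.Prime] [CharP k p] [Fintype ι] (x : ι → A) (hx : ∀ i, IsPrim k (x i))
    (T : Set (ι →₀ ℕ)) (hT : ∀ a b, a + b ∈ T → a ∈ T)
    {f₀ : MvPolynomial ι k} (hf₀ : f₀ ≠ 0) (hf₀T : ↑f₀.support ⊆ T) (hf₀x : MvPolynomial.aeval x f₀ = 0) :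
    ∃ c : ι → Polynomial k, c ≠ 0 ∧ (∀ i l, (c i).coeff l ≠ 0 → Finsupp.single i (p ^ l) ∈ T) ∧
      ∑ i, pev p (x i) (c i) = 0 := by
  classical
  let φ : MvPolynomial ι k →ₐ[k] A := MvPolynomial.aeval x
  have hex : ∃ D, ∃ f : MvPolynomial ι k, f ≠ 0 ∧ ↑f.support ⊆ T ∧ φ f = 0 ∧ f.totalDegree = D :=
    ⟨_, f₀, hf₀, hf₀T, hf₀x, rfl⟩
  obtain ⟨f, hf0, hfT, hfx, hfD⟩ := Nat.find_spec hex
  have hmin : ∀ g : MvPolynomial ι k, φ g = 0 → ↑g.support ⊆ T → g.totalDegree < f.totalDegree → g = 0 :=
    fun g hg hgT hlt => by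
      by_contra hg0
      exact Nat.find_min hex (hfD ▸ hlt) ⟨g, hg0, hgT, hg, rfl⟩
  have hconst : f.coeff 0 = 0 := by
    have hc : ((Bialgebra.counitAlgHom k A).comp φ) = MvPolynomial.aeval fun _ => (0 : k) := by
      refine MvPolynomial.algHom_ext fun i => ?_
      simp [φ, (hx i).counit_eq_zero]
    have := DFunLike.congr_fun hc f
    rw [AlgHom.comp_apply, hfx, map_zero, MvPolynomial.aeval_zero'] at this
    simpa [MvPolynomial.constantCoeff_eq] using this.symm
  let L := MvPolynomial.restrictSupport k {a : ι →₀ ℕ | a ∈ T ∧ a.degree < f.totalDegree}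
  have hdeg : ∀ s ∈ f.support, 1 ≤ s.degree ∧ s.degree ≤ f.totalDegree := fun s hs => by
    refine ⟨?_, MvPolynomial.le_totalDegree hs⟩
    rw [Nat.one_le_iff_ne_zero, Ne, Finsupp.degree_eq_zero_iff]
    rintro rfl
    exact MvPolynomial.mem_support_iff.1 hs hconst
  let g := (diag (k := k) (ι := ι)) f - f ⊗ₜ[k] 1 - 1 ⊗ₜ[k] f
  have hgL : g ∈ LinearMap.range (TensorProduct.map L.subtype L.subtype) := by
    have : g = ∑ s ∈ f.support, f.coeff s • ((diag (k := k) (ι := ι)) (MvPolynomial.monomial s (1 : k)) -
        MvPolynomial.monomial s 1 ⊗ₜ[k] 1 - 1 ⊗ₜ[k] MvPolynomial.monomial s 1) := by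
      have hf : f = ∑ s ∈ f.support, f.coeff s • MvPolynomial.monomial s (1 : k) := by
        conv_lhs => rw [f.as_sum]
        exact Finset.sum_congr rfl fun s _ => by simp [MvPolynomial.smul_monomial]
      simp only [smul_sub, Finset.sum_sub_distrib, g]
      conv_lhs => rw [hf]
      simp only [map_sum, map_smul, TensorProduct.sum_tmul, TensorProduct.tmul_sum, TensorProduct.smul_tmul',
        TensorProduct.tmul_smul]
    rw [this]
    refine Submodule.sum_mem _ fun s hs => Submodule.smul_mem _ _ ?_
    obtain ⟨h1, h2⟩ := hdeg s hs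
    refine Submodule.span_le.2 ?_ (diag_monomial_mem' _ s rfl h1)
    rintro _ ⟨a, b, ha, hb, hab, rfl⟩
    have hmem : ∀ a b : ι →₀ ℕ, b ≠ 0 → a + b = s → MvPolynomial.monomial a (1 : k) ∈ L := fun a b hb hab => by
      refine (MvPolynomial.mem_restrictSupport_iff (R := k)).2 ?_
      intro c hc
      rw [MvPolynomial.support_monomial, if_neg one_ne_zero, Finset.coe_singleton, Set.mem_singleton_iff] at hc
      subst hc
      refine ⟨hT _ b (hab ▸ hfT hs), ?_⟩
      have hb' : b.degree ≠ 0 := fun h => hb ((Finsupp.degree_eq_zero_iff b).1 h)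
      rw [← hab, map_add] at h2
      omega
    exact ⟨⟨_, hmem a b hb hab⟩ ⊗ₜ ⟨_, hmem b a ha (by rw [add_comm, hab])⟩, by simp⟩
  have hg : g = 0 := by
    obtain ⟨g₀, hg₀⟩ := hgL
    have hinj : Function.Injective (φ.toLinearMap ∘ₗ L.subtype) := by
      rw [injective_iff_map_eq_zero]
      rintro ⟨y, hy⟩ hy0
      rw [MvPolynomial.mem_restrictSupport_iff] at hy
      by_contra hne
      have hy' : y ≠ 0 := fun h => hne (Subtype.ext h)
      refine hy' (hmin y hy0 (fun a ha => (hy ha).1) ?_)
      obtain ⟨a, ha, hay⟩ := Finset.exists_mem_eq_sup y.support (Finset.nonempty_iff_ne_empty.2 fun h =>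
        hy' (MvPolynomial.support_eq_empty.1 h)) fun s => s.sum fun _ e => e
      rw [MvPolynomial.totalDegree, hay]
      exact (hy ha).2
    have hcomm : (Algebra.TensorProduct.map φ φ).comp (diag (k := k) (ι := ι)) = (Bialgebra.comulAlgHom k A).comp φ :=
      MvPolynomial.algHom_ext fun i => by simp [diag, φ, show comul (x i) = _ from hx i]
    have hzero : Algebra.TensorProduct.map φ φ g = 0 := by
      have := DFunLike.congr_fun hcomm f
      simp only [AlgHom.comp_apply] at this
      simp [g, map_sub, this, hfx]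
    have : TensorProduct.map (φ.toLinearMap ∘ₗ L.subtype) (φ.toLinearMap ∘ₗ L.subtype) g₀ = 0 := by
      rw [TensorProduct.map_comp, LinearMap.comp_apply, hg₀]
      exact hzero
    have : g₀ = 0 := TensorProduct.map_injective_of_flat_flat _ _ hinj hinj (this.trans (map_zero _).symm)
    rw [← hg₀, this, map_zero]
  have hadd : ∀ (R : Type u) [CommRing R] [Algebra k R] (α β : ι → R),
      MvPolynomial.aeval (α + β) f = MvPolynomial.aeval α f + MvPolynomial.aeval β f := by
    intro R _ _ α β
    let l := Algebra.TensorProduct.lift (MvPolynomial.aeval (R := k) α) (MvPolynomial.aeval (R := k) β)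
      fun _ _ => Commute.all _ _
    have h1 : l.comp (diag (k := k) (ι := ι)) = MvPolynomial.aeval (α + β) :=
      MvPolynomial.algHom_ext fun i => by simp [l, diag]
    have h2 : l g = 0 := by rw [hg, map_zero]
    have h3 := DFunLike.congr_fun h1 f
    simp only [AlgHom.comp_apply] at h3
    simp only [g, map_sub, h3, l, Algebra.TensorProduct.lift_tmul, map_one, mul_one, one_mul] at h2
    exact sub_eq_zero.1 (by rw [← h2]; ring)
  let q : ι → Polynomial k := fun i => MvPolynomial.aeval (Pi.single i (Polynomial.X : Polynomial k)) f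
  have hq : ∀ (R : Type u) [CommRing R] [Algebra k R] (i : ι) (a : R),
      Polynomial.aeval a (q i) = MvPolynomial.aeval (Pi.single i a) f := by
    intro R _ _ i a
    have h1 : (Polynomial.aeval (R := k) a).comp (MvPolynomial.aeval (Pi.single i (Polynomial.X : Polynomial k))) =
        MvPolynomial.aeval (Pi.single i a) := MvPolynomial.algHom_ext fun j => by
      by_cases h : j = i
      · subst h; simp
      · simp [Pi.single_eq_of_ne h]
    exact DFunLike.congr_fun h1 f
  have hlog : ∀ i n, (q i).coeff n ≠ 0 → p ^ Nat.log p n = n := fun i n hn =>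
    eq_pow_log_of_additive p (q i) (fun R _ _ a b => by rw [hq, hq, hq, Pi.single_add, hadd]) n hn
  have hqT : ∀ i n, (q i).coeff n ≠ 0 → Finsupp.single i n ∈ T := by
    intro i n hn
    have hmon : ∀ s : ι →₀ ℕ, (MvPolynomial.aeval (Pi.single i (Polynomial.X : Polynomial k))
        (MvPolynomial.monomial s (f.coeff s))).coeff n ≠ 0 → s = Finsupp.single i n := by
      intro s hs
      rw [MvPolynomial.aeval_monomial, Finsupp.prod] at hs
      have hsupp : ∀ j ∈ s.support, j = i := by
        intro j hj
        by_contra hji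
        refine hs ?_
        rw [Finset.prod_eq_zero hj (by rw [Pi.single_eq_of_ne hji, zero_pow (Finsupp.mem_support_iff.1 hj)]),
          mul_zero, Polynomial.coeff_zero]
      have hs' : s = Finsupp.single i (s i) := by
        ext j
        by_cases hji : j = i
        · subst hji; simp
        · rw [Finsupp.single_eq_of_ne hji]; exact Finsupp.notMem_support_iff.1 fun h => hji (hsupp j h)
      have hprod : (∏ j ∈ s.support, (Pi.single i (Polynomial.X : Polynomial k) : ι → Polynomial k) j ^ s j) =
          Polynomial.X ^ s i := by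
        rw [Finset.prod_congr rfl fun j hj => show _ = Polynomial.X ^ s j by rw [hsupp j hj, Pi.single_eq_same]]
        rcases eq_or_ne (s i) 0 with h0 | h0
        · rw [Finset.prod_eq_one fun j hj => absurd h0 (by rw [← hsupp j hj]; exact Finsupp.mem_support_iff.1 hj),
            h0, pow_zero]
        · rw [Finset.prod_eq_single i (fun j hj hji => absurd (hsupp j hj) hji)
            fun h => absurd (Finsupp.mem_support_iff.2 h0) h]
      rw [hprod, Polynomial.algebraMap_eq, Polynomial.coeff_C_mul_X_pow] at hs
      rw [hs']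
      split_ifs at hs with h
      · rw [h]
      · exact absurd rfl hs
    have hexp : (q i).coeff n = ∑ s ∈ f.support, (MvPolynomial.aeval (Pi.single i (Polynomial.X : Polynomial k))
        (MvPolynomial.monomial s (f.coeff s))).coeff n := by
      show (MvPolynomial.aeval (Pi.single i (Polynomial.X : Polynomial k)) f : Polynomial k).coeff n = _
      conv_lhs => rw [f.as_sum]
      rw [map_sum, Polynomial.finsetSum_coeff]
    rw [hexp] at hn
    obtain ⟨s, hs, hs0⟩ := Finset.exists_ne_zero_of_sum_ne_zero hn
    rw [← hmon s hs0]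
    exact hfT hs
  let c : ι → Polynomial k := fun i => ∑ n ∈ (q i).support, Polynomial.monomial (Nat.log p n) ((q i).coeff n)
  have hc : ∀ (R : Type u) [CommRing R] [Algebra k R] (i : ι) (a : R),
      pev p a (c i) = Polynomial.aeval a (q i) := by
    intro R _ _ i a
    rw [Polynomial.aeval_eq_sum_range' (n := (q i).natDegree + 1) (Nat.lt_succ_self _), map_sum]
    simp only [pev_monomial]
    refine (Finset.sum_subset (fun n hn => Finset.mem_range.2
      (Nat.lt_succ_of_le (Polynomial.le_natDegree_of_mem_supp n hn))) fun n _ hn => ?_).trans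
      (Finset.sum_congr rfl fun n _ => ?_)
    · rw [Polynomial.notMem_support_iff.1 hn, zero_smul]
    · by_cases h : (q i).coeff n = 0
      · simp [h]
      · rw [hlog i n h]
  have hsplit : ∀ (R : Type u) [CommRing R] [Algebra k R] (α : ι → R),
      MvPolynomial.aeval α f = ∑ i, pev p (α i) (c i) := by
    intro R _ _ α
    have : ∀ S : Finset ι, MvPolynomial.aeval (∑ i ∈ S, Pi.single i (α i)) f =
        ∑ i ∈ S, MvPolynomial.aeval (Pi.single i (α i)) f := by
      intro S
      induction S using Finset.induction_on with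
      | empty => simp [MvPolynomial.aeval_zero, MvPolynomial.constantCoeff_eq, hconst]
      | insert a s ha ih => rw [Finset.sum_insert ha, Finset.sum_insert ha, hadd, ih]
    have h := this Finset.univ
    rw [Finset.univ_sum_single] at h
    simp only [hc, hq, h]
  refine ⟨c, fun h0 => hf0 ?_, fun i l hl => ?_, ?_⟩
  · have := hsplit (MvPolynomial ι k) MvPolynomial.X
    simpa [MvPolynomial.aeval_X_left_apply, h0] using this
  · simp only [c, Polynomial.finsetSum_coeff, Polynomial.coeff_monomial] at hl
    obtain ⟨n, -, hn⟩ := Finset.exists_ne_zero_of_sum_ne_zero hl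
    rw [ne_eq, ite_eq_right_iff, Classical.not_imp] at hn
    rw [← hn.1, hlog i n hn.2]
    exact hqT i n hn.2
  · rw [← hsplit]; exact hfx

/-- The monomials which are not leading monomials of relations. -/
def std {n : ℕ} (k : Type u) [Field k] {A : Type u} [CommRing A] [Algebra k A] (x : Fin n → A) :
    Set (Fin n →₀ ℕ) :=
  {a | ∀ f : MvPolynomial (Fin n) k, f ≠ 0 → MvPolynomial.aeval x f = 0 → MonomialOrder.degLex.degree f ≠ a}

theorem std_closed {n : ℕ} (x : Fin n → A) (a b : Fin n →₀ ℕ) (h : a + b ∈ std k x) : a ∈ std k x :=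
  fun f hf hfx ha => h (f * MvPolynomial.monomial b 1) (mul_ne_zero hf (by simp [MvPolynomial.monomial_eq_zero]))
    (by rw [map_mul, hfx, zero_mul]) (by
      classical
      rw [MonomialOrder.degree_mul hf (by simp [MvPolynomial.monomial_eq_zero]), ha, MonomialOrder.degree_monomial,
        if_neg one_ne_zero])

theorem eq_zero_of_std {n : ℕ} {x : Fin n → A} {f : MvPolynomial (Fin n) k} (hf : ↑f.support ⊆ std k x)
    (hfx : MvPolynomial.aeval x f = 0) : f = 0 := by
  by_contra h0
  exact hf ((MonomialOrder.degree_mem_support_iff _).2 h0) f h0 hfx rfl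

theorem exists_std {n : ℕ} (x : Fin n → A) (f : MvPolynomial (Fin n) k) :
    ∃ g : MvPolynomial (Fin n) k, ↑g.support ⊆ std k x ∧ MvPolynomial.aeval x g = MvPolynomial.aeval x f := by
  classical
  let M := Submodule.map (MvPolynomial.aeval x).toLinearMap (MvPolynomial.restrictSupport k (std k x))
  have hmon : ∀ b : Fin n →₀ ℕ, MvPolynomial.aeval x (MvPolynomial.monomial b (1 : k)) ∈ M := by
    intro b
    induction hb : MonomialOrder.degLex.toSyn b using WellFoundedLT.induction generalizing b with
    | ind s ih =>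
      subst hb
      by_cases hstd : b ∈ std k x
      · refine ⟨MvPolynomial.monomial b 1, (MvPolynomial.mem_restrictSupport_iff (R := k)).2 ?_, rfl⟩
        rw [MvPolynomial.support_monomial, if_neg one_ne_zero, Finset.coe_singleton, Set.singleton_subset_iff]
        exact hstd
      · simp only [std, Set.mem_setOf_eq] at hstd
        push Not at hstd
        obtain ⟨g, hg0, hgx, hgb⟩ := hstd
        have hb' : g.coeff b ≠ 0 := by
          rw [← hgb]; exact MonomialOrder.coeff_degree_ne_zero_iff.2 hg0
        have hmem : b ∈ g.support := MvPolynomial.mem_support_iff.2 hb'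
        rw [g.as_sum, map_sum, ← Finset.add_sum_erase _ _ hmem] at hgx
        have hsc : ∀ (s : Fin n →₀ ℕ), MvPolynomial.aeval x (MvPolynomial.monomial s (g.coeff s)) =
            g.coeff s • MvPolynomial.aeval x (MvPolynomial.monomial s (1 : k)) := fun s => by
          rw [← map_smul, MvPolynomial.smul_monomial, smul_eq_mul, mul_one]
        have h1 : g.coeff b • MvPolynomial.aeval x (MvPolynomial.monomial b (1 : k)) ∈ M := by
          rw [← hsc, eq_neg_of_add_eq_zero_left hgx]
          refine neg_mem (sum_mem fun s hs => ?_)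
          rw [hsc]
          refine M.smul_mem _ (ih _ ?_ s rfl)
          refine lt_of_le_of_ne ?_ fun h => (Finset.ne_of_mem_erase hs) (MonomialOrder.degLex.toSyn.injective h)
          rw [← hgb]
          exact MonomialOrder.le_degree (Finset.mem_of_mem_erase hs)
        have := M.smul_mem (g.coeff b)⁻¹ h1
        rwa [smul_smul, inv_mul_cancel₀ hb', one_smul] at this
  have : MvPolynomial.aeval x f ∈ M := by
    rw [f.as_sum, map_sum]
    refine sum_mem fun s _ => ?_
    rw [show MvPolynomial.monomial s (f.coeff s) = f.coeff s • MvPolynomial.monomial s (1 : k) by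
      rw [MvPolynomial.smul_monomial, smul_eq_mul, mul_one], map_smul]
    exact M.smul_mem _ (hmon s)
  obtain ⟨g, hg, hgf⟩ := this
  exact ⟨g, (MvPolynomial.mem_restrictSupport_iff (R := k)).1 hg, hgf⟩

/-- A primitive element of the algebra generated by primitive elements is an additive combination of them. -/
theorem exists_pev_sum (p : ℕ) [hp : Fact p.Prime] [CharP k p] {n : ℕ} (x : Fin n → A) (hx : ∀ i, IsPrim k (x i))
    {w : A} (hw : IsPrim k w) (hmem : w ∈ Algebra.adjoin k (Set.range x)) :
    ∃ c : Fin n → Polynomial k, w = ∑ i, pev p (x i) (c i) := by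
  classical
  haveI : Nontrivial A := (Bialgebra.counitAlgHom k A).toRingHom.domain_nontrivial
  rw [Algebra.adjoin_range_eq_range_aeval] at hmem
  obtain ⟨f, hf⟩ := hmem
  obtain ⟨g, hg, hgf⟩ := exists_std x f
  rw [show (MvPolynomial.aeval x).toRingHom f = MvPolynomial.aeval x f from rfl, ← hgf] at hf
  let x' : Option (Fin n) → A := fun o => o.elim w x
  let emb : (Fin n →₀ ℕ) → (Option (Fin n) →₀ ℕ) := Finsupp.mapDomain some
  let T : Set (Option (Fin n) →₀ ℕ) := {a | (a none = 0 ∧ a.some ∈ std k x) ∨ a = Finsupp.single none 1}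
  have h0std : (0 : Fin n →₀ ℕ) ∈ std k x := fun h hh hhx hd => by
    have hC : h = MvPolynomial.C (h.coeff 0) := MonomialOrder.degree_eq_zero_iff.1 hd |>.trans (by
      rw [MonomialOrder.leadingCoeff, hd])
    rw [hC, MvPolynomial.aeval_C] at hhx
    exact hh (hC.trans (by rw [(map_eq_zero (algebraMap k A)).1 hhx, map_zero]))
  have hT : ∀ a b, a + b ∈ T → a ∈ T := by
    intro a b h
    rcases h with ⟨h1, h2⟩ | h
    · refine Or.inl ⟨by simp at h1; exact h1.1, std_closed x _ b.some ?_⟩
      rwa [← Finsupp.some_add]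
    · by_cases ha : a none = 0
      · refine Or.inl ⟨ha, ?_⟩
        have : a.some = 0 := by
          ext i
          have := congrArg (fun s : Option (Fin n) →₀ ℕ => s (some i)) h
          simp at this
          simpa using this.1
        rw [this]; exact h0std
      · right
        ext o
        have := congrArg (fun s : Option (Fin n) →₀ ℕ => s o) h
        rcases o with - | i
        · simp at this ⊢; omega
        · simp at this ⊢; exact this.1
  let f₀ : MvPolynomial (Option (Fin n)) k := MvPolynomial.X none - MvPolynomial.rename some g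
  have hf₀T : ↑f₀.support ⊆ T := by
    intro s hs
    rcases Finset.mem_union.1 (MvPolynomial.support_sub (Option (Fin n)) _ _ hs) with h | h
    · rw [MvPolynomial.support_X, Finset.mem_singleton] at h
      exact Or.inr h
    · rw [MvPolynomial.support_rename_of_injective (Option.some_injective _), Finset.mem_image] at h
      obtain ⟨s', hs', rfl⟩ := h
      refine Or.inl ⟨Finsupp.mapDomain_notin_range s' none (by simp), ?_⟩
      convert hg hs'
      ext i
      simp [Finsupp.mapDomain_apply (Option.some_injective _)]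
  have hf₀0 : f₀ ≠ 0 := fun h => by
    have := congrArg (MvPolynomial.coeff (Finsupp.single none 1)) h
    simp only [f₀, MvPolynomial.coeff_sub, MvPolynomial.coeff_X, MvPolynomial.coeff_zero] at this
    rw [MvPolynomial.coeff_rename_eq_zero _ _ _ (fun s hs => absurd (congrArg (fun u : Option (Fin n) →₀ ℕ => u none) hs) (by
      rw [Finsupp.mapDomain_notin_range s none (by simp)]; simp)), sub_zero] at this
    exact one_ne_zero this
  obtain ⟨c, hc0, hcT, hc⟩ := exists_relation_in p x' (fun o => by rcases o with - | i; exacts [hw, hx i]) T hT hf₀0 hf₀T (by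
    simp only [f₀, map_sub, MvPolynomial.aeval_X, MvPolynomial.aeval_rename, x', Option.elim_none]
    rw [show (fun o : Option (Fin n) => o.elim w x) ∘ some = x from rfl, hf, sub_self])
  rw [Fintype.sum_option] at hc
  have hnone : ∀ l, l ≠ 0 → (c none).coeff l = 0 := fun l hl => by
    by_contra h
    rcases hcT none l h with ⟨h1, -⟩ | h1
    · simp [hp.out.ne_zero] at h1
    · exact hl ((Nat.pow_eq_one.1 (Finsupp.single_injective none h1)).resolve_left hp.out.ne_one)
  let P : MvPolynomial (Fin n) k := ∑ i, pev p (MvPolynomial.X i : MvPolynomial (Fin n) k) (c (some i))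
  have hPx : MvPolynomial.aeval x P = ∑ i, pev p (x i) (c (some i)) := by
    simp only [P, map_sum, pev_algHom, MvPolynomial.aeval_X]
  have hPT : ↑P.support ⊆ std k x := by
    rw [← MvPolynomial.mem_restrictSupport_iff (R := k)]
    refine sum_mem fun i _ => ?_
    rw [(c (some i)).as_sum_support, map_sum]
    refine sum_mem fun l hl => ?_
    rw [pev_monomial, MvPolynomial.X_pow_eq_monomial]
    refine Submodule.smul_mem _ _ ((MvPolynomial.mem_restrictSupport_iff (R := k)).2 ?_)
    rw [MvPolynomial.support_monomial, if_neg one_ne_zero, Finset.coe_singleton, Set.singleton_subset_iff]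
    rcases hcT (some i) l (Polynomial.mem_support_iff.1 hl) with ⟨-, h1⟩ | h1
    · convert h1
      ext j
      simp [Finsupp.single_apply]
    · have := congrArg (fun u : Option (Fin n) →₀ ℕ => u none) h1
      simp at this
  have hcn : c none = Polynomial.C ((c none).coeff 0) := Polynomial.ext fun l => by
    rcases l with - | l
    · simp
    · rw [hnone _ l.succ_ne_zero, Polynomial.coeff_C, if_neg l.succ_ne_zero]
  have hr : (c none).coeff 0 ≠ 0 := fun h0 => hc0 (by
    rw [h0, map_zero] at hcn
    rw [hcn, map_zero, zero_add] at hc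
    have hP : P = 0 := eq_zero_of_std hPT (hPx.trans hc)
    have := eq_zero_of_relation p (MvPolynomial.algebraicIndependent_X (Fin n) k) (c := fun i => c (some i)) hP
    funext o
    rcases o with - | i
    · exact hcn
    · exact congrFun this i)
  set r := (c none).coeff 0
  refine ⟨fun i => (-r⁻¹) • c (some i), ?_⟩
  simp only [map_smul, ← Finset.smul_sum, x', Option.elim_none, Option.elim_some] at hc ⊢
  rw [hcn, pev_C] at hc
  rw [← neg_eq_of_add_eq_zero_right hc, smul_neg, neg_smul, neg_neg, smul_smul, inv_mul_cancel₀ hr, one_smul]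

end Groth.Agent.VecGrp
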