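import Groth.Agent.VecGrpLib.CodimAlg
import Groth.Agent.VecGrpLib.Std
import Mathlib.RingTheory.HopfAlgebra.Quotient
import Mathlib.LinearAlgebra.SymmetricAlgebra.Basis

/-!
Splitting off a vector group: the complement cut out by primitive elements.
-/

set_option autoImplicit false
set_option maxHeartbeats 1000000
set_option linter.style.haveILetI false

noncomputable section

universe u

open scoped TensorProduct
open Coalgebra (comul counit)

namespace Groth.Agent.VecGrp

variable {k : Type u} [Field k] {A : Type u} [CommRing A] [HopfAlgebra k A]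

/-- The ideal of the common zeroes of some elements. -/
abbrev zeroIdeal {r : ℕ} (y : Fin r → A) : Ideal A := Ideal.span (Set.range y)

theorem isHopfIdeal_zeroIdeal {r : ℕ} {y : Fin r → A} (hy : ∀ j, IsPrim k (y j)) :
    (zeroIdeal y).IsHopfIdeal k := by
  let J := zeroIdeal y
  let π : A →ₐ[k] A ⧸ J := Ideal.Quotient.mkₐ k J
  let q : A →ₗ[k] A ⧸ (J.restrictScalars k) := (J.restrictScalars k).mkQ
  have hgen : ∀ {P : A → Prop}, (∀ a j, P (a * y j)) → P 0 → (∀ a b, P a → P b → P (a + b)) → ∀ t ∈ J, P t := by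
    intro P h1 h2 h3 t ht
    have : ∀ a, P (a * t) := by
      induction ht using Submodule.span_induction with
      | mem t ht => obtain ⟨j, rfl⟩ := ht; exact fun a => h1 a j
      | zero => intro a; rwa [mul_zero]
      | add s t _ _ hs ht => intro a; rw [mul_add]; exact h3 _ _ (hs a) (ht a)
      | smul c t _ ht => intro a; rw [smul_eq_mul, ← mul_assoc]; exact ht _
    simpa using this 1
  refine { counit_eq_zero := ?_, map_mkQ_comul_eq_zero := ?_, antipode_mem := ?_ }
  · exact hgen (fun a j => by rw [Bialgebra.counit_mul, (hy j).counit_eq_zero, mul_zero]) (map_zero _)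
      (fun a b ha hb => by rw [map_add, ha, hb, add_zero])
  · have hq : ∀ u : A ⊗[k] A, TensorProduct.map π.toLinearMap π.toLinearMap u = 0 →
        TensorProduct.map q q u = 0 := fun u hu => hu
    have key : ∀ t ∈ J, Algebra.TensorProduct.map π π (comul (R := k) t) = 0 := by
      refine hgen (fun a j => ?_) (by simp) (fun a b ha hb => by rw [map_add, map_add, ha, hb, add_zero])
      have hz : π (y j) = 0 := Ideal.Quotient.eq_zero_iff_mem.2 (Ideal.subset_span ⟨j, rfl⟩)
      rw [Bialgebra.comul_mul, map_mul, show comul (R := k) (y j) = _ from hy j, map_add,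
        Algebra.TensorProduct.map_tmul, Algebra.TensorProduct.map_tmul, hz, TensorProduct.zero_tmul,
        TensorProduct.tmul_zero, add_zero, mul_zero]
    intro t ht
    exact hq _ (key t ht)
  · refine hgen (fun a j => ?_) (by simp) (fun a b ha hb => by rw [map_add]; exact add_mem ha hb)
    have : HopfAlgebra.antipode k (a * y j) = HopfAlgebra.antipode k a * -(y j) := by
      rw [← antipode_prim (hy j)]
      exact map_mul (HopfAlgebra.antipodeAlgHom k A) a (y j)
    rw [this]
    exact Ideal.mul_mem_left _ _ (neg_mem (Ideal.subset_span ⟨j, rfl⟩))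

/-- The map from the symmetric algebra given by some elements. -/
abbrev symLift {r : ℕ} (y : Fin r → A) : SymmetricAlgebra k (Fin r → k) →ₐ[k] A :=
  SymmetricAlgebra.lift (Fintype.linearCombination k y)

theorem symLift_ι {r : ℕ} (y : Fin r → A) (j : Fin r) :
    symLift (k := k) y (SymmetricAlgebra.ι k _ (Pi.single j 1)) = y j := by
  simp [symLift, Fintype.linearCombination_apply_single]

theorem symExt {r : ℕ} {B : Type u} [CommRing B] [Algebra k B] {f g : SymmetricAlgebra k (Fin r → k) →ₐ[k] B}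
    (h : ∀ j, f (SymmetricAlgebra.ι k _ (Pi.single j 1)) = g (SymmetricAlgebra.ι k _ (Pi.single j 1))) : f = g :=
  SymmetricAlgebra.algHom_ext (LinearMap.pi_ext' fun j => LinearMap.ext_ring (h j))

/-- The decomposition map. -/
abbrev splitMap {r : ℕ} (y : Fin r → A) (s : A →ₐ[k] SymmetricAlgebra k (Fin r → k)) :
    A →ₐ[k] SymmetricAlgebra k (Fin r → k) ⊗[k] (A ⧸ zeroIdeal y) :=
  (Algebra.TensorProduct.map s (Ideal.Quotient.mkₐ k (zeroIdeal y))).comp (Bialgebra.comulAlgHom k A)

/-- The projection killing the chosen elements. -/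
abbrev splitProj {r : ℕ} (y : Fin r → A) (s : A →ₐ[k] SymmetricAlgebra k (Fin r → k)) : A →ₐ[k] A :=
  (Algebra.TensorProduct.productMap (AlgHom.id k A)
    (((symLift y).comp s).comp (HopfAlgebra.antipodeAlgHom k A))).comp (Bialgebra.comulAlgHom k A)

theorem splitProj_prim {r : ℕ} (y : Fin r → A) (s : A →ₐ[k] SymmetricAlgebra k (Fin r → k)) {a : A}
    (ha : IsPrim k a) : splitProj y s a = a - symLift y (s a) := by
  have ha' : Bialgebra.comulAlgHom k A a = a ⊗ₜ[k] (1 : A) + (1 : A) ⊗ₜ[k] a := ha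
  simp only [splitProj, AlgHom.comp_apply, ha', map_add, Algebra.TensorProduct.productMap_apply_tmul, map_one,
    mul_one, one_mul, AlgHom.id_apply, HopfAlgebra.antipodeAlgHom_apply, antipode_prim ha, map_neg]
  abel

theorem zeroIdeal_le_ker_splitProj {r : ℕ} {y : Fin r → A} (hy : ∀ j, IsPrim k (y j))
    {s : A →ₐ[k] SymmetricAlgebra k (Fin r → k)} (hs : ∀ j, s (y j) = SymmetricAlgebra.ι k _ (Pi.single j 1)) :
    zeroIdeal y ≤ RingHom.ker (splitProj y s) := by
  refine Ideal.span_le.2 ?_
  rintro _ ⟨j, rfl⟩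
  show splitProj y s (y j) = 0
  rw [splitProj_prim _ _ (hy j), hs, symLift_ι, sub_self]

/-- The section of the projection to the complement. -/
abbrev splitSec {r : ℕ} {y : Fin r → A} (hy : ∀ j, IsPrim k (y j))
    {s : A →ₐ[k] SymmetricAlgebra k (Fin r → k)} (hs : ∀ j, s (y j) = SymmetricAlgebra.ι k _ (Pi.single j 1)) :
    A ⧸ zeroIdeal y →ₐ[k] A :=
  Ideal.Quotient.liftₐ (zeroIdeal y) (splitProj y s) fun _ ha => zeroIdeal_le_ker_splitProj hy hs ha

theorem mk_splitSec {r : ℕ} {y : Fin r → A} (hy : ∀ j, IsPrim k (y j))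
    {s : A →ₐ[k] SymmetricAlgebra k (Fin r → k)} (hs : ∀ j, s (y j) = SymmetricAlgebra.ι k _ (Pi.single j 1))
    {n : ℕ} {x : Fin n → A} (hx : ∀ i, IsPrim k (x i)) (hgen : Algebra.adjoin k (Set.range x) = ⊤)
    (hs0 : ∀ i, SymmetricAlgebra.algebraMapInv (s (x i)) = 0) :
    (Ideal.Quotient.mkₐ k (zeroIdeal y)).comp (splitSec hy hs) = AlgHom.id k _ := by
  refine Ideal.Quotient.algHom_ext k (AlgHom.ext_of_adjoin_eq_top hgen ?_)
  rintro _ ⟨i, rfl⟩
  show Ideal.Quotient.mkₐ k (zeroIdeal y) (splitProj y s (x i)) = Ideal.Quotient.mkₐ k (zeroIdeal y) (x i)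
  rw [splitProj_prim _ _ (hx i), map_sub, sub_eq_self]
  have h : (Ideal.Quotient.mkₐ k (zeroIdeal y)).comp (symLift (k := k) y) =
      (Algebra.ofId k _).comp (SymmetricAlgebra.algebraMapInv) := symExt fun j => by
    rw [AlgHom.comp_apply, AlgHom.comp_apply, symLift_ι, SymmetricAlgebra.algebraMapInv_ι, map_zero]
    exact Ideal.Quotient.eq_zero_iff_mem.2 (Ideal.subset_span ⟨j, rfl⟩)
  rw [← AlgHom.comp_apply, h, AlgHom.comp_apply, hs0, map_zero]

theorem bijective_splitMap {r : ℕ} {y : Fin r → A} (hy : ∀ j, IsPrim k (y j))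
    {s : A →ₐ[k] SymmetricAlgebra k (Fin r → k)} (hs : ∀ j, s (y j) = SymmetricAlgebra.ι k _ (Pi.single j 1))
    {n : ℕ} {x : Fin n → A} (hx : ∀ i, IsPrim k (x i)) (hgen : Algebra.adjoin k (Set.range x) = ⊤) :
    Function.Bijective (splitMap y s) := by
  let q : A →ₐ[k] A ⧸ zeroIdeal y := Ideal.Quotient.mkₐ k (zeroIdeal y)
  let Ψ := Algebra.TensorProduct.productMap (symLift (k := k) y) (splitSec hy hs)
  have hΦ : ∀ {a : A}, IsPrim k a → splitMap y s a = s a ⊗ₜ 1 + 1 ⊗ₜ q a := fun {a} ha => by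
    have ha' : Bialgebra.comulAlgHom k A a = a ⊗ₜ[k] (1 : A) + (1 : A) ⊗ₜ[k] a := ha
    simp [splitMap, ha', q]
  have hl : (splitMap y s).comp (symLift y) = Algebra.TensorProduct.includeLeft := symExt fun j => by
    rw [AlgHom.comp_apply, symLift_ι, hΦ (hy j), hs,
      show q (y j) = 0 from Ideal.Quotient.eq_zero_iff_mem.2 (Ideal.subset_span ⟨j, rfl⟩), TensorProduct.tmul_zero,
      add_zero]
    rfl
  have h1 : Ψ.comp (splitMap y s) = AlgHom.id k A := by
    refine AlgHom.ext_of_adjoin_eq_top hgen ?_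
    rintro _ ⟨i, rfl⟩
    rw [AlgHom.comp_apply, hΦ (hx i), map_add, Algebra.TensorProduct.productMap_apply_tmul,
      Algebra.TensorProduct.productMap_apply_tmul, map_one, map_one, mul_one, one_mul, AlgHom.id_apply]
    show symLift y (s (x i)) + splitProj y s (x i) = x i
    rw [splitProj_prim _ _ (hx i), add_sub_cancel]
  have h2 : (splitMap y s).comp Ψ = AlgHom.id k _ := by
    have hr : (splitMap y s).comp (splitSec hy hs) = Algebra.TensorProduct.includeRight := by
      refine Ideal.Quotient.algHom_ext k (AlgHom.ext_of_adjoin_eq_top hgen ?_)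
      rintro _ ⟨i, rfl⟩
      show splitMap y s (splitProj y s (x i)) = 1 ⊗ₜ q (x i)
      rw [splitProj_prim _ _ (hx i), map_sub, hΦ (hx i), ← AlgHom.comp_apply, hl]
      exact add_sub_cancel_left _ _
    refine Algebra.TensorProduct.ext ?_ ?_
    · refine Eq.trans ?_ hl
      ext z
      simp [Ψ]
    · refine Eq.trans ?_ hr
      ext z
      simp [Ψ]
  exact ⟨Function.LeftInverse.injective (fun a => DFunLike.congr_fun h1 a),
    Function.RightInverse.surjective (fun a => DFunLike.congr_fun h2 a)⟩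

end Groth.Agent.VecGrp
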