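import Groth.Agent.VecGrpLib.PerfectAlg
import Groth.Agent.VecGrpLib.Split
import Mathlib.FieldTheory.PurelyInseparable.PerfectClosure
import Mathlib.FieldTheory.IntermediateField.Adjoin.Basic

/-!
Splitting primitive generators into a wound part and an independent part.
-/

set_option autoImplicit false
set_option maxHeartbeats 1000000
set_option linter.style.haveILetI false
set_option linter.unusedSectionVars false

noncomputable section

universe u

open scoped TensorProduct

namespace Groth.Agent.VecGrp

variable {k : Type u} [Field k]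

/-- An element constant along every line over the extension. -/
def Wd (K : Type u) [Field K] [Algebra k K] {A : Type u} [CommRing A] [Algebra k A] (a : A) : Prop :=
  ∀ ρ : A →ₐ[k] Polynomial K, ∃ c : K, ρ a = Polynomial.C c

theorem Wd.of_adjoin {K : Type u} [Field K] [Algebra k K] {A : Type u} [CommRing A] [Algebra k A] {S : Set A}
    (hS : ∀ a ∈ S, Wd (k := k) K a) {a : A} (ha : a ∈ Algebra.adjoin k S) : Wd (k := k) K a := by
  intro ρ
  induction ha using Algebra.adjoin_induction with
  | mem t ht => exact hS t ht ρ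
  | algebraMap r => exact ⟨algebraMap k K r, by rw [AlgHom.commutes]; rfl⟩
  | add s t _ _ hs ht =>
    obtain ⟨c, hc⟩ := hs
    obtain ⟨d, hd⟩ := ht
    exact ⟨c + d, by rw [map_add, hc, hd, map_add]⟩
  | mul s t _ _ hs ht =>
    obtain ⟨c, hc⟩ := hs
    obtain ⟨d, hd⟩ := ht
    exact ⟨c * d, by rw [map_mul, hc, hd, map_mul]⟩

/-- Additive forms without zeros keep that property in separable extensions. -/
theorem exists_zero_of_ext (p : ℕ) [hp : Fact p.Prime] [CharP k p] (K : Type u) [Field K] [Algebra k K]
    [Algebra.IsSeparable k K] {ι : Type} [Fintype ι] (a : ι → k) (m : ι → ℕ) (v : ι → K)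
    {i₁ : ι} (hv : v i₁ ≠ 0) (h : ∑ i, algebraMap k K (a i) * v i ^ p ^ m i = 0) :
    ∃ u : ι → k, u ≠ 0 ∧ (∀ i, v i = 0 → u i = 0) ∧ ∑ i, a i * u i ^ p ^ m i = 0 := by
  classical
  haveI : ExpChar k p := ExpChar.prime hp.out
  let L := IntermediateField.adjoin k (Set.range v)
  haveI : FiniteDimensional k L :=
    IntermediateField.finiteDimensional_adjoin fun x _ => Algebra.IsIntegral.isIntegral x
  haveI : Algebra.IsSeparable k L := inferInstance
  let v' : ι → L := fun i => ⟨v i, IntermediateField.subset_adjoin k _ ⟨i, rfl⟩⟩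
  let e := Module.finBasis k L
  let M := Finset.univ.sup m
  have hM : ∀ i, m i ≤ M := fun i => Finset.le_sup (Finset.mem_univ i)
  have hlam : ∀ i, ∃ l : Fin (Module.finrank k L) → k, (∑ b, l b • e b ^ p ^ (M - m i) = v' i) ∧ (v i = 0 → l = 0) := by
    intro i
    by_cases h0 : v i = 0
    · exact ⟨0, by simp only [Pi.zero_apply, zero_smul, Finset.sum_const_zero]; exact (Subtype.ext h0).symm, fun _ => rfl⟩
    · have hspan := Field.span_map_pow_expChar_pow_eq_top_of_isSeparable p (M - m i) e.span_eq
      obtain ⟨l, hl⟩ := (Submodule.mem_span_range_iff_exists_fun k).1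
        (show v' i ∈ Submodule.span k (Set.range fun b => e b ^ p ^ (M - m i)) from hspan ▸ trivial)
      exact ⟨l, hl, fun h => absurd h h0⟩
  choose l hl hl0 using hlam
  have hpow : ∀ i, v' i ^ p ^ m i = ∑ b, (l i b) ^ p ^ m i • e b ^ p ^ M := by
    intro i
    haveI : CharP L p := charP_of_injective_algebraMap (algebraMap k L).injective p
    rw [← hl i, sum_pow_char_pow]
    refine Finset.sum_congr rfl fun b _ => ?_
    rw [smul_pow, ← pow_mul, ← pow_add, Nat.sub_add_cancel (hM i)]
  have h' : ∑ i, algebraMap k L (a i) * v' i ^ p ^ m i = 0 := by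
    apply (algebraMap L K).injective
    simp only [map_sum, map_mul, map_pow, map_zero, ← IsScalarTower.algebraMap_apply]
    exact h
  have hb : ∀ b, ∑ i, a i * (l i b) ^ p ^ m i = 0 := by
    have hli : LinearIndependent k fun b => e b ^ p ^ M := e.linearIndependent.map_pow_expChar_pow_of_isSeparable p M
    refine Fintype.linearIndependent_iff.1 hli _ ?_
    rw [← h']
    simp only [hpow, Finset.mul_sum, Finset.sum_smul, ← Algebra.smul_def, smul_smul]
    exact Finset.sum_comm
  have hne : l i₁ ≠ 0 := fun h0 => hv (by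
    have := hl i₁
    rw [h0] at this
    simp only [Pi.zero_apply, zero_smul, Finset.sum_const_zero] at this
    exact congrArg Subtype.val this.symm)
  obtain ⟨b, hb'⟩ := Function.ne_iff.1 hne
  exact ⟨fun i => l i b, fun h0 => hb' (congrFun h0 i₁), fun i hi => by simp [hl0 i hi], hb b⟩

variable {A : Type u} [CommRing A] [HopfAlgebra k A]

theorem coeff_pow_expChar {K : Type u} [Field K] (p : ℕ) [hp : Fact p.Prime] [CharP K p] (P : Polynomial K)
    (j D : ℕ) (hD : P.natDegree * p ^ j ≤ D) :
    (P ^ p ^ j).coeff D = if P.natDegree * p ^ j = D then P.leadingCoeff ^ p ^ j else 0 := by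
  split_ifs with h
  · rw [← h, mul_comm, Polynomial.coeff_pow_mul_natDegree]
  · refine Polynomial.coeff_eq_zero_of_natDegree_lt ?_
    rw [Polynomial.natDegree_pow, mul_comm]
    omega

/-- If the principal part of a relation has no zeros, its variables are wound. -/
theorem wd_of_principal (p : ℕ) [hp : Fact p.Prime] [CharP k p] (K : Type u) [Field K] [Algebra k K]
    [Algebra.IsSeparable k K] {m r : ℕ} {w : Fin m → A} (hw : ∀ l, Wd (k := k) K (w l)) {y : Fin r → A}
    {cw : Fin m → Polynomial k} {cy : Fin r → Polynomial k}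
    (hc : ∑ l, pev p (w l) (cw l) + ∑ j, pev p (y j) (cy j) = 0)
    (hzero : ∀ u : Fin r → k, u ≠ 0 → (∀ j, cy j = 0 → u j = 0) →
      ∑ j, (cy j).leadingCoeff * u j ^ p ^ (cy j).natDegree ≠ 0)
    {i : Fin r} (hi : cy i ≠ 0) : Wd (k := k) K (y i) := by
  classical
  intro ρ
  haveI : CharP K p := charP_of_injective_algebraMap (algebraMap k K).injective p
  let S := Finset.univ.filter fun j => cy j ≠ 0
  let P : Fin r → Polynomial K := fun j => ρ (y j)
  let D := S.sup fun j => (P j).natDegree * p ^ (cy j).natDegree
  rcases Nat.eq_zero_or_pos D with hD | hD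
  · refine ⟨(P i).coeff 0, Polynomial.eq_C_of_natDegree_le_zero ?_⟩
    have h1 : (P i).natDegree * p ^ (cy i).natDegree ≤ D :=
      Finset.le_sup (f := fun j => (P j).natDegree * p ^ (cy j).natDegree) (by simp [S, hi])
    rw [hD, Nat.le_zero, mul_eq_zero] at h1
    exact (h1.resolve_right (pow_ne_zero _ hp.out.ne_zero)).le
  exfalso
  let u : Fin r → K := fun j =>
    if cy j ≠ 0 ∧ (P j).natDegree * p ^ (cy j).natDegree = D then (P j).leadingCoeff else 0
  obtain ⟨j₀, hj₀, hj₀D⟩ := Finset.exists_mem_eq_sup S ⟨i, by simp [S, hi]⟩ fun j => (P j).natDegree * p ^ (cy j).natDegree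
  simp only [S, Finset.mem_filter, Finset.mem_univ, true_and] at hj₀
  have hu : u j₀ ≠ 0 := by
    rw [show u j₀ = (P j₀).leadingCoeff from if_pos ⟨hj₀, hj₀D.symm⟩]
    refine Polynomial.leadingCoeff_ne_zero.2 fun h0 => hD.ne' (show D = 0 from ?_)
    show S.sup _ = 0
    rw [hj₀D, h0, Polynomial.natDegree_zero, zero_mul]
  have hterm : ∀ j, (pev p (P j) (cy j)).coeff D =
      algebraMap k K (cy j).leadingCoeff * u j ^ p ^ (cy j).natDegree := by
    intro j
    by_cases hj : cy j = 0
    · simp [hj]
    have hjD : (P j).natDegree * p ^ (cy j).natDegree ≤ D :=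
      Finset.le_sup (f := fun j => (P j).natDegree * p ^ (cy j).natDegree) (by simp [S, hj])
    rw [(cy j).as_sum_range' ((cy j).natDegree + 1) (Nat.lt_succ_self _), map_sum]
    simp only [pev_monomial, Polynomial.finsetSum_coeff, Polynomial.coeff_smul]
    rw [Finset.sum_range_succ, Finset.sum_eq_zero, zero_add, ← (cy j).as_sum_range' ((cy j).natDegree + 1) (Nat.lt_succ_self _),
      coeff_pow_expChar p _ _ _ hjD, Algebra.smul_def]
    · simp only [u, hj, ne_eq, not_false_eq_true, true_and]
      split_ifs with h
      · rfl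
      · rw [zero_pow (pow_ne_zero _ hp.out.ne_zero)]; rfl
    · intro l hl
      rw [Finset.mem_range] at hl
      have hlt : p ^ l < p ^ (cy j).natDegree := Nat.pow_lt_pow_right hp.out.one_lt hl
      have hle : (P j).natDegree * p ^ l ≤ D := (Nat.mul_le_mul_left _ hlt.le).trans hjD
      rw [coeff_pow_expChar p _ _ _ hle, if_neg, smul_zero]
      intro h
      rcases Nat.eq_zero_or_pos (P j).natDegree with h0 | h0
      · rw [h0, zero_mul] at h; omega
      · have := Nat.mul_lt_mul_of_pos_left hlt h0
        omega
  have hsum : ∑ j, algebraMap k K (cy j).leadingCoeff * u j ^ p ^ (cy j).natDegree = 0 := by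
    have h := congrArg (fun t => (ρ t).coeff D) hc
    simp only [map_add, map_sum, pev_algHom, map_zero, Polynomial.coeff_add, Polynomial.finsetSum_coeff,
      Polynomial.coeff_zero] at h
    rw [Finset.sum_eq_zero (fun l _ => ?_), zero_add] at h
    · simpa only [← hterm] using h
    · obtain ⟨c, hc'⟩ := hw l ρ
      rw [hc', show Polynomial.C c = (Algebra.ofId K (Polynomial K)).restrictScalars k c from rfl, ← pev_algHom]
      show (Polynomial.C _).coeff D = 0
      rw [Polynomial.coeff_C, if_neg hD.ne']
  obtain ⟨u', hu', hu'0, hu's⟩ := exists_zero_of_ext p K _ _ u hu hsum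
  exact hzero u' hu' (fun j hj => hu'0 j (by simp [u, hj])) hu's

/-- The reduction: primitive generators split into wound ones and independent ones. -/
theorem exists_wound_split (p : ℕ) [hp : Fact p.Prime] [CharP k p] (K : Type u) [Field K] [Algebra k K]
    [Algebra.IsSeparable k K] : ∀ (r m : ℕ) (w : Fin m → A) (y : Fin r → A), (∀ l, IsPrim k (w l)) →
      (∀ l, Wd (k := k) K (w l)) → (∀ j, IsPrim k (y j)) → Algebra.adjoin k (Set.range w ∪ Set.range y) = ⊤ →
      ∃ (r' m' : ℕ) (w' : Fin m' → A) (y' : Fin r' → A), (∀ l, IsPrim k (w' l)) ∧ (∀ l, Wd (k := k) K (w' l)) ∧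
        (∀ j, IsPrim k (y' j)) ∧ Algebra.adjoin k (Set.range w' ∪ Set.range y') = ⊤ ∧
        ∀ (cw : Fin m' → Polynomial k) (cy : Fin r' → Polynomial k), ∑ l, pev p (w' l) (cw l) + ∑ j, pev p (y' j) (cy j) = 0 → cy = 0 := by
  classical
  intro r
  induction r with
  | zero => exact fun m w y hw hwd hy hgen => ⟨0, m, w, y, hw, hwd, hy, hgen, fun cw cy _ => funext fun i => i.elim0⟩
  | succ r ih =>
    intro m w
    suffices h : ∀ (N : ℕ) (y : Fin (r + 1) → A) (cw : Fin m → Polynomial k) (cy : Fin (r + 1) → Polynomial k),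
        (∀ l, IsPrim k (w l)) → (∀ l, Wd (k := k) K (w l)) → (∀ j, IsPrim k (y j)) →
        Algebra.adjoin k (Set.range w ∪ Set.range y) = ⊤ → cy ≠ 0 →
        ∑ l, pev p (w l) (cw l) + ∑ j, pev p (y j) (cy j) = 0 →
        ∑ i, (if cy i = 0 then 0 else (cy i).natDegree + 1) = N →
        ∃ (r' m' : ℕ) (w' : Fin m' → A) (y' : Fin r' → A), (∀ l, IsPrim k (w' l)) ∧ (∀ l, Wd (k := k) K (w' l)) ∧
          (∀ j, IsPrim k (y' j)) ∧ Algebra.adjoin k (Set.range w' ∪ Set.range y') = ⊤ ∧
          ∀ (cw : Fin m' → Polynomial k) (cy : Fin r' → Polynomial k), ∑ l, pev p (w' l) (cw l) + ∑ j, pev p (y' j) (cy j) = 0 → cy = 0 by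
      intro y hw hwd hy hgen
      by_cases hind : ∀ (cw : Fin m → Polynomial k) (cy : Fin (r + 1) → Polynomial k), ∑ l, pev p (w l) (cw l) + ∑ j, pev p (y j) (cy j) = 0 → cy = 0
      · exact ⟨_, m, w, y, hw, hwd, hy, hgen, hind⟩
      · push Not at hind
        obtain ⟨cw, cy, hrel, hcy⟩ := hind
        exact h _ y cw cy hw hwd hy hgen hcy hrel rfl
    intro N
    induction N using Nat.strongRecOn with
    | _ N ihN =>
      intro y cw cy hw hwd hy hgen hcy hrel hN
      by_cases hz : ∃ v : Fin (r + 1) → k, v ≠ 0 ∧ (∀ j, cy j = 0 → v j = 0) ∧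
          ∑ j, (cy j).leadingCoeff * v j ^ p ^ (cy j).natDegree = 0
      · obtain ⟨v, hv, hvs, hv0⟩ := hz
        obtain ⟨i, hi, hmax⟩ := Finset.exists_max_image (Finset.univ.filter fun j => v j ≠ 0) (fun j => (cy j).natDegree) (by
          obtain ⟨j, hj⟩ := Function.ne_iff.1 hv
          exact ⟨j, by simpa using hj⟩)
        rw [Finset.mem_filter] at hi
        have hci : cy i ≠ 0 := fun h => hi.2 (hvs i h)
        set mi := (cy i).natDegree with hmi
        let δ : Fin (r + 1) → ℕ := fun j => mi - (cy j).natDegree
        let γ : Fin (r + 1) → k := fun j => if j = i then 0 else v j / v i ^ p ^ δ j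
        let y' : Fin (r + 1) → A := fun j => y j - γ j • y i ^ p ^ δ j
        let cy' : Fin (r + 1) → Polynomial k := fun j =>
          if j = i then cy i + ∑ l, twist p (γ l) (δ l) (cy l) else cy j
        have hy'i : y' i = y i := by simp [y', γ]
        have hcy'i : cy' i = cy i + ∑ l, twist p (γ l) (δ l) (cy l) := by simp [cy']
        have hy' : ∀ j, IsPrim k (y' j) := fun j => (hy j).sub (((hy i).pow p _).smul _)
        have hgen' : Algebra.adjoin k (Set.range w ∪ Set.range y') = ⊤ := by
          refine eq_top_iff.2 (hgen ▸ Algebra.adjoin_le ?_)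
          rintro _ (⟨l, rfl⟩ | ⟨j, rfl⟩)
          · exact Algebra.subset_adjoin (Or.inl ⟨l, rfl⟩)
          · rw [show y j = y' j + γ j • y' i ^ p ^ δ j by rw [hy'i]; simp [y']]
            exact add_mem (Algebra.subset_adjoin (Or.inr ⟨j, rfl⟩))
              (Subalgebra.smul_mem _ (pow_mem (Algebra.subset_adjoin (R := k) (s := Set.range w ∪ Set.range y') (Or.inr ⟨i, rfl⟩)) _) _)
        have hrel' : ∑ l, pev p (w l) (cw l) + ∑ j, pev p (y' j) (cy' j) = 0 := by
          have hfun : ∀ j, pev p (y' j) (cy' j) = pev p (y j) (cy j) - pev p (y i) (twist p (γ j) (δ j) (cy j)) +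
              (if j = i then ∑ l, pev p (y i) (twist p (γ l) (δ l) (cy l)) else 0) := fun j => by
            have h1 : pev p (y' j) (cy j) = pev p (y j) (cy j) - pev p (y i) (twist p (γ j) (δ j) (cy j)) := by
              simp only [y']
              rw [sub_eq_add_neg, pev_add, pev_neg, pev_twist, sub_eq_add_neg]
            by_cases hj : j = i
            · subst hj
              rw [hcy'i, if_pos rfl, map_add, map_sum, h1]
              congr 1
              exact Finset.sum_congr rfl fun l _ => by rw [hy'i]
            · simp only [cy', if_neg hj, h1, add_zero]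
          rw [Finset.sum_congr rfl fun j _ => hfun j, Finset.sum_add_distrib, Finset.sum_sub_distrib,
            Finset.sum_ite_eq' _ i, if_pos (Finset.mem_univ i), sub_add_cancel]
          exact hrel
        have hle : ∀ j, v j ≠ 0 → (cy j).natDegree ≤ mi := fun j hj => hmax j (by simp [hj])
        have hcoeff : (cy' i).coeff mi = 0 := by
          rw [hcy'i, Polynomial.coeff_add, Polynomial.finsetSum_coeff]
          have hvi : v i ^ p ^ mi ≠ 0 := pow_ne_zero _ hi.2
          refine (mul_eq_zero.1 (?_ : v i ^ p ^ mi * _ = 0)).resolve_left hvi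
          rw [mul_add, Finset.mul_sum, ← hv0, ← Finset.add_sum_erase _ _ (Finset.mem_univ i),
            ← Finset.add_sum_erase _ (fun j => (cy j).leadingCoeff * v j ^ p ^ (cy j).natDegree) (Finset.mem_univ i)]
          have hii : twist p (γ i) (δ i) (cy i) = twist p 0 0 (cy i) := by simp [γ, δ, mi]
          rw [hii, twist_coeff, zero_pow (pow_ne_zero _ hp.out.ne_zero), zero_mul, mul_zero, zero_add, mul_comm,
            show (cy i).leadingCoeff = (cy i).coeff mi from rfl]
          congr 1
          refine Finset.sum_congr rfl fun j hj => ?_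
          by_cases hvj : v j = 0
          · have hγ : γ j = 0 := by simp [γ, hvj]
            have ht : twist p (γ j) (δ j) (cy j) = 0 := by
              rw [hγ, (cy j).as_sum_support, map_sum]
              exact Finset.sum_eq_zero fun l _ => by
                rw [twist_monomial, zero_pow (pow_ne_zero _ hp.out.ne_zero), zero_mul, map_zero]
            rw [ht, hvj, Polynomial.coeff_zero, mul_zero, zero_pow (pow_ne_zero _ hp.out.ne_zero), mul_zero]
          · have hmj := hle j hvj
            conv_lhs => arg 2; rw [show mi = (cy j).natDegree + δ j by simp [δ]; omega]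
            rw [twist_coeff_add]
            simp only [γ, if_neg (Finset.ne_of_mem_erase hj), div_pow, ← pow_mul, ← pow_add]
            rw [show δ j + (cy j).natDegree = mi by simp [δ]; omega, Polynomial.leadingCoeff]
            field_simp
        have hdeg : (cy' i).natDegree ≤ mi := by
          rw [hcy'i]
          refine (Polynomial.natDegree_add_le _ _).trans (max_le le_rfl (Polynomial.natDegree_sum_le_of_forall_le _ _ fun j _ => ?_))
          by_cases hvj : γ j = 0
          · have ht : twist p (γ j) (δ j) (cy j) = 0 := by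
              rw [hvj, (cy j).as_sum_support, map_sum]
              exact Finset.sum_eq_zero fun l _ => by
                rw [twist_monomial, zero_pow (pow_ne_zero _ hp.out.ne_zero), zero_mul, map_zero]
            simp [ht]
          · refine (natDegree_twist_le p _ _ _).trans ?_
            have : v j ≠ 0 := fun h => hvj (by simp [γ, h])
            have := hle j this
            simp only [δ]
            omega
        have hdec : (if cy' i = 0 then 0 else (cy' i).natDegree + 1) < mi + 1 := by
          split_ifs with h0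
          · omega
          · have : (cy' i).natDegree ≠ mi := fun heq => h0 (Polynomial.leadingCoeff_eq_zero.1 (by
              rw [Polynomial.leadingCoeff, heq, hcoeff]))
            omega
        obtain ⟨j, hji, hvj⟩ : ∃ j, j ≠ i ∧ v j ≠ 0 := by
          by_contra! h
          rw [Finset.sum_eq_single i (fun j _ hj => by rw [h j hj, zero_pow (pow_ne_zero _ hp.out.ne_zero), mul_zero])
            (by simp)] at hv0
          exact mul_ne_zero (Polynomial.leadingCoeff_ne_zero.2 hci) (pow_ne_zero _ hi.2) hv0
        refine ihN _ ?_ y' cw cy' hw hwd hy' hgen' (fun h0 => hvj (hvs j ?_)) hrel' rfl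
        · rw [← hN]
          refine Finset.sum_lt_sum (fun l _ => ?_) ⟨i, Finset.mem_univ i, by rw [if_neg hci]; exact hdec⟩
          by_cases hli : l = i
          · subst hli; rw [if_neg hci]; exact hdec.le
          · simp [cy', if_neg hli]
        · have := congrFun h0 j
          simpa [cy', hji] using this
      · push Not at hz
        obtain ⟨i, hi⟩ := Function.ne_iff.1 hcy
        have hwi : Wd (k := k) K (y i) := wd_of_principal p K hwd hrel hz hi
        refine ih (m + 1) (Fin.snoc w (y i)) (fun j => y (i.succAbove j)) ?_ ?_ (fun j => hy _) ?_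
        · intro l
          induction l using Fin.lastCases with
          | last => simpa using hy i
          | cast l => simpa using hw l
        · intro l
          induction l using Fin.lastCases with
          | last => simpa using hwi
          | cast l => simpa using hwd l
        · refine eq_top_iff.2 (hgen ▸ Algebra.adjoin_le ?_)
          rintro _ (⟨l, rfl⟩ | ⟨j, rfl⟩)
          · exact Algebra.subset_adjoin (Or.inl ⟨l.castSucc, by simp⟩)
          · rcases Fin.eq_self_or_eq_succAbove i j with h | ⟨j', h⟩
            · exact Algebra.subset_adjoin (Or.inl ⟨Fin.last m, by simp [h]⟩)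
            · exact Algebra.subset_adjoin (Or.inr ⟨j', by rw [h]⟩)

/-- When no relation involves `y`, the elements `y` are coordinates of a retraction killing `w`. -/
theorem exists_retraction (p : ℕ) [hp : Fact p.Prime] [CharP k p] {m r : ℕ} (w : Fin m → A) (y : Fin r → A)
    (hw : ∀ l, IsPrim k (w l)) (hy : ∀ j, IsPrim k (y j))
    (hgen : Algebra.adjoin k (Set.range w ∪ Set.range y) = ⊤)
    (hind : ∀ (cw : Fin m → Polynomial k) (cy : Fin r → Polynomial k), ∑ l, pev p (w l) (cw l) + ∑ j, pev p (y j) (cy j) = 0 → cy = 0) :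
    ∃ s : A →ₐ[k] SymmetricAlgebra k (Fin r → k), (∀ l, s (w l) = 0) ∧
      ∀ j, s (y j) = SymmetricAlgebra.ι k _ (Pi.single j 1) := by
  classical
  haveI : Nontrivial A := (Bialgebra.counitAlgHom k A).toRingHom.domain_nontrivial
  let φ : (MvPolynomial (Fin m ⊕ Fin r) k) →ₐ[k] A := MvPolynomial.aeval (Sum.elim w y)
  let ev : (MvPolynomial (Fin m ⊕ Fin r) k) →ₐ[k] SymmetricAlgebra k (Fin r → k) :=
    MvPolynomial.aeval (Sum.elim (fun _ => 0) fun j => SymmetricAlgebra.ι k _ (Pi.single j 1))
  let L : (Fin m ⊕ Fin r →₀ ℕ) → (Fin m →₀ ℕ) := fun a => Finsupp.comapDomain Sum.inl a Sum.inl_injective.injOn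
  let R' : (Fin m ⊕ Fin r →₀ ℕ) → (Fin r →₀ ℕ) := fun a => Finsupp.comapDomain Sum.inr a Sum.inr_injective.injOn
  let T : Set (Fin m ⊕ Fin r →₀ ℕ) := {a | L a ∈ std k w}
  have hT : ∀ a b, a + b ∈ T → a ∈ T := fun a b h => std_closed w (L a) (L b) (by
    have e : L (a + b) = L a + L b := by ext i; simp [L]
    rw [← e]; exact h)
  have hTind : ∀ f : (MvPolynomial (Fin m ⊕ Fin r) k), ↑f.support ⊆ T → φ f = 0 → f = 0 := by
    intro f hf hfx
    by_contra h0
    obtain ⟨c, hc0, hcT, hc⟩ := exists_relation_in p (Sum.elim w y) (fun o => by rcases o with l | j; exacts [hw l, hy j])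
      T hT h0 hf hfx
    rw [Fintype.sum_sum_type] at hc
    simp only [Sum.elim_inl, Sum.elim_inr] at hc
    have hy0 := hind (fun l => c (Sum.inl l)) (fun j => c (Sum.inr j)) hc
    let P : MvPolynomial (Fin m) k := ∑ l, pev p (MvPolynomial.X l : MvPolynomial (Fin m) k) (c (Sum.inl l))
    have hPx : MvPolynomial.aeval w P = ∑ l, pev p (w l) (c (Sum.inl l)) := by
      simp only [P, map_sum, pev_algHom, MvPolynomial.aeval_X]
    have hPT : ↑P.support ⊆ std k w := by
      rw [← MvPolynomial.mem_restrictSupport_iff (R := k)]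
      refine sum_mem fun l _ => ?_
      rw [(c (Sum.inl l)).as_sum_support, map_sum]
      refine sum_mem fun t ht => ?_
      rw [pev_monomial, MvPolynomial.X_pow_eq_monomial]
      refine Submodule.smul_mem _ _ ((MvPolynomial.mem_restrictSupport_iff (R := k)).2 ?_)
      rw [MvPolynomial.support_monomial, if_neg one_ne_zero, Finset.coe_singleton, Set.singleton_subset_iff]
      have e : L (Finsupp.single (Sum.inl l) (p ^ t)) = Finsupp.single l (p ^ t) := by
        ext j; simp [L, Finsupp.single_apply]
      rw [← e]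
      exact hcT (Sum.inl l) t (Polynomial.mem_support_iff.1 ht)
    have hy0' : ∀ j, c (Sum.inr j) = 0 := fun j => congrFun hy0 j
    simp only [hy0', map_zero, Finset.sum_const_zero, add_zero] at hc
    have hP : P = 0 := eq_zero_of_std hPT (hPx.trans hc)
    have hw0 := eq_zero_of_relation p (MvPolynomial.algebraicIndependent_X (Fin m) k) (c := fun l => c (Sum.inl l)) hP
    refine hc0 (funext fun o => ?_)
    rcases o with l | j
    · exact congrFun hw0 l
    · exact hy0' j
  have hker : ∀ f : (MvPolynomial (Fin m ⊕ Fin r) k), φ f = 0 → ev f = 0 := by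
    intro f hf
    choose nf hnf hnfw using fun a : Fin m →₀ ℕ => exists_std w (MvPolynomial.monomial a (1 : k))
    let g : (MvPolynomial (Fin m ⊕ Fin r) k) := ∑ s ∈ f.support, f.coeff s •
      (MvPolynomial.rename Sum.inl (nf (L s)) * MvPolynomial.monomial (Finsupp.mapDomain Sum.inr (R' s)) 1)
    have hsplit : ∀ s : Fin m ⊕ Fin r →₀ ℕ, (MvPolynomial.monomial s (1 : k) : (MvPolynomial (Fin m ⊕ Fin r) k)) =
        MvPolynomial.rename Sum.inl (MvPolynomial.monomial (L s) (1 : k)) *
          MvPolynomial.monomial (Finsupp.mapDomain Sum.inr (R' s)) 1 := by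
      intro s
      rw [MvPolynomial.rename_monomial, MvPolynomial.monomial_mul, one_mul]
      refine congrArg (fun u => MvPolynomial.monomial u (1 : k)) (Finsupp.ext fun o => ?_)
      rcases o with l | j
      · rw [Finsupp.add_apply, Finsupp.mapDomain_apply Sum.inl_injective, Finsupp.mapDomain_notin_range _ _ (by simp),
          add_zero]
        simp [L]
      · rw [Finsupp.add_apply, Finsupp.mapDomain_apply Sum.inr_injective, Finsupp.mapDomain_notin_range _ _ (by simp),
          zero_add]
        simp [R']
    have hf' : f = ∑ s ∈ f.support, f.coeff s •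
        (MvPolynomial.rename Sum.inl (MvPolynomial.monomial (L s) (1 : k)) *
          MvPolynomial.monomial (Finsupp.mapDomain Sum.inr (R' s)) 1) := by
      conv_lhs => rw [f.as_sum]
      refine Finset.sum_congr rfl fun s _ => ?_
      rw [← hsplit, MvPolynomial.smul_monomial, smul_eq_mul, mul_one]
    have hφinl : φ.comp (MvPolynomial.rename Sum.inl) = MvPolynomial.aeval w :=
      MvPolynomial.algHom_ext fun l => by simp [φ]
    have hevinl : ev.comp (MvPolynomial.rename Sum.inl) =
        (Algebra.ofId k _).comp ((Bialgebra.counitAlgHom k A).comp (MvPolynomial.aeval w)) :=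
      MvPolynomial.algHom_ext fun l => by simp [ev, (hw l).counit_eq_zero]
    have hgφ : φ g = φ f := by
      conv_rhs => rw [hf']
      simp only [g, map_sum, map_smul, map_mul]
      refine Finset.sum_congr rfl fun s _ => ?_
      rw [← AlgHom.comp_apply φ, ← AlgHom.comp_apply φ, hφinl, hnfw]
    have hgev : ev g = ev f := by
      conv_rhs => rw [hf']
      simp only [g, map_sum, map_smul, map_mul]
      refine Finset.sum_congr rfl fun s _ => ?_
      rw [← AlgHom.comp_apply ev, ← AlgHom.comp_apply ev, hevinl]
      simp only [AlgHom.comp_apply, hnfw]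
    have hgT : ↑g.support ⊆ T := by
      rw [← MvPolynomial.mem_restrictSupport_iff (R := k)]
      refine sum_mem fun s _ => Submodule.smul_mem _ _ ((MvPolynomial.mem_restrictSupport_iff (R := k)).2 ?_)
      intro a ha
      have ha' := MvPolynomial.support_mul _ _ ha
      rw [Finset.mem_add] at ha'
      obtain ⟨a₁, ha₁, a₂, ha₂, rfl⟩ := ha'
      rw [MvPolynomial.support_rename_of_injective Sum.inl_injective, Finset.mem_image] at ha₁
      obtain ⟨a₁', ha₁', rfl⟩ := ha₁
      rw [MvPolynomial.support_monomial, if_neg one_ne_zero, Finset.mem_singleton] at ha₂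
      subst ha₂
      show L _ ∈ std k w
      convert hnf (L s) ha₁' using 1
      ext l
      simp only [L, Finsupp.comapDomain_apply, Finsupp.add_apply]
      rw [Finsupp.mapDomain_apply Sum.inl_injective, Finsupp.mapDomain_notin_range _ _ (by simp), add_zero]
    rw [← hgev, hTind g hgT (hgφ.trans hf), map_zero]
  have hsurj : Function.Surjective φ := by
    rw [← AlgHom.range_eq_top, ← Algebra.adjoin_range_eq_range_aeval, Set.Sum.elim_range]
    exact hgen
  let e := Ideal.quotientKerAlgEquivOfSurjective hsurj
  let s := (Ideal.Quotient.liftₐ (RingHom.ker φ) ev fun f hf => hker f hf).comp e.symm.toAlgHom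
  have hs : ∀ b, s (φ b) = ev b := by
    intro b
    show Ideal.Quotient.liftₐ (RingHom.ker φ) ev (fun f hf => hker f hf) (e.symm (φ b)) = ev b
    rw [show e.symm (φ b) = Ideal.Quotient.mk _ b from e.injective (by rw [AlgEquiv.apply_symm_apply]; rfl)]
    rfl
  refine ⟨s, fun l => ?_, fun j => ?_⟩
  · have := hs (MvPolynomial.X (Sum.inl l))
    simpa [φ, ev] using this
  · have := hs (MvPolynomial.X (Sum.inr j))
    simpa [φ, ev] using this

end Groth.Agent.VecGrp
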