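import Groth.Agent.VecGrpLib.Lines
import Groth.Agent.SemiAbLib.GaSpec

/-! Woundness over the separable closure, on schemes and on rings. -/

set_option autoImplicit false
set_option backward.isDefEq.respectTransparency false
set_option backward.isDefEq.respectTransparency.types false
set_option linter.style.haveILetI false
set_option maxHeartbeats 1000000
set_option synthInstance.maxHeartbeats 400000

noncomputable section

universe u

open CategoryTheory CategoryTheory.Limits MonoidalCategory CartesianMonoidalCategory AlgebraicGeometry CoactBr WithConv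
open scoped MonObj TensorProduct

namespace Groth.Agent.VecGrp

attribute [-instance] CategoryTheory.Hom.commGroup
attribute [local instance] CoactBr.braidedAlgSpecOf

variable {k : Type u} [Field k]

/-- The symmetric algebra in one variable as polynomials. -/
abbrev symPoly (K : Type u) [Field K] : SymmetricAlgebra K K →ₐ[K] Polynomial K :=
  SymmetricAlgebra.lift (LinearMap.toSpanSingleton K (Polynomial K) Polynomial.X)

/-- Polynomials as the symmetric algebra in one variable. -/
abbrev polySym (K : Type u) [Field K] : Polynomial K →ₐ[K] SymmetricAlgebra K K :=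
  Polynomial.aeval (SymmetricAlgebra.ι K K 1)

theorem polySym_symPoly (K : Type u) [Field K] : (polySym K).comp (symPoly K) = AlgHom.id K _ :=
  SymmetricAlgebra.algHom_ext (LinearMap.ext_ring (by simp [polySym, symPoly]))

theorem symPoly_polySym (K : Type u) [Field K] : (symPoly K).comp (polySym K) = AlgHom.id K _ :=
  Polynomial.algHom_ext (by simp [polySym, symPoly])

/-- Coordinate rings wound on lines give wound schemes. -/
theorem wound_of_wd (K : Type u) [Field K] [Algebra k K] {B : Type u} [CommRing B] [HopfAlgebra k B]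
    {W : Over (Spec (CommRingCat.of k))} (e : W ≅ sp k B) (hB : ∀ b : B, Wd (k := k) K b)
    (φ : Red.Ga (Spec (CommRingCat.of K)) ⟶ Red.bc (DiagRep.baseHom k K) W) :
    ∃ c : 𝟙_ (Over (Spec (CommRingCat.of K))) ⟶ Red.bc (DiagRep.baseHom k K) W, φ = toUnit _ ≫ c := by
  let E : Red.bc (DiagRep.baseHom k K) W ⟶ sp K (K ⊗[k] B) :=
    (Over.pullback (DiagRep.baseHom k K)).map e.hom ≫ DiagRep.bcHom k K B
  haveI : IsIso E := inferInstanceAs (IsIso (_ ≫ _))
  obtain ⟨ρ, hρ⟩ := DiagRep.exists_pt (SemiAbLib.toGa K ≫ φ ≫ E)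
  have hρ' : ρ = (Algebra.ofId K _).comp ((SymmetricAlgebra.algebraMapInv).comp ρ) := by
    refine Algebra.TensorProduct.ext (by ext) ?_
    ext b
    obtain ⟨c, hc⟩ := hB b (((symPoly K).comp ρ).restrictScalars k |>.comp Algebra.TensorProduct.includeRight)
    have hc' : ρ (1 ⊗ₜ b) = algebraMap K _ c := by
      have h1 := congrArg (polySym K) (hc : symPoly K (ρ (1 ⊗ₜ b)) = Polynomial.C c)
      refine (DFunLike.congr_fun (polySym_symPoly K) (ρ (1 ⊗ₜ b))).symm.trans ?_
      refine h1.trans ?_
      simp [polySym]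
    show ρ (1 ⊗ₜ b) = algebraMap K _ (SymmetricAlgebra.algebraMapInv (ρ (1 ⊗ₜ b)))
    rw [hc', AlgHom.commutes, Algebra.algebraMap_self, RingHom.id_apply]
  refine ⟨inv DiagRep.toBase ≫ pt ((SymmetricAlgebra.algebraMapInv (R := K) (M := K)).comp ρ) ≫ inv E, ?_⟩
  rw [hρ', ← DiagRep.const_pt] at hρ
  rw [← cancel_mono E, ← cancel_epi (SemiAbLib.toGa K)]
  simp only [Category.assoc, IsIso.inv_hom_id, Category.comp_id]
  rw [hρ, ← Category.assoc (SemiAbLib.toGa K), comp_toUnit]

/-- A map from a vector group into a wound scheme, read in any affine scheme, is constant. -/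
theorem constant_of_wound (K : Type u) [Field K] [Algebra k K] [Infinite K] {r : ℕ} {B : Type u} [CommRing B]
    [HopfAlgebra k B] {W : Over (Spec (CommRingCat.of k))}
    (hW : ∀ φ : Red.Ga (Spec (CommRingCat.of K)) ⟶ Red.bc (DiagRep.baseHom k K) W,
      ∃ c : 𝟙_ (Over (Spec (CommRingCat.of K))) ⟶ Red.bc (DiagRep.baseHom k K) W, φ = toUnit _ ≫ c)
    (f : sp k (SymmetricAlgebra k (Fin r → k)) ⟶ W) (j : W ⟶ sp k B) (s : B →ₐ[k] SymmetricAlgebra k (Fin r → k))
    (hs : f ≫ j = pt s) : s = (Algebra.ofId k _).comp ((SymmetricAlgebra.algebraMapInv).comp s) := by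
  refine AlgHom.ext fun b => eq_algebraMap_of_lines K (s b) fun a => ?_
  let Λ : K ⊗[k] SymmetricAlgebra k (Fin r → k) →ₐ[K] SymmetricAlgebra K K :=
    Algebra.TensorProduct.lift (Algebra.ofId K _) (((polySym K).restrictScalars k).comp (line (k := k) a))
      fun _ _ => Commute.all _ _
  obtain ⟨c, hc⟩ := hW (inv (SemiAbLib.toGa K) ≫ pt Λ ≫ inv (DiagRep.bcHom k K (SymmetricAlgebra k (Fin r → k))) ≫
    (Over.pullback (DiagRep.baseHom k K)).map f)
  have h1 := congrArg (fun φ => SemiAbLib.toGa K ≫ φ ≫ (Over.pullback (DiagRep.baseHom k K)).map j ≫ DiagRep.bcHom k K B) hc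
  simp only [IsIso.hom_inv_id_assoc, Category.assoc] at h1
  rw [← Functor.map_comp_assoc, hs, DiagRep.map_bcHom, IsIso.inv_hom_id_assoc, ← pt_comp,
    ← Category.assoc (SemiAbLib.toGa K), comp_toUnit] at h1
  obtain ⟨γ, hγ⟩ := DiagRep.exists_const (R := K) (C := SymmetricAlgebra K K) (c ≫ (Over.pullback (DiagRep.baseHom k K)).map j ≫ DiagRep.bcHom k K B)
  rw [hγ] at h1
  have h2 := congrArg (symPoly K) (DFunLike.congr_fun (pt_injective h1) (1 ⊗ₜ b))
  refine ⟨γ (1 ⊗ₜ b), ?_⟩
  have h3 : symPoly K (polySym K (line (k := k) a (s b))) = line (k := k) a (s b) :=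
    DFunLike.congr_fun (symPoly_polySym K) _
  simpa [Λ, h3] using h2

end Groth.Agent.VecGrp
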